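import Cfsg.Agent.Lib.ConjFun.Quadratic

/-!
# A witness when `K∞(S)` is not normal, for any subgroup containing the `p`-core

The argument of `ConjFun.exists_witness`, which uses of the Sylow subgroup only that it contains
`O_p(G)`.
-/

set_option autoImplicit false

universe u

namespace Cfsg.Agent.FlavellQ

open scoped commutatorElement

variable {G : Type u} [Group G] [Finite G] {p : ℕ} [Fact p.Prime] {A : Subgroup G}

/-- If `K∞(S)` is not normal for a subgroup `S ⊇ O_p(G)`, some element of `S` outside `O_p(G)` is a witness. -/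
theorem exists_witness_of_le (hA : ConjFun.IsCritIn p A) S (hTS : Cfsg.pCore p G ≤ S)
    (hK : ¬ (Cfsg.inducedFunctor Cfsg.kInfLower S).Normal ∨
      ¬ (Cfsg.inducedFunctor Cfsg.kInfUpper S).Normal) :
    ∃ g, ConjFun.IsWitness p S A g := by
  by_contra hcon
  have hno : ∀ g, ¬ ConjFun.IsWitness p S A g := fun g hg => hcon ⟨g, hg⟩
  set T := Cfsg.pCore p G with hT
  have hAS : A ≤ S := hA.le.trans hTS
  set σ := S.subtype with hσ
  have hσi : Function.Injective σ := Subgroup.subtype_injective _
  have hAlow : ∀ R : Subgroup ↥S, A ≤ (sSup (Cfsg.kLowerStarFamily R)).map σ := by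
    intro R
    have hAm : (A.subgroupOf S).map σ = A := Subgroup.map_subgroupOf_eq_of_le hAS
    have h1 : A.subgroupOf S ∈ Cfsg.kLowerStarFamily R :=
      (KInf.map_mem_lower_iff hσi _ R).mp (by
        rw [hAm]
        exact ConjFun.mem_lower_self hA hno (Subgroup.map_subtype_le R))
    exact hAm.ge.trans (Subgroup.map_mono (le_sSup h1))
  have hupper : ∀ n, (Cfsg.kSeqOdd ↥S (n + 1)).map σ ≤ T := by
    intro n
    rw [KInf.kSeqOdd_succ, Subgroup.map_le_iff_le_comap]
    refine sSup_le fun C hC => ?_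
    rw [← Subgroup.map_le_iff_le_comap]
    exact ConjFun.upper_le hA hno (hAlow _) (Subgroup.map_subtype_le C)
      ((KInf.map_mem_upper_iff hσi C _).mpr hC)
  have hlower' : ∀ n, A ≤ (Cfsg.kSeqOdd ↥S n).map σ →
      (Cfsg.kSeqEven ↥S n).map σ ≤ T := by
    intro n hn
    rw [KInf.kSeqEven_eq, Subgroup.map_le_iff_le_comap]
    refine sSup_le fun B hB => ?_
    rw [← Subgroup.map_le_iff_le_comap]
    exact ConjFun.lower_le hA hno hn (Subgroup.map_subtype_le B) ((KInf.map_mem_lower_iff hσi B _).mpr hB)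
  have hAodd : ∀ n, A ≤ (Cfsg.kSeqOdd ↥S n).map σ := by
    intro n
    induction n with
    | zero =>
      rw [KInf.kSeqOdd_zero, ← MonoidHom.range_eq_map, hσ, Subgroup.range_subtype]
      exact hAS
    | succ n ih =>
      have hAm : (A.subgroupOf S).map σ = A := Subgroup.map_subgroupOf_eq_of_le hAS
      have h1 : A.subgroupOf S ∈
          Cfsg.kUpperStarFamily (Cfsg.kSeqEven ↥S n) :=
        (KInf.map_mem_upper_iff hσi _ _).mp (by
          rw [hAm]
          refine ⟨hA.classTwo, ?_⟩
          rw [Subgroup.commutator_comm]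
          exact (Subgroup.commutator_mono (hlower' n ih) le_rfl).trans hA.comm)
      rw [KInf.kSeqOdd_succ]
      exact hAm.ge.trans (Subgroup.map_mono (le_sSup h1))
  set f := Subgroup.inclusion hTS with hf
  have hfi : Function.Injective f := Subgroup.inclusion_injective hTS
  have hr : ∀ n : ℕ, Cfsg.kSeqEven ↥S n ≤ f.range ∧
      Cfsg.kSeqOdd ↥S (n + 1) ≤ f.range := by
    intro n
    refine ⟨fun x hx => ?_, fun x hx => ?_⟩
    · exact ⟨⟨x, hlower' n (hAodd n) ⟨x, hx, rfl⟩⟩, rfl⟩
    · exact ⟨⟨x, hupper n ⟨x, hx, rfl⟩⟩, rfl⟩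
  have key : ∀ K : Subgroup ↥T, K.Characteristic → (K.map T.subtype).Normal := fun K _ =>
    ConjAct.normal_of_characteristic_of_normal
  rcases hK with h | h
  · refine h ?_
    rw [Cfsg.inducedFunctor, ← KInf.map_kInfLower hfi hr, Subgroup.map_map]
    exact key _ KInf.kInfLower_characteristic
  · refine h ?_
    rw [Cfsg.inducedFunctor, ← KInf.map_kInfUpper hfi hr, Subgroup.map_map]
    exact key _ KInf.kInfUpper_characteristic

end Cfsg.Agent.FlavellQ
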