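import Cfsg.Agent.Lib.FlavellQ.Chief
import Cfsg.Agent.Lib.FlavellQ.Witness
import Cfsg.Agent.Lib.Components.GenFitting

/-!
# A characteristic subgroup of the intersection of the invariant Sylow subgroups

`normal_inducedFunctor_kInfLower`: for `p > 3` and `C(O_p(H)) ≤ O_p(H)`, the subgroup `K∞` of an
operator-invariant subgroup over `O_p(H)` inside all invariant Sylow subgroups is normal.
-/

set_option autoImplicit false
set_option linter.unusedSectionVars false

universe u

namespace Cfsg.Agent.FlavellQ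

open Cfsg
open SemidirectProduct

variable {H : Type u} [Group H] [Finite H] {p r : ℕ} [Fact p.Prime] [Fact r.Prime]
variable {Rb : Subgroup (MulAut H)}

/-- The extension of `H` by the operators. -/
abbrev Ext (Rb : Subgroup (MulAut H)) := H ⋊[Rb.subtype] Rb

instance : Finite (Ext Rb) :=
  Finite.of_injective (fun x => (x.left, x.right)) fun x y h =>
    SemidirectProduct.ext (congrArg Prod.fst h) (congrArg Prod.snd h)

theorem inl_apply_mem {S : Subgroup (Ext Rb)}
    (hS : (inr : Rb →* Ext Rb).range ≤ Subgroup.normalizer (S : Set (Ext Rb))) {σ : Rb} {x : H}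
    (hx : inl x ∈ S) : inl ((σ : MulAut H) x) ∈ S := by
  have h1 := (Subgroup.mem_normalizer_iff.1 (hS ⟨σ, rfl⟩) (inl x)).1 hx
  have h2 := inl_aut (φ := Rb.subtype) σ x
  rw [Subgroup.coe_subtype, map_inv] at h2
  rwa [h2]

theorem normal_map_inl {T : Subgroup H} [hT : T.Normal] (hinv : ∀ σ ∈ Rb, ∀ x ∈ T, σ x ∈ T) :
    (T.map (inl : H →* Ext Rb)).Normal := by
  refine ⟨?_⟩
  rintro _ ⟨t, ht, rfl⟩ x
  refine ⟨x.left * (x.right : MulAut H) t * x.left⁻¹, hT.conj_mem _ (hinv _ x.right.2 t ht) _, ?_⟩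
  conv_rhs => rw [← inl_left_mul_inr_right x]
  rw [map_mul, map_mul, map_inv, _root_.mul_inv_rev]
  have h2 := inl_aut (φ := Rb.subtype) x.right t
  rw [Subgroup.coe_subtype, map_inv] at h2
  rw [h2]
  group

theorem normal_range_inl : (inl : H →* Ext Rb).range.Normal := by
  rw [range_inl_eq_ker_rightHom]
  infer_instance

theorem pCore_ext (hpr : (Nat.card Rb).Coprime p) :
    Cfsg.pCore p (Ext Rb) = (Cfsg.pCore p H).map inl := by
  refine le_antisymm ?_ ?_
  · intro x hx
    obtain ⟨k, hk⟩ := PCore.isPGroup_pCore (⟨x, hx⟩ : Cfsg.pCore p (Ext Rb))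
    have hk' : x ^ p ^ k = 1 := congrArg Subtype.val hk
    have h1 : x.right = 1 := by
      have h2 : orderOf x.right ∣ p ^ k := orderOf_dvd_of_pow_eq_one (by
        rw [← rightHom_eq_right, ← map_pow, hk', map_one])
      exact orderOf_eq_one_iff.1
        (Nat.eq_one_of_dvd_coprimes (hpr.pow_right k) (orderOf_dvd_natCard _) h2)
    haveI : ((Cfsg.pCore p (Ext Rb)).comap (inl : H →* Ext Rb)).Normal := inferInstance
    have hle := PCore.le_pCore (N := (Cfsg.pCore p (Ext Rb)).comap (inl : H →* Ext Rb))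
      (PCore.isPGroup_pCore.comap_of_injective _ inl_injective)
    have hxe : inl x.left = x := by
      conv_rhs => rw [← inl_left_mul_inr_right x, h1, map_one, mul_one]
    exact ⟨x.left, hle (by rw [Subgroup.mem_comap, hxe]; exact hx), hxe⟩
  · haveI := normal_map_inl (Rb := Rb) (T := Cfsg.pCore p H) fun σ _ x hx =>
      (PCore.mem_pCore_congr σ).2 hx
    exact PCore.le_pCore (PCore.isPGroup_pCore.map _)

theorem centralizer_pCore_ext (hr : IsPGroup r Rb) (hrn : (Nat.card H).Coprime r)
    (hpr : (Nat.card Rb).Coprime p)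
    (hC : Subgroup.centralizer ((Cfsg.pCore p H : Subgroup H) : Set H) ≤ Cfsg.pCore p H) :
    Subgroup.centralizer ((Cfsg.pCore p (Ext Rb) : Subgroup (Ext Rb)) : Set (Ext Rb)) ≤
      Cfsg.pCore p (Ext Rb) := by
  have hcop : (Nat.card Rb).Coprime (Nat.card H) := by
    obtain ⟨i, hi⟩ := hr.exists_card_eq
    rw [hi]
    exact hrn.symm.pow_left i
  set C := Subgroup.centralizer ((Cfsg.pCore p (Ext Rb) : Subgroup (Ext Rb)) : Set (Ext Rb)) with hCdef
  haveI hCn : C.Normal := Subgroup.normal_centralizer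
  set n := Nat.card H
  set m := Nat.card Rb
  -- no operator lies in `C`
  have hop : ∀ σ : Rb, inr σ ∈ C → σ = 1 := by
    intro σ hσ
    have hfix : ∀ t ∈ Cfsg.pCore p H, (σ : MulAut H) t = t := fun t ht => by
      refine inl_injective (φ := Rb.subtype) ?_
      have h2 := inl_aut (φ := Rb.subtype) σ t
      rw [Subgroup.coe_subtype, map_inv] at h2
      rw [h2, ← Subgroup.mem_centralizer_iff.1 hσ (inl t) (by rw [pCore_ext hpr]; exact ⟨t, ht, rfl⟩),
        mul_inv_cancel_right]
    refine Subtype.ext (MulEquiv.ext fun h => ?_)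
    set z := h⁻¹ * (σ : MulAut H) h with hz
    have hzT : z ∈ Cfsg.pCore p H := hC <| Subgroup.mem_centralizer_iff.2 fun t ht => by
      have h1 := hfix _ ((inferInstance : (Cfsg.pCore p H).Normal).conj_mem t ht h)
      rw [map_mul, map_mul, map_inv, hfix t ht] at h1
      rw [hz]
      calc t * (h⁻¹ * (σ : MulAut H) h) = h⁻¹ * (h * t * h⁻¹) * (σ : MulAut H) h := by group
        _ = h⁻¹ * ((σ : MulAut H) h * t * ((σ : MulAut H) h)⁻¹) * (σ : MulAut H) h := by rw [h1]
        _ = h⁻¹ * (σ : MulAut H) h * t := by group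
    have hpow : ∀ j : ℕ, ((σ : MulAut H) ^ j) h = h * z ^ j := by
      intro j
      induction j with
      | zero => simp
      | succ j ih =>
        rw [pow_succ', MulAut.mul_apply, ih, map_mul, map_pow, hfix z hzT, pow_succ', ← mul_assoc h,
          show h * z = (σ : MulAut H) h by rw [hz, mul_inv_cancel_left]]
    have h1 := hpow (orderOf σ)
    rw [← Subgroup.coe_pow, pow_orderOf_eq_one] at h1
    have h2 : z ^ orderOf σ = 1 := by simpa using h1
    have h3 : orderOf z = 1 := Nat.eq_one_of_dvd_coprimes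
      ((hcop.symm).coprime_dvd_right (orderOf_dvd_natCard σ)) (orderOf_dvd_natCard z)
      (orderOf_dvd_of_pow_eq_one h2)
    rw [orderOf_eq_one_iff, hz, inv_mul_eq_one] at h3
    exact h3.symm
  have hR : IsSyl r (⊤ : Subgroup (Ext Rb)) (inr : Rb →* Ext Rb).range := by
    refine ⟨le_top, ?_, fun T hT _ hTr x hx => ?_⟩
    · exact (hr.of_equiv (MonoidHom.ofInjective inr_injective))
    · have h1 : inl x.left ∈ T := by
        have h2 : x * (inr x.right)⁻¹ ∈ T := T.mul_mem hx (T.inv_mem (hT ⟨_, rfl⟩))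
        nth_rewrite 1 [← inl_left_mul_inr_right x] at h2
        rwa [mul_inv_cancel_right] at h2
      obtain ⟨k, hk⟩ := hTr ⟨_, h1⟩
      have h2 : (inl x.left : Ext Rb) ^ r ^ k = 1 := congrArg Subtype.val hk
      have h3 : x.left = 1 := by
        rw [← map_pow, ← map_one (inl : H →* Ext Rb)] at h2
        exact orderOf_eq_one_iff.1 (Nat.eq_one_of_dvd_coprimes (hrn.symm.pow_left k)
          (orderOf_dvd_of_pow_eq_one (inl_injective h2)) (orderOf_dvd_natCard _))
      exact ⟨x.right, by conv_rhs => rw [← inl_left_mul_inr_right x, h3, map_one, one_mul]⟩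
  intro x hx
  have hright : x.right = 1 := by
    obtain ⟨k, hk⟩ := exists_pow_eq_self_of_coprime
      (hcop.symm.coprime_dvd_right (orderOf_dvd_natCard x.right))
    set y := (x ^ n) ^ k with hy
    have hyC : y ∈ C := pow_mem (pow_mem hx n) k
    have hyr : y.right = x.right := by
      rw [← rightHom_eq_right, hy, map_pow, map_pow, rightHom_eq_right]
      exact hk
    have hym : y ^ m = 1 := by
      obtain ⟨h, hh⟩ : x ^ m ∈ (inl : H →* Ext Rb).range := by
        rw [range_inl_eq_ker_rightHom, MonoidHom.mem_ker, map_pow]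
        exact pow_card_eq_one'
      rw [hy, ← pow_mul, ← pow_mul, show n * (k * m) = m * n * k by ring, pow_mul, pow_mul, ← hh,
        ← map_pow, ← map_pow, pow_card_eq_one', one_pow, map_one]
    obtain ⟨i, hi⟩ := hr.exists_card_eq
    have hyp : IsPGroup r (Subgroup.zpowers y) := by
      obtain ⟨j, -, hj⟩ := (Nat.dvd_prime_pow (Fact.out : r.Prime)).1
        (hi ▸ orderOf_dvd_of_pow_eq_one hym : orderOf y ∣ r ^ i)
      exact IsPGroup.of_card (n := j) (by rw [Nat.card_zpowers, hj])
    obtain ⟨g, -, hle⟩ := hR.exists_conj_le le_top hyp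
    obtain ⟨σ, hσ⟩ := hle (Subgroup.smul_mem_pointwise_smul _ (MulAut.conj g) _ (Subgroup.mem_zpowers y))
    rw [MulAut.smul_def, MulAut.conj_apply] at hσ
    have hσ1 := hop σ (hσ ▸ hCn.conj_mem y hyC g)
    rw [hσ1, map_one, eq_comm, conj_eq_one_iff] at hσ
    rw [← hyr, hσ, one_right]
  have hxe : inl x.left = x := by
    conv_rhs => rw [← inl_left_mul_inr_right x, hright, map_one, mul_one]
  rw [pCore_ext hpr]
  refine ⟨x.left, hC (Subgroup.mem_centralizer_iff.2 fun t ht => inl_injective (φ := Rb.subtype) ?_), hxe⟩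
  rw [map_mul, map_mul, hxe]
  exact Subgroup.mem_centralizer_iff.1 hx _ (by rw [pCore_ext hpr]; exact ⟨t, ht, rfl⟩)

/-- **`K∞` of the intersection of the invariant Sylow subgroups is normal.** -/
theorem normal_inducedFunctor_kInfLower (hp : 3 < p) (hr : IsPGroup r Rb)
    (hrn : (Nat.card H).Coprime r) (hpr : (Nat.card Rb).Coprime p)
    (hC : Subgroup.centralizer ((Cfsg.pCore p H : Subgroup H) : Set H) ≤ Cfsg.pCore p H)
    {P : Subgroup H} (hTP : Cfsg.pCore p H ≤ P)
    (hall : ∀ g ∈ P, ∀ S : Sylow p H, (∀ σ ∈ Rb, ∀ x ∈ (S : Subgroup H), σ x ∈ (S : Subgroup H)) →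
      g ∈ (S : Subgroup H)) :
    (Cfsg.inducedFunctor Cfsg.kInfLower P).Normal := by
  haveI := normal_range_inl (Rb := Rb)
  have hcop : (Nat.card Rb).Coprime (Nat.card H) := by
    obtain ⟨i, hi⟩ := hr.exists_card_eq
    rw [hi]
    exact hrn.symm.pow_left i
  set N := (inl : H →* Ext Rb).range
  set R := (inr : Rb →* Ext Rb).range
  set S := P.map (inl : H →* Ext Rb) with hS
  obtain ⟨A, hA⟩ := ConjFun.exists_isCritIn (Ext Rb) p
  have hmapS : Cfsg.inducedFunctor Cfsg.kInfLower S =
      (Cfsg.inducedFunctor Cfsg.kInfLower P).map (inl : H →* Ext Rb) := by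
    rw [Cfsg.inducedFunctor, Cfsg.inducedFunctor,
      ← KInf.map_kInfLower_equiv (P.equivMapOfInjective (inl : H →* Ext Rb) inl_injective),
      Subgroup.map_map, Subgroup.map_map]
    rfl
  by_cases hn : (Cfsg.inducedFunctor Cfsg.kInfLower S).Normal
  · refine ⟨fun c hc g => ?_⟩
    rw [hmapS] at hn
    obtain ⟨d, hd, he⟩ := hn.conj_mem _ ⟨c, hc, rfl⟩ (inl g)
    rw [← map_inv, ← map_mul, ← map_mul] at he
    exact (inl_injective he) ▸ hd
  exfalso
  obtain ⟨g, hgS, -, -, -, -, hquad⟩ := exists_witness_of_le hA S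
    (by rw [pCore_ext hpr]; exact Subgroup.map_mono hTP) (Or.inl hn)
  obtain ⟨g0, hg0, rfl⟩ := hgS
  have hRcard : Nat.card R = Nat.card Rb :=
    (Nat.card_congr (MonoidHom.ofInjective inr_injective).toEquiv).symm
  have hNcard : Nat.card N = Nat.card H :=
    (Nat.card_congr (MonoidHom.ofInjective inl_injective).toEquiv).symm
  have hsol : Group.IsSolvable R := by
    have hRr : IsPGroup r R := hr.of_equiv (MonoidHom.ofInjective inr_injective)
    haveI := hRr.isNilpotent
    infer_instance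
  refine not_hasQuadFactor hp (N := N) (R := R) (by rw [hRcard, hNcard]; exact hcop) hsol
    (PCore.isPGroup_pCore.to_le hA.le) ⟨g0, rfl⟩ ?_ (hquad (centralizer_pCore_ext hr hrn hpr hC))
  intro T hT hTR
  let S0 : Sylow p H :=
    { toSubgroup := T.comap (inl : H →* Ext Rb)
      isPGroup' := hT.isP.comap_of_injective _ inl_injective
      is_maximal' := fun {Q} hQ hle => by
        refine le_antisymm ?_ hle
        rw [← Subgroup.map_le_iff_le_comap]
        refine hT.max _ ?_ (Subgroup.map_le_range _ _) (hQ.map _)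
        intro y hy
        obtain ⟨z, rfl⟩ := hT.le hy
        exact ⟨z, hle hy, rfl⟩ }
  exact hall g0 hg0 S0 fun σ hσ x hx => inl_apply_mem hTR (σ := ⟨σ, hσ⟩) hx

end Cfsg.Agent.FlavellQ
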