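import Cfsg.Agent.Lib.Coprime.Sylow

/-!
# Sylow subgroups of a subgroup, as maximal `p`-subgroups
-/

set_option autoImplicit false
set_option linter.unusedSectionVars false

namespace Cfsg.Agent.FlavellQ

open scoped Pointwise
open Subgroup

universe u v

variable {X : Type u} [Group X] [Finite X] {p : ℕ} [Fact p.Prime] {H K S T : Subgroup X}

/-- A maximal `p`-subgroup of `H`. -/
structure IsSyl (p : ℕ) (H S : Subgroup X) : Prop where
  le : S ≤ H
  isP : IsPGroup p S
  max : ∀ T : Subgroup X, S ≤ T → T ≤ H → IsPGroup p T → T ≤ S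

theorem isSyl_map (P : Sylow p H) : IsSyl p H ((P : Subgroup H).map H.subtype) :=
  ⟨map_subtype_le _, P.isPGroup'.map _, fun T hST hTH hT x hx => by
    have h := P.3 (hT.of_equiv (subgroupOfEquivOfLe hTH).symm) fun y hy => hST ⟨y, hy, rfl⟩
    exact ⟨⟨x, hTH hx⟩, h ▸ hx, rfl⟩⟩

theorem IsSyl.exists_sylow (h : IsSyl p H S) : ∃ P : Sylow p H, (P : Subgroup H).map H.subtype = S := by
  obtain ⟨P, hP⟩ := (h.isP.of_equiv (subgroupOfEquivOfLe h.le).symm).exists_le_sylow
  have h1 : S ≤ (P : Subgroup H).map H.subtype := fun x hx => ⟨⟨x, h.le hx⟩, hP hx, rfl⟩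
  exact ⟨P, (h.max _ h1 (map_subtype_le _) (P.isPGroup'.map _)).antisymm h1⟩

theorem IsSyl.exists_conj (hS : IsSyl p H S) (hT : IsSyl p H T) :
    ∃ h ∈ H, MulAut.conj h • S = T := by
  obtain ⟨P, rfl⟩ := hS.exists_sylow
  obtain ⟨Q, rfl⟩ := hT.exists_sylow
  obtain ⟨g, rfl⟩ := MulAction.exists_smul_eq H P Q
  exact ⟨g, g.2, by rw [Sylow.coe_subgroup_smul, Coprime.map_conj_smul, H.coe_subtype]⟩

theorem IsSyl.exists_conj_le (hS : IsSyl p H S) {U : Subgroup X} (hU : U ≤ H)
    (hUp : IsPGroup p U) : ∃ h ∈ H, MulAut.conj h • U ≤ S := by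
  obtain ⟨P, hP⟩ := (hUp.of_equiv (subgroupOfEquivOfLe hU).symm).exists_le_sylow
  obtain ⟨h, hh, he⟩ := (isSyl_map P).exists_conj hS
  refine ⟨h, hh, he ▸ ?_⟩
  exact pointwise_smul_le_pointwise_smul_iff.2 fun x hx => ⟨⟨x, hU hx⟩, hP hx, rfl⟩

theorem card_conj (g : X) (U : Subgroup X) : Nat.card (MulAut.conj g • U : Subgroup X) = Nat.card U :=
  (Nat.card_congr (equivSMul (MulAut.conj g) U).toEquiv).symm

theorem isPGroup_conj {U : Subgroup X} (hU : IsPGroup p U) (g : X) :
    IsPGroup p (MulAut.conj g • U : Subgroup X) := hU.of_equiv (equivSMul _ _)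

theorem IsSyl.card_eq (hS : IsSyl p H S) (hT : IsSyl p H T) : Nat.card S = Nat.card T := by
  obtain ⟨h, -, rfl⟩ := hS.exists_conj hT
  rw [card_conj]

theorem isSyl_of_card_ge (hS : IsSyl p H S) (hT : IsPGroup p T) (hTH : T ≤ H)
    (h : Nat.card S ≤ Nat.card T) : IsSyl p H T := by
  refine ⟨hTH, hT, fun U hTU hUH hU => (eq_of_le_of_card_ge hTU ?_).ge⟩
  obtain ⟨g, -, hg⟩ := hS.exists_conj_le hUH hU
  have := card_le_of_le hg
  rw [card_conj] at this
  omega

theorem conj_smul_eq_of_mem_normalizer {g : X} (hg : g ∈ normalizer (K : Set X)) :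
    MulAut.conj g • K = K := Coprime.conj_smul_eq_self_of_mem hg

/-- A Sylow subgroup meets a normal subgroup in a Sylow subgroup of it. -/
theorem IsSyl.inf_normal (hS : IsSyl p H S) (hKH : K ≤ H) (hHK : H ≤ normalizer (K : Set X)) :
    IsSyl p K (S ⊓ K) := by
  obtain ⟨Q, -⟩ : ∃ Q : Sylow p K, True := ⟨default, trivial⟩
  have hQ := isSyl_map Q
  obtain ⟨g, hg, hle⟩ := hS.exists_conj_le (hQ.le.trans hKH) hQ.isP
  refine isSyl_of_card_ge hQ (hS.isP.to_le inf_le_left) inf_le_right ?_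
  have h2 : MulAut.conj g • (Q : Subgroup K).map K.subtype ≤ S ⊓ K :=
    le_inf hle ((pointwise_smul_le_pointwise_smul_iff.2 hQ.le).trans
      (conj_smul_eq_of_mem_normalizer (hHK hg)).le)
  have := card_le_of_le h2
  rwa [card_conj] at this

/-- An invariant Sylow subgroup over an invariant `p`-subgroup. -/
theorem exists_isSyl_ge {A : Subgroup X} (hA : A ≤ normalizer (H : Set X))
    (hcop : (Nat.card A).Coprime (Nat.card H)) (hs : Group.IsSolvable A) {U : Subgroup X}
    (hU : U ≤ H) (hUp : IsPGroup p U) (hUA : A ≤ normalizer (U : Set X)) :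
    ∃ S, IsSyl p H S ∧ A ≤ normalizer (S : Set X) ∧ U ≤ S := by
  obtain ⟨P, h1, h2⟩ := Coprime.exists_invariant_sylow_ge hA hcop (.inl hs) hU hUp hUA
  exact ⟨_, isSyl_map P, h2, h1⟩

theorem exists_isSyl {A : Subgroup X} (hA : A ≤ normalizer (H : Set X))
    (hcop : (Nat.card A).Coprime (Nat.card H)) (hs : Group.IsSolvable A) :
    ∃ S, IsSyl p H S ∧ A ≤ normalizer (S : Set X) := by
  obtain ⟨P, h2⟩ := Coprime.exists_invariant_sylow hA hcop (.inl hs) p
  exact ⟨_, isSyl_map P, h2⟩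

/-- Invariant Sylow subgroups of an image lift. -/
theorem exists_isSyl_map {Y : Type v} [Group Y] [Finite Y] {A : Subgroup X} (φ : X →* Y)
    (hA : A ≤ normalizer (H : Set X)) (hcop : (Nat.card A).Coprime (Nat.card H))
    (hs : Group.IsSolvable A) {T : Subgroup Y} (hT : IsSyl p (H.map φ) T)
    (hTA : A.map φ ≤ normalizer (T : Set Y)) :
    ∃ S, IsSyl p H S ∧ A ≤ normalizer (S : Set X) ∧ S.map φ = T := by
  set L := H ⊓ T.comap φ with hL
  have hLA : A ≤ normalizer (L : Set X) := by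
    refine Coprime.le_normalizer_inf_of_le hA fun a ha => mem_normalizer_iff.2 fun x => ?_
    rw [mem_comap, mem_comap, map_mul, map_mul, map_inv]
    exact mem_normalizer_iff.1 (hTA ⟨a, ha, rfl⟩) _
  obtain ⟨S, hS, hSA⟩ := exists_isSyl (p := p) hLA
    (hcop.coprime_dvd_right (card_dvd_of_le inf_le_left)) hs
  obtain ⟨S', hS', hS'A, hle⟩ := exists_isSyl_ge hA hcop hs (hS.le.trans inf_le_left) hS.isP hSA
  refine ⟨S', hS', hS'A, ?_⟩
  -- a Sylow subgroup of `H` maps onto a Sylow subgroup of the image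
  obtain ⟨P, hP⟩ := hS'.exists_sylow
  have hsyl : IsSyl p (H.map φ) (S'.map φ) := by
    let ψ := φ.subgroupMap H
    have hψ : Function.Surjective ψ := φ.subgroupMap_surjective H
    have h := isSyl_map (P.mapSurjective hψ)
    rw [Sylow.coe_mapSurjective, map_map] at h
    rwa [show (H.map φ).subtype.comp ψ = φ.comp H.subtype from rfl, ← map_map, hP] at h
  have hle' : T ≤ S'.map φ := by
    intro t ht
    obtain ⟨x, hxH, rfl⟩ := hT.le ht
    -- `x` has a conjugate by an element of `L` in `S`, and `S` maps into `T`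
    have hSmap : S.map φ = T := by
      have hLmap : L.map φ = T := le_antisymm (map_le_iff_le_comap.2 inf_le_right) fun y hy => by
        obtain ⟨z, hz, rfl⟩ := hT.le hy
        exact ⟨z, ⟨hz, hy⟩, rfl⟩
      obtain ⟨Q, hQ⟩ := hS.exists_sylow
      have h := isSyl_map (Q.mapSurjective (φ.subgroupMap_surjective L))
      rw [Sylow.coe_mapSurjective, map_map,
        show (L.map φ).subtype.comp (φ.subgroupMap L) = φ.comp L.subtype from rfl, ← map_map, hQ,
        hLmap] at h
      exact (h.max T h.le le_rfl hT.isP).antisymm' h.le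
    rw [← hSmap] at ht
    exact Subgroup.map_mono hle ht
  exact (hT.max _ hle' hsyl.le hsyl.isP).antisymm hle'

end Cfsg.Agent.FlavellQ
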