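import Cfsg.Agent.Lib.FlavellQ.Tuple
import Cfsg.Agent.Lib.FlavellQ.Syl
import Cfsg.Agent.Lib.QuadPair.Groups
import Cfsg.Agent.Lib.QuadPair.Decompose

/-!
# Tuples centralised by the quadratic elements of a Sylow subgroup

* `exists_fixed_root`: every class has an element centralised by the quadratic elements of a Sylow
  subgroup;
* `exists_fixed_tuple`: an operator group of coprime order fixes such a tuple.
-/

set_option autoImplicit false
set_option linter.unusedSectionVars false

universe u v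

namespace Cfsg.Agent.FlavellQ

open Cfsg Cfsg.Agent.QuadPair
open scoped Pointwise

/-- A conjugation-closed generating set of a nilpotent group meets the normalizer of a proper
subgroup generated by some of it outside that subgroup. -/
theorem exists_normalizing {X : Type v} [Group X] [Finite X] {Q T : Set X}
    (hnil : Group.IsNilpotent (Subgroup.closure Q))
    (hconj : ∀ g ∈ Subgroup.closure Q, ∀ q ∈ Q, g * q * g⁻¹ ∈ Q) (hT : T ⊆ Q)
    (hTc : ∀ q ∈ Q, q ∈ Subgroup.closure T → q ∈ T) (hne : ¬ Q ⊆ T) :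
    ∃ q ∈ Q, q ∉ T ∧ q ∈ Subgroup.normalizer ((Subgroup.closure T : Subgroup X) : Set X) := by
  set W := Subgroup.closure Q
  set N := Subgroup.closure T
  set D := W ⊓ Subgroup.normalizer (N : Set X)
  have hNW : N ≤ W := Subgroup.closure_mono hT
  obtain ⟨q, hq, hqn⟩ := Set.not_subset.1 hne
  by_cases hD : W ≤ Subgroup.normalizer (N : Set X)
  · exact ⟨q, hq, hqn, hD (Subgroup.subset_closure hq)⟩
  have hlt : D.subgroupOf W < ⊤ := by
    rw [lt_top_iff_ne_top, Ne, Subgroup.subgroupOf_eq_top]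
    exact fun h => hD (h.trans inf_le_right)
  obtain ⟨g, hgN, hgD⟩ := SetLike.exists_of_lt (Group.normalizerCondition_of_isNilpotent _ hlt)
  have hgD' : (g : X) ∉ Subgroup.normalizer (N : Set X) := fun h => hgD ⟨g.2, h⟩
  obtain ⟨t, ht, htn⟩ : ∃ t ∈ T, (g : X) * t * (g : X)⁻¹ ∉ N := by
    by_contra h
    push Not at h
    refine hgD' (Coprime.mem_normalizer_of_conj_smul_eq ?_)
    refine Subgroup.eq_of_le_of_card_ge ?_ (card_conj _ _).ge
    rw [Subgroup.pointwise_smul_subset_iff]
    refine (Subgroup.closure_le _).2 fun t ht => ?_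
    rw [SetLike.mem_coe, Subgroup.mem_inv_pointwise_smul_iff]
    exact h t ht
  refine ⟨_, hconj g g.2 t (hT ht), fun h => htn (Subgroup.subset_closure h), ?_⟩
  have h1 := (Subgroup.mem_normalizer_iff.1 hgN ⟨t, hNW (Subgroup.subset_closure ht)⟩).1
    ⟨hNW (Subgroup.subset_closure ht), Subgroup.le_normalizer (Subgroup.subset_closure ht)⟩
  exact h1.2

variable {p : ℕ} [Fact p.Prime] {M : Type u} [AddCommGroup M] [Module (ZMod p) M] [Finite M]

local notation "GLM" => LinearMap.GeneralLinearGroup (ZMod p) M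
local notation "EndM" => Module.End (ZMod p) M

variable {G : Subgroup (LinearMap.GeneralLinearGroup (ZMod p) M)}

/-- The quadratic elements of a subgroup. -/
def quads (S : Subgroup GLM) : Set GLM := {q | q ∈ S ∧ ((q : EndM) - 1) * ((q : EndM) - 1) = 0}

theorem quads_conj {S : Subgroup GLM} {g q : GLM}
    (hg : g ∈ Subgroup.normalizer (S : Set GLM)) (hq : q ∈ quads S) : g * q * g⁻¹ ∈ quads S :=
  ⟨(Subgroup.mem_normalizer_iff.1 hg q).1 hq.1, by rw [← cj_sub_one, ← cj_mul, hq.2, cj_zero]⟩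

theorem quads_inv {S : Subgroup GLM} {q : GLM} (hq : q ∈ quads S) : q⁻¹ ∈ quads S :=
  ⟨S.inv_mem hq.1, by rw [inv_sub_one hq.2, neg_mul_neg, hq.2]⟩

theorem mem_normalizer_closure_quads {S : Subgroup GLM} {g : GLM}
    (hg : g ∈ Subgroup.normalizer (S : Set GLM)) :
    g ∈ Subgroup.normalizer ((Subgroup.closure (quads S) : Subgroup GLM) : Set GLM) := by
  refine Coprime.mem_normalizer_of_conj_smul_eq (Subgroup.eq_of_le_of_card_ge ?_ (card_conj _ _).ge)
  rw [Subgroup.pointwise_smul_subset_iff]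
  refine (Subgroup.closure_le _).2 fun t ht => ?_
  rw [SetLike.mem_coe, Subgroup.mem_inv_pointwise_smul_iff]
  exact Subgroup.subset_closure (quads_conj hg ht)

theorem closure_quads_le (S : Subgroup GLM) : Subgroup.closure (quads S) ≤ S :=
  (Subgroup.closure_le _).2 fun _ h => h.1

theorem finrank_bracket_le {a x : EndM} (hx : x * x = 0) (h : x * a * x = 0) :
    rk (a * x - x * a) ≤ rk a := by
  have hr : LinearMap.range (a * x - x * a) ≤ flat x (LinearMap.range a) := by
    rintro _ ⟨m, rfl⟩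
    refine sub_mem (Submodule.mem_sup_right ⟨⟨x m, rfl⟩, ?_⟩)
      (Submodule.mem_sup_left ⟨a m, ⟨m, rfl⟩, rfl⟩)
    have h5 : x (a (x m)) = 0 := DFunLike.congr_fun h m
    show x (a (x m)) ∈ LinearMap.range a
    rw [h5]
    exact Submodule.zero_mem _
  refine (Submodule.finrank_mono hr).trans ?_
  rw [finrank_flat hx]
  rfl

variable (hp : 3 < p)
include hp

/-- A quadratic element fixing a root fixes its root space. -/
theorem cj_eq_of_mem_vsp {a : EndM} (ha : IsMin G a) {g : GLM} (hg : g ∈ G)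
    (hq : ((g : EndM) - 1) * ((g : EndM) - 1) = 0) (hfix : cj g a = a) {d : EndM}
    (hd : d ∈ vsp G a) : cj g d = d := by
  set x := (g : EndM) - 1 with hxdef
  have hge : g = onePlus x hq := eq_onePlus hq (add_sub_cancel _ _).symm
  have hA : cj g d ∈ vsp G a := by
    have := cj_mem_vsp hg ha.sq hd
    rwa [hfix] at this
  have hB : cj g⁻¹ d ∈ vsp G a := by
    have := cj_mem_vsp (G.inv_mem hg) ha.sq hd
    rwa [cj_fix_iff_inv hfix] at this
  have eA : cj g d = d + (x * d - d * x) - x * d * x := by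
    rw [cj, hge, coe_onePlus, coe_onePlus_inv]
    noncomm_ring
  have eB : cj g⁻¹ d = d - (x * d - d * x) - x * d * x := by
    rw [cj, inv_inv, hge, coe_onePlus, coe_onePlus_inv]
    noncomm_ring
  have hxa : x * a = a * x := by
    have h1 := cj_eq_self_iff.1 hfix
    rw [hge, coe_onePlus, add_mul, one_mul, mul_add, mul_one] at h1
    exact add_left_cancel h1
  have hv : x * d * x ∈ vsp G a := by
    refine (Submodule.smul_mem_iff _ (two_ne hp)).1 ?_
    rw [show (2 : ZMod p) • (x * d * x) = (2 : ZMod p) • d - cj g d - cj g⁻¹ d by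
      rw [eA, eB]; module]
    exact sub_mem (sub_mem ((vsp G a).smul_mem _ hd) hA) hB
  have hδ : x * d - d * x ∈ vsp G a := by
    refine (Submodule.smul_mem_iff _ (two_ne hp)).1 ?_
    rw [show (2 : ZMod p) • (x * d - d * x) = cj g d - cj g⁻¹ d by rw [eA, eB]; module]
    exact sub_mem hA hB
  have hxx : ∀ m, x (x m) = 0 := fun m => DFunLike.congr_fun hq m
  have hdr : LinearMap.range d ≤ LinearMap.range a := ((mem_vsp_iff ha.sq).1 hd).2.1
  have hdk : LinearMap.ker a ≤ LinearMap.ker d := ((mem_vsp_iff ha.sq).1 hd).2.2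
  have hv0 : x * d * x = 0 := by
    by_contra hne
    obtain ⟨-, hr, -⟩ := ha.of_mem_vsp hv hne
    have h0 : x * d = 0 := LinearMap.ext fun m => by
      obtain ⟨n, hn⟩ := hr.ge (hdr (LinearMap.mem_range_self d m))
      rw [Module.End.mul_apply, ← hn]
      exact hxx _
    exact hne (by rw [h0, zero_mul])
  have hδ0 : x * d - d * x = 0 := by
    by_contra hne
    obtain ⟨-, hr, hk⟩ := ha.of_mem_vsp hδ hne
    have e1 : x * (x * d - d * x) = 0 := by
      rw [mul_sub, ← mul_assoc, ← mul_assoc, hq, zero_mul, hv0, sub_zero]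
    have e2 : (x * d - d * x) * x = 0 := by
      rw [sub_mul, hv0, mul_assoc d x x, hq, mul_zero, sub_zero]
    have h0 : x * d = 0 := LinearMap.ext fun m => by
      obtain ⟨n, hn⟩ := hr.ge (hdr (LinearMap.mem_range_self d m))
      rw [Module.End.mul_apply, ← hn]
      exact DFunLike.congr_fun e1 n
    have h1 : d * x = 0 := LinearMap.ext fun m =>
      LinearMap.mem_ker.1 (hdk (hk.le (LinearMap.mem_ker.2 (DFunLike.congr_fun e2 m))))
    exact hne (by rw [h0, h1, sub_zero])
  rw [eA, hδ0, hv0, add_zero, sub_zero]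

variable (hG : pCore p G = ⊥) {S : Subgroup (LinearMap.GeneralLinearGroup (ZMod p) M)}
variable (hS : IsSyl p G S)
include hG hS

theorem exists_fam_root {a : EndM} (ha : IsMin G a) : ∃ b, Same G a b ∧ Fam S b := by
  set K := Subgroup.closure (quads G)
  have hKG : K ≤ G := closure_quads_le G
  have hstab : K ≤ clsStab G a := (Subgroup.closure_le _).2 fun g hg =>
    ⟨hg.1, same_cj_of_quadratic hp hG ha hg.1 hg.2⟩
  have hKn : G ≤ Subgroup.normalizer (K : Set GLM) := fun g hg =>
    mem_normalizer_closure_quads (Subgroup.le_normalizer hg)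
  set g := onePlus a ha.sq
  have hgK : g ∈ K := Subgroup.subset_closure
    ⟨ha.fam.mem.onePlus_mem _, by rw [coe_onePlus, add_sub_cancel_left]; exact ha.sq⟩
  have hgp : IsPGroup p (Subgroup.zpowers g) :=
    (isPGroup_Kgrp hp G a).to_le (Subgroup.zpowers_le.2 ⟨ha.fam.mem.onePlus_mem _,
      by rw [coe_onePlus, add_mul, one_mul, ha.sq, add_zero],
      by rw [coe_onePlus, mul_add, mul_one, ha.sq, add_zero],
      fun m _ => ⟨m, by rw [coe_onePlus, add_sub_cancel_left]⟩⟩)
  obtain ⟨k, hk, hle⟩ := (hS.inf_normal hKG hKn).exists_conj_le (Subgroup.zpowers_le.2 hgK) hgp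
  refine ⟨cj k a, (hstab hk).2, fam_of_mem (by rw [← cj_mul, ha.sq, cj_zero])
    ⟨k * g * k⁻¹, (hle (Subgroup.smul_mem_pointwise_smul _ (MulAut.conj k) _
      (Subgroup.mem_zpowers g))).1, ?_⟩⟩
  rw [← sub_eq_iff_eq_add', ← cj_sub_one, coe_onePlus, add_sub_cancel_left]

/-- Every class has an element centralised by the quadratic elements of a Sylow subgroup. -/
theorem exists_fixed_root {a : EndM} (ha : IsMin G a) :
    ∃ b, Same G a b ∧ ∀ q ∈ quads S, cj q b = b := by
  classical
  obtain ⟨b0, hb0, hb0f⟩ := exists_fam_root hp hG hS ha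
  obtain ⟨b, ⟨hb, hbf⟩, hmax⟩ := Set.exists_max_image {b | Same G a b ∧ Fam S b}
    (fun b => {q | q ∈ quads S ∧ cj q b = b}.ncard) (Set.toFinite _) ⟨b0, hb0, hb0f⟩
  refine ⟨b, hb, fun q1 hq1 => by_contra fun hn => ?_⟩
  set T := {q | q ∈ quads S ∧ cj q b = b}
  have hTfix : Subgroup.closure T ≤ fixEnd b := (Subgroup.closure_le _).2 fun _ h => h.2
  have hnil : Group.IsNilpotent (Subgroup.closure (quads S)) :=
    (hS.isP.to_le (closure_quads_le S)).isNilpotent
  obtain ⟨q, hq, hqT, hqN⟩ := exists_normalizing (T := T) hnil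
    (fun g hg t ht => quads_conj (Subgroup.le_normalizer (closure_quads_le S hg)) ht)
    (fun t ht => ht.1) (fun t ht h => ⟨ht, hTfix h⟩) (fun h => hn (h hq1).2)
  obtain ⟨hqS, hxx⟩ := id hq
  set x := (q : EndM) - 1 with hxdef
  have hge : q = onePlus x hxx := eq_onePlus hxx (add_sub_cancel _ _).symm
  have hbm := hb.isMin ha
  have hzero : b * x * b = 0 := by
    refine aba_eq_zero_of_nilpotent (two_ne hp) hbm hxx (qd_of_mem (hS.le hqS) hxx).2 ?_
    have := isNilpotent_of_mem_pGroup hS.isP (hbf.mem.onePlus_mem hbm.sq) hqS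
    rwa [coe_onePlus, add_sub_cancel_left] at this
  set A := cj q b with hAdef
  set B := cj q⁻¹ b with hBdef
  set v := x * b * x with hvdef
  set D := b * x - x * b with hDdef
  have eA : A = b - D - v := by
    rw [hAdef, hvdef, hDdef, cj, hge, coe_onePlus, coe_onePlus_inv]; noncomm_ring
  have eB : B = b + D - v := by
    rw [hBdef, hvdef, hDdef, cj, inv_inv, hge, coe_onePlus, coe_onePlus_inv]; noncomm_ring
  have hxm : ∀ r : EndM, x * (x * r) = 0 := fun r => by rw [← mul_assoc, hxx, zero_mul]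
  have hbm' : ∀ r : EndM, b * (b * r) = 0 := fun r => by rw [← mul_assoc, hbm.sq, zero_mul]
  have hbxb : ∀ r : EndM, b * (x * (b * r)) = 0 := fun r => by
    rw [← mul_assoc, ← mul_assoc, hzero, zero_mul]
  have hbxb' : b * (x * b) = 0 := by rw [← mul_assoc, hzero]
  have hfamA : Fam S A := hbf.cj hqS
  have hfamB : Fam S B := hbf.cj (S.inv_mem hqS)
  have hvf : Fam S v := by
    have h1 : A * B = 0 := by
      simp only [eA, eB, hvdef, hDdef, mul_add, add_mul, mul_sub, sub_mul, mul_assoc, hxx, hbm.sq,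
        hxm, hbm', hbxb, hbxb', mul_zero, sub_zero, add_zero, zero_add]
    have h2 : (A + B) * ((-2 : ZMod p) • b) = 0 := by
      simp only [eA, eB, hvdef, hDdef, mul_smul_comm, mul_add, add_mul, mul_sub, sub_mul, mul_assoc,
        hxx, hbm.sq, hxm, hbm', hbxb, hbxb', mul_zero, sub_zero, add_zero, smul_zero]
    have h3 := (((hfamA.add hfamB h1).add (hbf.smul (-2 : ZMod p)) h2)).smul (-(2 : ZMod p)⁻¹)
    rwa [show A + B + (-2 : ZMod p) • b = (-2 : ZMod p) • v by rw [eA, eB]; module, smul_smul,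
      neg_mul_neg, inv_mul_cancel₀ (two_ne hp), one_smul] at h3
  have hDf : Fam S D := by
    have h1 : B * A = 0 := by
      simp only [eA, eB, hvdef, hDdef, mul_add, add_mul, mul_sub, sub_mul, mul_assoc, hxx, hbm.sq,
        hxm, hbm', hbxb, hbxb', mul_zero, sub_zero, add_zero, zero_add]
    have h3 := (Fam.sub' hfamB hfamA h1).smul (2 : ZMod p)⁻¹
    rwa [show B - A = (2 : ZMod p) • D by rw [eA, eB]; module, smul_smul,
      inv_mul_cancel₀ (two_ne hp), one_smul] at h3
  have hSG : ∀ {c : EndM}, Fam S c → Fam G c := fun h c => let ⟨g, hg, e⟩ := h c; ⟨g, hS.le hg, e⟩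
  have hsameA : Same G a A := hb.trans (same_cj_of_quadratic hp hG hbm (hS.le hqS) hxx)
  have hqi := quads_inv hq
  have hsameB : Same G a B := hb.trans (same_cj_of_quadratic hp hG hbm (hS.le hqi.1) hqi.2)
  have hfixT : ∀ t ∈ T, ∀ c ∈ Subgroup.normalizer ((Subgroup.closure T : Subgroup GLM) : Set GLM),
      cj t (cj c b) = cj c b := by
    intro t ht c hc
    have h1 : cj (c⁻¹ * t * c) b = b := hTfix
      ((Subgroup.mem_normalizer_iff''.1 hc t).1 (Subgroup.subset_closure ht))
    conv_rhs => rw [← h1]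
    rw [cj_cj, cj_cj, ← mul_assoc, ← mul_assoc, mul_inv_cancel, one_mul]
  have hTA : ∀ t ∈ T, cj t A = A := fun t ht => hfixT t ht q hqN
  have hTB : ∀ t ∈ T, cj t B = B := fun t ht => hfixT t ht q⁻¹ (inv_mem hqN)
  have hsp : ∀ {c : EndM}, Same G a c → c ∈ Submodule.span (ZMod p) {d : EndM | Same G a d} :=
    fun h => Submodule.subset_span h
  -- a new root fixed by more elements is impossible
  have hcontra : ∀ c : EndM, c ≠ 0 → c * c = 0 → Fam S c → rk c ≤ rk b →
      c ∈ Submodule.span (ZMod p) {d : EndM | Same G a d} → x * c = c * x →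
      (∀ t ∈ T, cj t c = c) → False := by
    intro c hc0 hcc hcf hrk hcs hcx hcT
    have hcm : IsMin G c := hbm.of_rank_le hcc hc0 (hSG hcf) hrk
    have hcq : cj q c = c := cj_eq_self_iff.2
      (by rw [hge, coe_onePlus, add_mul, one_mul, mul_add, mul_one, hcx])
    have hlt : T.ncard < {q | q ∈ quads S ∧ cj q c = c}.ncard := by
      refine Set.ncard_lt_ncard ⟨fun t ht => ⟨ht.1, hcT t ht⟩, fun h => hqT (h ⟨hq, hcq⟩)⟩
        (Set.toFinite _)
    exact absurd (hmax c ⟨same_of_mem_span hp hG ha hcm hcs, hcf⟩) (not_le.2 hlt)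
  by_cases hv0 : v = 0
  · by_cases hD0 : D = 0
    · exact hqT ⟨hq, by rw [← hAdef, eA, hv0, hD0, sub_zero, sub_zero]⟩
    refine hcontra D hD0 ?_ hDf (finrank_bracket_le hxx (hvdef ▸ hv0)) ?_ ?_ ?_
    · simp only [hDdef, mul_sub, sub_mul, mul_assoc, hxx, hbm.sq, hxm, hbm', hbxb, hbxb', mul_zero,
        sub_zero]
    · refine (Submodule.smul_mem_iff _ (two_ne hp)).1 ?_
      rw [show (2 : ZMod p) • D = B - A by rw [eA, eB]; module]
      exact sub_mem (hsp hsameB) (hsp hsameA)
    · rw [hDdef, mul_sub x, sub_mul (b * x), ← mul_assoc, ← mul_assoc, hxx, zero_mul, ← hvdef, hv0,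
        mul_assoc b x x, hxx, mul_zero, sub_zero]
    · intro t ht
      refine smul_right_injective EndM (two_ne hp) ?_
      show (2 : ZMod p) • cj t D = (2 : ZMod p) • D
      rw [← cj_smul, show (2 : ZMod p) • D = B - A by rw [eA, eB]; module, cj_sub, hTA t ht, hTB t ht]
  · have hTb : ∀ t ∈ T, cj t b = b := fun t ht => ht.2
    refine hcontra v hv0 ?_ hvf (rk_mul_mul_le x b x) ?_ ?_ ?_
    · simp only [hvdef, mul_assoc, hxm, mul_zero]
    · refine (Submodule.smul_mem_iff _ (two_ne hp)).1 ?_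
      rw [show (2 : ZMod p) • v = (2 : ZMod p) • b - A - B by rw [eA, eB]; module]
      exact sub_mem (sub_mem (Submodule.smul_mem _ _ (hsp hb)) (hsp hsameA)) (hsp hsameB)
    · rw [hvdef, ← mul_assoc, ← mul_assoc, hxx, zero_mul, zero_mul, mul_assoc (x * b) x x, hxx,
        mul_zero]
    · intro t ht
      refine smul_right_injective EndM (two_ne hp) ?_
      show (2 : ZMod p) • cj t v = (2 : ZMod p) • v
      rw [← cj_smul, show (2 : ZMod p) • v = (2 : ZMod p) • b - A - B by rw [eA, eB]; module, cj_sub,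
        cj_sub, cj_smul, hTA t ht, hTB t ht, hTb t ht]

/-- A tuple centralised by the quadratic elements of `S` and fixed by the operator group. -/
theorem exists_fixed_tuple {A : Subgroup GLM} (hAG : A ≤ Subgroup.normalizer (G : Set GLM))
    (hcop : (Nat.card A).Coprime (Nat.card G)) (hA : Group.IsSolvable A)
    (hAS : A ≤ Subgroup.normalizer (S : Set GLM)) :
    ∃ F, IsTuple G F ∧ (∀ q ∈ quads S, ∀ v ∈ F, cj q v = v) ∧ ∀ r ∈ A, cj r '' F = F := by
  obtain ⟨F0, hF0, hF0P⟩ := exists_tuple hp hG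
    (P := fun b => IsMin G b ∧ ∀ q ∈ quads S, cj q b = b) fun a ha =>
      let ⟨b, h1, h2⟩ := exists_fixed_root hp hG hS ha
      ⟨b, h1, h1.isMin ha, h2⟩
  have hF0fix : ∀ q ∈ quads S, ∀ v ∈ F0, cj q v = v := fun q hq v hv => by
    obtain ⟨b, -, hvb, hbm, hb⟩ := hF0P v hv
    exact cj_eq_of_mem_vsp hp hbm (hS.le hq.1) hq.2 (hb q hq) hvb
  set W := Subgroup.closure (quads S) with hWdef
  letI := setAct (p := p) (M := M)
  have hWA : A ≤ Subgroup.normalizer (W : Set GLM) := fun r hr =>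
    mem_normalizer_closure_quads (hAS hr)
  set K := G ⊓ Subgroup.normalizer (W : Set GLM)
  have hKA : A ≤ Subgroup.normalizer (K : Set GLM) :=
    Coprime.le_normalizer_inf_normalizer hAG hWA
  -- two such tuples are conjugate under `N_G(W)`
  have htrans : ∀ F', IsTuple G F' → (∀ q ∈ quads S, ∀ v ∈ F', cj q v = v) →
      ∃ g ∈ K, cj g '' F0 = F' := by
    intro F' hF' hF'fix
    obtain ⟨g, hg, hgF⟩ := hF0.exists_smul_eq hp hG hF'
    set C := G ⊓ ⨅ v ∈ F', fixEnd v
    have hCfix : ∀ {c}, c ∈ C → ∀ v ∈ F', cj c v = v := fun hc v hv =>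
      Subgroup.mem_iInf.1 (Subgroup.mem_iInf.1 hc.2 v) hv
    have hmemC : ∀ {c}, c ∈ G → (∀ v ∈ F', cj c v = v) → c ∈ C := fun hc h =>
      ⟨hc, Subgroup.mem_iInf.2 fun v => Subgroup.mem_iInf.2 (h v)⟩
    have hWC : W ≤ C := (Subgroup.closure_le _).2 fun q hq => hmemC (hS.le hq.1) (hF'fix q hq)
    have hgWC : MulAut.conj g • W ≤ C := by
      rw [Subgroup.pointwise_smul_subset_iff]
      refine (Subgroup.closure_le _).2 fun q hq => ?_
      rw [SetLike.mem_coe, Subgroup.mem_inv_pointwise_smul_iff]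
      refine hmemC (G.mul_mem (G.mul_mem hg (hS.le hq.1)) (G.inv_mem hg)) fun v hv => ?_
      rw [← hgF] at hv
      obtain ⟨u, hu, rfl⟩ := hv
      rw [MulAut.smul_def, MulAut.conj_apply, ← cj_cj, ← cj_cj, cj_inv_cj, hF0fix q hq u hu]
    have hWp : IsPGroup p W := hS.isP.to_le (closure_quads_le S)
    obtain ⟨P, hP⟩ := (hWp.of_equiv (Subgroup.subgroupOfEquivOfLe hWC).symm).exists_le_sylow
    have hT := isSyl_map P
    set T := (P : Subgroup C).map C.subtype
    have hWT : W ≤ T := fun w hw => ⟨⟨w, hWC hw⟩, hP hw, rfl⟩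
    obtain ⟨c, hc, hcle⟩ := hT.exists_conj_le hgWC (isPGroup_conj hWp g)
    obtain ⟨h, hh, hhle⟩ := hS.exists_conj_le (hT.le.trans inf_le_left) hT.isP
    have hclosed : ∀ {e : GLM}, MulAut.conj e • W ≤ S →
        e ∈ Subgroup.normalizer (W : Set GLM) := by
      intro e he
      refine Coprime.mem_normalizer_of_conj_smul_eq (Subgroup.eq_of_le_of_card_ge ?_ (card_conj _ _).ge)
      rw [Subgroup.pointwise_smul_subset_iff]
      refine (Subgroup.closure_le _).2 fun q hq => ?_
      rw [SetLike.mem_coe, Subgroup.mem_inv_pointwise_smul_iff]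
      refine Subgroup.subset_closure ⟨he ?_, by
        rw [MulAut.smul_def, MulAut.conj_apply, ← cj_sub_one, ← cj_mul, hq.2, cj_zero]⟩
      exact Subgroup.smul_mem_pointwise_smul _ (MulAut.conj e) _ (Subgroup.subset_closure hq)
    have h1 := hclosed ((Subgroup.pointwise_smul_le_pointwise_smul_iff.2 hWT).trans hhle)
    have h2 : h * (c * g) ∈ Subgroup.normalizer (W : Set GLM) := hclosed <| by
      rw [map_mul, map_mul, mul_smul, mul_smul]
      exact (Subgroup.pointwise_smul_le_pointwise_smul_iff.2 hcle).trans hhle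
    refine ⟨c * g, ⟨G.mul_mem hc.1 hg, ?_⟩, ?_⟩
    · have h3 := mul_mem (inv_mem h1) h2
      rwa [inv_mul_cancel_left] at h3
    · rw [Set.image_congr (fun v _ => (cj_cj c g v).symm), ← Set.image_image, hgF,
        Set.image_congr (hCfix hc), Set.image_id']
  obtain ⟨k, hk, hfix⟩ := Coprime.exists_fixed_point hKA
    (hcop.coprime_dvd_right (Subgroup.card_dvd_of_le inf_le_left)) (.inl hA) F0 fun r hr => by
    refine htrans (cj r '' F0) (hF0.cj (hAG hr)) ?_
    rintro q hq _ ⟨v, hv, rfl⟩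
    have h1 := hF0fix _ (quads_conj (inv_mem (hAS hr)) hq) v hv
    rw [inv_inv] at h1
    conv_rhs => rw [← h1]
    rw [cj_cj, cj_cj, ← mul_assoc, ← mul_assoc, mul_inv_cancel, one_mul]
  refine ⟨cj k '' F0, hF0.cj (Subgroup.le_normalizer hk.1), ?_, hfix⟩
  rintro q hq _ ⟨v, hv, rfl⟩
  have hmem : k⁻¹ * q * k ∈ W := (Subgroup.mem_normalizer_iff''.1 hk.2 q).1 (Subgroup.subset_closure hq)
  have h1 : cj (k⁻¹ * q * k) v = v :=
    (Subgroup.closure_le (fixEnd v)).2 (fun q' hq' => hF0fix q' hq' v hv) hmem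
  conv_rhs => rw [← h1]
  rw [cj_cj, cj_cj, ← mul_assoc, ← mul_assoc, mul_inv_cancel, one_mul]

end Cfsg.Agent.FlavellQ
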