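import Cfsg.Agent.Lib.FlavellQ.Key
import Cfsg.Agent.Lib.ConjFun.Quartic

/-!
# Quadratic action on a chief factor

`not_hasQuadFactor`: in a group `Γ` with `p > 3` no element of all `A`-invariant Sylow subgroups of a
normal subgroup `N` (coprime `A`) acts quadratically and nontrivially on a `p`-chief factor.
-/

set_option autoImplicit false
set_option linter.unusedSectionVars false

universe u

namespace Cfsg.Agent.FlavellQ

open Cfsg
open scoped commutatorElement IsMulCommutative

variable {Γ : Type u} [Group Γ] [Finite Γ] {p : ℕ} [Fact p.Prime]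

/-- A minimal normal `p`-subgroup is elementary abelian. -/
theorem elementary_of_minimal {P : Subgroup Γ} [P.Normal] (hP : IsPGroup p P) (hne : P ≠ ⊥)
    (hmin : ∀ N : Subgroup Γ, N.Normal → N ≤ P → N = ⊥ ∨ N = P) :
    (∀ x ∈ P, ∀ y ∈ P, x * y = y * x) ∧ ∀ x ∈ P, x ^ p = 1 := by
  let W : Subgroup Γ :=
    { carrier := {x | x ∈ P ∧ x ^ p = 1 ∧ ∀ y ∈ P, y * x = x * y}
      one_mem' := ⟨one_mem P, one_pow p, fun y _ => by rw [mul_one, one_mul]⟩
      mul_mem' := fun {a b} ha hb => ⟨mul_mem ha.1 hb.1, by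
        rw [(show Commute a b from (hb.2.2 a ha.1)).mul_pow, ha.2.1, hb.2.1, one_mul],
        fun y hy => by rw [← mul_assoc, ha.2.2 y hy, mul_assoc, hb.2.2 y hy, mul_assoc]⟩
      inv_mem' := fun {a} ha => ⟨inv_mem ha.1, by rw [inv_pow, ha.2.1, inv_one],
        fun y hy => (show Commute y a from ha.2.2 y hy).inv_right⟩ }
  have hW : W.Normal := ⟨fun x hx g => ⟨Subgroup.Normal.conj_mem inferInstance x hx.1 g,
    by rw [conj_pow, hx.2.1, mul_one, mul_inv_cancel], fun y hy => by
      have h := hx.2.2 (g⁻¹ * y * g) (by simpa using (inferInstance : P.Normal).conj_mem y hy g⁻¹)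
      calc y * (g * x * g⁻¹) = g * ((g⁻¹ * y * g) * x) * g⁻¹ := by group
        _ = g * (x * (g⁻¹ * y * g)) * g⁻¹ := by rw [h]
        _ = g * x * g⁻¹ * y := by group⟩⟩
  have hWne : W ≠ ⊥ := by
    haveI : Nontrivial P := (Subgroup.nontrivial_iff_ne_bot P).2 hne
    haveI := hP.center_nontrivial
    obtain ⟨z, hz, hzc⟩ : ∃ z : Subgroup.center P, orderOf z = p ∧ True := by
      obtain ⟨n, hn⟩ := (hP.to_subgroup (Subgroup.center P)).exists_card_eq
      have hn0 : n ≠ 0 := fun h => by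
        rw [h, pow_zero] at hn
        exact absurd hn Finite.one_lt_card.ne'
      obtain ⟨z, hz⟩ := exists_prime_orderOf_dvd_card' (G := Subgroup.center P) p
        (by rw [hn]; exact dvd_pow_self p hn0)
      exact ⟨z, hz, trivial⟩
    intro hb
    have hmem : ((z : P) : Γ) ∈ W := ⟨(z : P).2, by
      have h := pow_orderOf_eq_one z
      rw [hz] at h
      exact congrArg (fun w : Subgroup.center P => ((w : P) : Γ)) h,
      fun y hy => congrArg Subtype.val (Subgroup.mem_center_iff.1 z.2 ⟨y, hy⟩)⟩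
    rw [hb, Subgroup.mem_bot] at hmem
    have h1 : z = 1 := Subtype.ext (Subtype.ext hmem)
    rw [h1, orderOf_one] at hz
    exact (Fact.out : p.Prime).ne_one hz.symm
  rcases hmin W hW (fun x hx => hx.1) with h | h
  · exact absurd h hWne
  · exact ⟨fun x hx y hy => ((h ▸ hy : y ∈ W).2.2 x hx), fun x hx => (h ▸ hx : x ∈ W).2.1⟩

theorem exists_rep_of_mulAut {Q : Type u} [CommGroup Q] [Module (ZMod p) (Additive Q)]
    (φ : Γ →* MulAut Q) :
    ∃ ρ : Γ →* LinearMap.GeneralLinearGroup (ZMod p) (Additive Q), ∀ (g : Γ) (v : Additive Q),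
      ((ρ g : Module.End (ZMod p) (Additive Q)) v).toMul = φ g v.toMul := by
  let act : Γ →* Module.End (ZMod p) (Additive Q) :=
    { toFun := fun g => (MonoidHom.toAdditive (φ g).toMonoidHom).toZModLinearMap p
      map_one' := LinearMap.ext fun v => Additive.toMul.injective (by simp)
      map_mul' := fun g h => LinearMap.ext fun v => Additive.toMul.injective (by simp) }
  exact ⟨act.toHomUnits, fun g v => rfl⟩

theorem exists_chief_rep_aux {U V : Subgroup Γ} [V.Normal] {Q : Type u} [CommGroup Q] [Finite Q]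
    [Module (ZMod p) (Additive Q)] (ι : Q →* Γ ⧸ V) (hι : Function.Injective ι)
    (hran : ι.range = U.map (QuotientGroup.mk' V)) (φ : Γ →* MulAut Q)
    (hφ : ∀ g q, ι (φ g q) = QuotientGroup.mk' V g * ι q * (QuotientGroup.mk' V g)⁻¹)
    (hmin : ∀ N : Subgroup (Γ ⧸ V), N.Normal → N ≤ U.map (QuotientGroup.mk' V) →
      N = ⊥ ∨ N = U.map (QuotientGroup.mk' V)) :
    ∃ (M : Type u) (_ : AddCommGroup M) (_ : Module (ZMod p) M) (_ : Finite M)
      (ρ : Γ →* LinearMap.GeneralLinearGroup (ZMod p) M),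
      (∀ g : Γ, ρ g = 1 ↔ ∀ x ∈ U, ⁅x, g⁆ ∈ V) ∧
      (∀ g : Γ, ⁅⁅U, Subgroup.zpowers g⁆, Subgroup.zpowers g⁆ ≤ V →
        ((ρ g : Module.End (ZMod p) M) - 1) * ((ρ g : Module.End (ZMod p) M) - 1) = 0) ∧
      (∀ W : Submodule (ZMod p) M, (∀ g : Γ, ∀ w ∈ W, (ρ g : Module.End (ZMod p) M) w ∈ W) →
        W = ⊥ ∨ W = ⊤) := by
  obtain ⟨ρ, hρ⟩ := exists_rep_of_mulAut (p := p) φ
  set π := QuotientGroup.mk' V with hπ
  have hval : ∀ (g : Γ) (v : Additive Q),
      ι ((ρ g : Module.End (ZMod p) (Additive Q)) v).toMul = π g * ι v.toMul * (π g)⁻¹ := fun g v => by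
    rw [hρ g v, hφ]
  have hmem : ∀ v : Q, ∃ x ∈ U, π x = ι v := fun v => by
    have h1 : ι v ∈ ι.range := ⟨v, rfl⟩
    rw [hran] at h1
    exact h1
  refine ⟨Additive Q, inferInstance, inferInstance, inferInstance, ρ, fun g => ?_,
    fun g hg => ?_, fun W hW => ?_⟩
  · constructor
    · intro h x hx
      obtain ⟨q, hq⟩ : π x ∈ ι.range := by rw [hran]; exact ⟨x, hx, rfl⟩
      have h2 := hval g (Additive.ofMul q)
      rw [h] at h2
      rw [← QuotientGroup.eq_one_iff]
      show π ⁅x, g⁆ = 1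
      rw [map_commutatorElement, commutatorElement_eq_one_iff_mul_comm]
      have h3 : π g * π x * (π g)⁻¹ = π x := by rw [← hq]; exact h2.symm
      exact (mul_inv_eq_iff_eq_mul.1 h3).symm
    · intro h
      refine Units.ext (LinearMap.ext fun v => Additive.toMul.injective (hι ?_))
      rw [hval]
      obtain ⟨x, hx, hxe⟩ := hmem v.toMul
      show π g * ι v.toMul * (π g)⁻¹ = ι v.toMul
      rw [← hxe, mul_inv_eq_iff_eq_mul]
      have h1 : π ⁅x, g⁆ = 1 := (QuotientGroup.eq_one_iff _).2 (h x hx)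
      rw [map_commutatorElement, commutatorElement_eq_one_iff_mul_comm] at h1
      exact h1.symm
  · refine LinearMap.ext fun v => Additive.toMul.injective (hι ?_)
    obtain ⟨x, hx, hxe⟩ := hmem v.toMul
    have hd : ∀ w : Additive Q, ι (((ρ g : Module.End (ZMod p) (Additive Q)) - 1) w).toMul =
        π g * ι w.toMul * (π g)⁻¹ * (ι w.toMul)⁻¹ := fun w => by
      rw [LinearMap.sub_apply, Module.End.one_apply, toMul_sub, div_eq_mul_inv, map_mul, map_inv, hval]
    rw [Module.End.mul_apply, hd, hd, ← hxe, LinearMap.zero_apply, toMul_zero, map_one]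
    simp only [← map_mul, ← map_inv]
    refine (QuotientGroup.eq_one_iff _).2 ?_
    have hgx : g * x * g⁻¹ * x⁻¹ ∈ ⁅U, Subgroup.zpowers g⁆ := by
      rw [Subgroup.commutator_comm]
      exact Subgroup.commutator_mem_commutator (Subgroup.mem_zpowers g) hx
    have h2 : g * (g * x * g⁻¹ * x⁻¹) * g⁻¹ * (g * x * g⁻¹ * x⁻¹)⁻¹ ∈
        ⁅⁅U, Subgroup.zpowers g⁆, Subgroup.zpowers g⁆ := by
      rw [Subgroup.commutator_comm]
      exact Subgroup.commutator_mem_commutator (Subgroup.mem_zpowers g) hgx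
    exact hg h2
  · let W' : Subgroup (Γ ⧸ V) := (AddSubgroup.toSubgroup' W.toAddSubgroup).map ι
    have hW' : W'.Normal := by
      refine ⟨fun y hy n => ?_⟩
      obtain ⟨w, hw, rfl⟩ := hy
      obtain ⟨g, rfl⟩ := QuotientGroup.mk'_surjective V n
      exact ⟨((ρ g : Module.End (ZMod p) (Additive Q)) (Additive.ofMul w)).toMul, hW g _ hw, hval g _⟩
    rcases hmin W' hW' (hran ▸ Subgroup.map_le_range ι _) with h | h
    · left
      refine (Submodule.eq_bot_iff _).2 fun w hw => ?_
      have h1 : ι w.toMul ∈ W' := ⟨w.toMul, hw, rfl⟩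
      rw [h, Subgroup.mem_bot, ← map_one ι] at h1
      exact Additive.toMul.injective (hι h1)
    · right
      refine Submodule.eq_top_iff'.2 fun w => ?_
      have h1 : ι w.toMul ∈ W' := by rw [h, ← hran]; exact ⟨_, rfl⟩
      obtain ⟨w', hw', e⟩ := h1
      rw [show w = Additive.ofMul w' from Additive.toMul.injective (hι e.symm)]
      exact hw'

/-- The module of a `p`-chief factor. -/
theorem exists_chief_rep {U V : Subgroup Γ} (hUV : Cfsg.IsChiefFactor U V) (hU : IsPGroup p U) :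
    ∃ (M : Type u) (_ : AddCommGroup M) (_ : Module (ZMod p) M) (_ : Finite M)
      (ρ : Γ →* LinearMap.GeneralLinearGroup (ZMod p) M),
      (∀ g : Γ, ρ g = 1 ↔ ∀ x ∈ U, ⁅x, g⁆ ∈ V) ∧
      (∀ g : Γ, ⁅⁅U, Subgroup.zpowers g⁆, Subgroup.zpowers g⁆ ≤ V →
        ((ρ g : Module.End (ZMod p) M) - 1) * ((ρ g : Module.End (ZMod p) M) - 1) = 0) ∧
      (∀ W : Submodule (ZMod p) M, (∀ g : Γ, ∀ w ∈ W, (ρ g : Module.End (ZMod p) M) w ∈ W) →
        W = ⊥ ∨ W = ⊤) := by
  haveI := hUV.2.1
  haveI := hUV.2.2.1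
  set π := QuotientGroup.mk' V with hπ
  set P := U.map π with hPdef
  haveI hPn : P.Normal := Subgroup.Normal.map hUV.2.1 _ (QuotientGroup.mk'_surjective V)
  have hcomap : P.comap π = U := by
    rw [hPdef, Subgroup.comap_map_eq, hπ, QuotientGroup.ker_mk', sup_eq_left.mpr hUV.1.le]
  have hmin : ∀ N : Subgroup (Γ ⧸ V), N.Normal → N ≤ P → N = ⊥ ∨ N = P := by
    intro N hN hle
    rcases hUV.2.2.2 (N.comap π) (hN.comap π) (fun v hv => by
      rw [Subgroup.mem_comap, show π v = 1 from (QuotientGroup.eq_one_iff v).mpr hv]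
      exact one_mem N) ((Subgroup.comap_mono hle).trans hcomap.le) with h | h
    · left
      have h1 := congrArg (Subgroup.map π) h
      rw [Subgroup.map_comap_eq_self_of_surjective (QuotientGroup.mk'_surjective V)] at h1
      rw [h1, Subgroup.map_eq_bot_iff, hπ, QuotientGroup.ker_mk']
    · right
      have h1 := congrArg (Subgroup.map π) h
      rwa [Subgroup.map_comap_eq_self_of_surjective (QuotientGroup.mk'_surjective V)] at h1
  have hne : P ≠ ⊥ := by
    rw [Ne, hPdef, Subgroup.map_eq_bot_iff, hπ, QuotientGroup.ker_mk']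
    exact hUV.1.not_ge
  obtain ⟨hcomm, hexp⟩ := elementary_of_minimal (hU.map π) hne hmin
  haveI : IsMulCommutative P := ⟨⟨fun a b => Subtype.ext (hcomm _ a.2 _ b.2)⟩⟩
  letI : Module (ZMod p) (Additive P) := AddCommGroup.zmodModule fun v => by
    rw [← toMul_eq_one, toMul_nsmul]
    exact Subtype.ext (hexp _ v.toMul.2)
  exact exists_chief_rep_aux (Q := P) P.subtype Subtype.val_injective P.range_subtype
    ((MulAut.conjNormal (H := P)).comp π) (fun g q => MulAut.conjNormal_apply _ _) hmin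

/-- **No element of all invariant Sylow subgroups has a quadratic chief factor.** -/
theorem not_hasQuadFactor (hp : 3 < p) {N R : Subgroup Γ} [hN : N.Normal]
    (hcop : (Nat.card R).Coprime (Nat.card N)) (hsol : Group.IsSolvable R) {A : Subgroup Γ}
    (hA : IsPGroup p A) {g : Γ} (hg : g ∈ N) (hall : InAllSyl p N R g) :
    ¬ ConjFun.HasQuadFactor A g := by
  rintro ⟨U, V, hUV, hUA, hquad, hne⟩
  obtain ⟨M, _, _, _, ρ, hker, hq, hirr⟩ := exists_chief_rep (p := p) hUV (hA.to_le hUA)
  have hRN : R ≤ Subgroup.normalizer (N : Set Γ) := le_top.trans (Subgroup.normalizer_eq_top (H := N)).ge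
  have hne1 : ρ g ≠ 1 := by
    intro h
    refine hne ?_
    rw [← ConjFun.le_kerOn_iff (hV := hUV.2.2.1), Subgroup.zpowers_le]
    exact fun x hx => (hker g).1 h x hx
  set G' := N.map ρ
  have hRG' : R.map ρ ≤ Subgroup.normalizer (G' : Set (LinearMap.GeneralLinearGroup (ZMod p) M)) :=
    (Subgroup.map_mono hRN).trans (Subgroup.le_normalizer_map ρ)
  have hcop' : (Nat.card (R.map ρ)).Coprime (Nat.card G') :=
    (hcop.coprime_dvd_left (Subgroup.card_map_dvd R ρ)).coprime_dvd_right (Subgroup.card_map_dvd N ρ)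
  have hsol' : Group.IsSolvable (R.map ρ) :=
    solvable_of_surjective (f := ρ.subgroupMap R) (ρ.subgroupMap_surjective R)
  have hgG' : ρ g ∈ G' := ⟨g, hg, rfl⟩
  have hallG' : InAllSyl p G' (R.map ρ) (ρ g) := by
    intro T hT hTA
    obtain ⟨S, hS, hSA, rfl⟩ := exists_isSyl_map ρ hRN hcop hsol hT hTA
    exact ⟨g, hall S hS hSA, rfl⟩
  have hmem := mem_pCore_of_forall_invariant_sylow hp hRG' hcop' hsol' hgG' (hq g hquad) hallG'
  -- the image of `N` has trivial `p`-core
  set O := (pCore p G').map G'.subtype with hO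
  have hnorm : ∀ y : Γ, ρ y ∈ Subgroup.normalizer (O : Set (LinearMap.GeneralLinearGroup (ZMod p) M)) := by
    intro y
    refine Components.normalizer_le_normalizer_map_of_characteristic G' (pCore p G') ?_
    exact Subgroup.le_normalizer_map ρ ⟨y, (Subgroup.normalizer_eq_top (H := N)).ge trivial, rfl⟩
  let W : Submodule (ZMod p) M := ⨅ o ∈ O, LinearMap.ker ((o : Module.End (ZMod p) M) - 1)
  have hmemW : ∀ v : M, v ∈ W ↔ ∀ o ∈ O, (o : Module.End (ZMod p) M) v = v := fun v => by
    simp only [W, Submodule.mem_iInf, LinearMap.mem_ker, LinearMap.sub_apply, Module.End.one_apply,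
      sub_eq_zero]
  have hinv : ∀ y : Γ, ∀ v ∈ W, (ρ y : Module.End (ZMod p) M) v ∈ W := by
    intro y v hv
    rw [hmemW] at hv ⊢
    intro o ho
    have h1 := hv _ ((Subgroup.mem_normalizer_iff''.1 (hnorm y) o).1 ho)
    rw [Units.val_mul, Units.val_mul, Module.End.mul_apply, Module.End.mul_apply] at h1
    conv_rhs => rw [← h1]
    exact (DFunLike.congr_fun (Units.mul_inv (ρ y)) _).symm
  rcases hirr W hinv with hW | hW
  · haveI : Nontrivial M := by
      by_contra hnt
      rw [not_nontrivial_iff_subsingleton] at hnt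
      exact hne1 (Units.ext (LinearMap.ext fun v => Subsingleton.elim _ _))
    letI : MulAction O M :=
      { smul := fun o v => ((o : LinearMap.GeneralLinearGroup (ZMod p) M) : Module.End (ZMod p) M) v
        one_smul := fun v => rfl
        mul_smul := fun o o' v => rfl }
    have hOp : IsPGroup p O := PCore.isPGroup_pCore.map _
    have hdvd : p ∣ Nat.card M := by
      rw [Module.natCard_eq_pow_finrank (K := ZMod p), Nat.card_zmod]
      exact dvd_pow_self p (Module.finrank_pos (R := ZMod p) (M := M)).ne'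
    obtain ⟨v, hv, hv0⟩ := hOp.exists_fixed_point_of_prime_dvd_card_of_fixed_point M hdvd
      (a := (0 : M)) (fun o => map_zero _)
    have h1 : v ∈ W := (hmemW v).2 fun o ho => hv ⟨o, ho⟩
    rw [hW, Submodule.mem_bot] at h1
    exact hv0 h1.symm
  · exact hne1 (Units.ext (LinearMap.ext fun v =>
      (hmemW v).1 (hW ▸ Submodule.mem_top) _ ⟨_, hmem, rfl⟩))

end Cfsg.Agent.FlavellQ
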