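import Cfsg.Agent.Lib.FlavellQ.Pairs

/-!
# Partners of a quadratic element are conjugate by a `p`-group

* `fam_u`: if `y` and its conjugate by `1 + u` both lie in `G`, so does `1 + u`;
* `Kgrp`: the elements trivial on the three layers of `x`, a `p`-group;
* `exists_conj_pair`: two partners of `x` are conjugate in `Kgrp G x`.
-/

set_option autoImplicit false
set_option linter.unusedSectionVars false

universe u

namespace Cfsg.Agent.FlavellQ

open Cfsg Cfsg.Agent.QuadPair

variable {p : ℕ} [Fact p.Prime] {M : Type u} [AddCommGroup M] [Module (ZMod p) M] [Finite M]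

local notation "GLM" => LinearMap.GeneralLinearGroup (ZMod p) M
local notation "EndM" => Module.End (ZMod p) M

variable (hp : 3 < p)
include hp

theorem natCast_ne_zero {n : ℕ} (h0 : 0 < n) (hn : n < p) : (n : ZMod p) ≠ 0 := by
  rw [Ne, ZMod.natCast_eq_zero_iff]
  exact fun h => absurd (Nat.le_of_dvd h0 h) (by omega)

theorem smul_two_cancel {a b : EndM} (h : (2 : ZMod p) • a = (2 : ZMod p) • b) : a = b :=
  smul_right_injective EndM (two_ne hp) h

omit hp

theorem Qd.neg {H : Subgroup GLM} {x : EndM} (h : Qd H x) : Qd H (-x) :=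
  ⟨by rw [neg_mul_neg, h.1], h.2.neg⟩

theorem cj_neg (g : GLM) (x : EndM) : cj g (-x) = -cj g x := by
  rw [← neg_one_smul (ZMod p) x, cj_smul, neg_one_smul]

theorem cj_sub (g : GLM) (x y : EndM) : cj g (x - y) = cj g x - cj g y := by
  rw [sub_eq_add_neg, cj_add, cj_neg, ← sub_eq_add_neg]

theorem cj_self_one (g : GLM) : cj g (1 : EndM) = 1 := by
  rw [cj, mul_one, Units.mul_inv]

theorem Fam.sub' {H : Subgroup GLM} {a b : EndM} (ha : Fam H a) (hb : Fam H b) (h : a * b = 0) :
    Fam H (a - b) := by
  rw [sub_eq_add_neg]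
  exact ha.add hb.neg (by rw [mul_neg, h, neg_zero])

include hp

theorem fam_u : ∀ (n : ℕ) {H : Subgroup GLM} {x y u : EndM} (_ : IsPair x y) (hu : IsU x y u),
    rk x ≤ n → Fam H x → Fam H y → Fam H (cj (onePlus u hu.uu) y) → Fam H u := by
  classical
  intro n
  induction n using Nat.strong_induction_on with
  | _ n ih =>
    intro H x y u h hu hn hx hy hyu
    by_cases hx0 : x = 0
    · have : u = 0 := by rw [← hu.xyu, hx0, zero_mul, zero_mul]
      rw [this]; exact Fam.zero
    obtain ⟨w, hwH, hwe, hwi⟩ := h.exists_w hx hy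
    -- the three possibilities for a translate
    have core : ∀ c : ZMod p, Fam H u ∨ Fam H ((u + c • x) * y * (u + c • x)) ∨
        IsNilpotent ((u + c • x) * y * ((u + c • x) * y) + y * (u + c • x) * (y * (u + c • x))) := by
      intro c
      set v := u + c • x with hvdef
      have hv : IsU x y v := hu.shift h c
      have e0 : onePlus v hv.uu = onePlus (c • x) (smul_sq h.sqx c) * onePlus u hu.uu := by
        refine Units.ext ?_
        rw [Units.val_mul, coe_onePlus, coe_onePlus, coe_onePlus, hvdef, mul_add, mul_one, add_mul,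
          one_mul, smul_mul_assoc, hu.xu, smul_zero, add_zero]
        abel
      have hyv : Fam H (cj (onePlus v hv.uu) y) := by
        rw [e0, ← cj_cj]
        exact hyu.cj ((hx c).onePlus_mem _)
      obtain ⟨hwx, hwv⟩ := hv.cj_swap h hwe hwi
      set Y := cj w (cj (onePlus v hv.uu) y) with hYdef
      have hY : Qd H Y := ⟨by rw [← cj_mul, ← cj_mul, h.sqy, cj_zero, cj_zero], hyv.cj hwH⟩
      set z := v * y * (v * y) + y * v * (y * v) with hzdef
      have k1 : ∀ r, x * (y * (v * r)) = v * r := fun r => by
        simp only [← mul_assoc, hv.xyu]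
      have k2 : x * (y * v) = v := by rw [← mul_assoc, hv.xyu]
      have k3 : v * (y * x) = v := by rw [← mul_assoc, hv.uyx]
      have k4 : ∀ r, v * (x * r) = 0 := fun r => by rw [← mul_assoc, hv.ux, zero_mul]
      have k5 : ∀ r, x * (v * r) = 0 := fun r => by rw [← mul_assoc, hv.xu, zero_mul]
      have k6 : ∀ r, v * (v * r) = 0 := fun r => by rw [← mul_assoc, hv.uu, zero_mul]
      have k7 : ∀ r, y * (y * r) = 0 := fun r => by rw [← mul_assoc, h.sqy, zero_mul]
      have k8 : ∀ r, x * (x * r) = 0 := fun r => by rw [← mul_assoc, h.sqx, zero_mul]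
      have hxz : x * z = v * y * v := by
        simp only [hzdef, mul_add, mul_assoc, k1, k5, zero_add]
      have hzx : z * x = v * y * v := by
        simp only [hzdef, add_mul, mul_assoc, k3, hv.ux, mul_zero, add_zero]
      have hyz : y * z = z * y := by
        simp only [hzdef, mul_add, add_mul, mul_assoc, k7, h.sqy, mul_zero, add_zero, zero_add]
      have hvz : v * z = z * v := by
        simp only [hzdef, mul_add, add_mul, mul_assoc, k6, hv.uu, mul_zero, add_zero, zero_add]
      have hsum : x * Y + Y * x = z := by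
        rw [hwv]
        simp only [hzdef, mul_add, add_mul, mul_sub, sub_mul, neg_mul, mul_neg, mul_assoc, h.sqx,
          k1, k2, k3, k5, k8, hv.ux, mul_zero, neg_zero, zero_add]
        abel
      by_cases hz : IsNilpotent z
      · exact Or.inr (Or.inr hz)
      have hp3 : Nat.card (ZMod p) ≠ 3 := by rw [Nat.card_zmod]; omega
      obtain ⟨e, b₁, hee, hex0, hecomm, -, hfex, hfeY, hfez, -, -, -, -⟩ :=
        exists_split (genP hp) (two_ne hp) hp3 h.sqx hY.1 hx hY.2 (by rw [hsum]; exact hz)
      rw [hsum] at hecomm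
      have ex : e * x = x * e := hecomm x (hxz.trans hzx.symm)
      have ey : e * y = y * e := hecomm y hyz
      have ev : e * v = v * e := hecomm v hvz
      by_cases hfull : e * x = x
      · refine Or.inr (Or.inl ?_)
        have e1 : x * Y * x = v * y * v := by rw [aba h.sqx, hsum, hzx]
        have e2 : e * (v * y * v) = v * y * v := by rw [← hxz, ← mul_assoc, hfull]
        rw [e1, e2] at hfez
        exact hfez
      -- split
      refine Or.inl ?_
      have hew : e * (w : EndM) = (w : EndM) * e := by
        rw [hwe, pi2]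
        simp only [mul_add, add_mul, mul_sub, sub_mul, mul_one, one_mul]
        rw [← mul_assoc e x y, ex, mul_assoc x e y, ey, ← mul_assoc e y x, ey, mul_assoc y e x, ex]
        simp only [mul_assoc]
      have hcjw : ∀ r, cj w (e * r) = e * cj w r := fun r => by
        rw [cj, cj, ← mul_assoc _ e r, ← hew]
        simp only [mul_assoc]
      have hey : Fam H (e * y) := by
        have h1 := (hfex.cj hwH).neg
        rwa [hcjw, hwx, mul_neg, neg_neg] at h1
      have heyv : Fam H (e * cj (onePlus v hv.uu) y) := by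
        have h1 := hfeY.cj (H.inv_mem hwH)
        rw [hYdef] at h1
        rwa [show e * cj w (cj (onePlus v hv.uu) y) = cj w (e * cj (onePlus v hv.uu) y) from
          (hcjw _).symm, cj_inv_cj] at h1
      have hf : (1 - e) * (1 - e) = 1 - e := by rw [mul_sub, mul_one, sub_mul, one_mul, hee, sub_self, sub_zero]
      have fx : (1 - e) * x = x * (1 - e) := by rw [sub_mul, mul_sub, one_mul, mul_one, ex]
      have fy : (1 - e) * y = y * (1 - e) := by rw [sub_mul, mul_sub, one_mul, mul_one, ey]
      have fv : (1 - e) * v = v * (1 - e) := by rw [sub_mul, mul_sub, one_mul, mul_one, ev]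
      have hfx : Fam H ((1 - e) * x) := by
        rw [sub_mul, one_mul]
        exact Fam.sub' hx hfex (by rw [ex, ← mul_assoc, h.sqx, zero_mul])
      have hfy : Fam H ((1 - e) * y) := by
        rw [sub_mul, one_mul]
        exact Fam.sub' hy hey (by rw [ey, ← mul_assoc, h.sqy, zero_mul])
      have hyy : cj (onePlus v hv.uu) y * cj (onePlus v hv.uu) y = 0 := by
        rw [← cj_mul, h.sqy, cj_zero]
      have eyv : e * cj (onePlus v hv.uu) y = cj (onePlus v hv.uu) y * e := by
        simp only [cj, coe_onePlus, coe_onePlus_inv, mul_add, add_mul, mul_sub, sub_mul, mul_one,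
          one_mul, mul_assoc]
        simp only [← mul_assoc e, ev, ey]
        simp only [mul_assoc]
        simp only [← mul_assoc e, ev, ey]
        simp only [mul_assoc]
        simp only [← mul_assoc e, ev]
      have hfyv : Fam H ((1 - e) * cj (onePlus v hv.uu) y) := by
        rw [sub_mul, one_mul]
        exact Fam.sub' hyv heyv (by rw [eyv, ← mul_assoc, hyy, zero_mul])
      have hrk : rk x = rk (e * x) + rk ((1 - e) * x) := by
        conv_lhs => rw [show x = e * x + (1 - e) * x by rw [← add_mul, add_sub_cancel, one_mul]]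
        refine rk_add (q := e) ?_ ?_ ?_ ?_
        · rw [← mul_assoc, hee]
        · rw [ex, mul_assoc, hee]
        · rw [← mul_assoc, mul_sub, mul_one, hee, sub_self, zero_mul]
        · rw [fx, mul_assoc, sub_mul, one_mul, hee, sub_self, mul_zero]
      have hne2 : (1 - e) * x ≠ 0 := by
        rw [sub_mul, one_mul, sub_ne_zero]
        exact fun h => hfull h.symm
      have hp1 := rk_pos hex0
      have hp2 := rk_pos hne2
      obtain ⟨hP1, hU1⟩ := hv.restrict h hee ex ey ev
      obtain ⟨hP2, hU2⟩ := hv.restrict h hf fx fy fv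
      have r1 := ih (rk (e * x)) (by omega) hP1 hU1 le_rfl hfex hey
        (by rw [hv.cj_restrict h hee ey ev]; exact heyv)
      have r2 := ih (rk ((1 - e) * x)) (by omega) hP2 hU2 le_rfl hfx hfy
        (by rw [hv.cj_restrict h hf fy fv]; exact hfyv)
      have r3 : Fam H v := by
        have := r1.add r2 (by rw [ev, mul_assoc v e, ← mul_assoc e, mul_sub, mul_one, hee, sub_self,
          zero_mul, mul_zero])
        rwa [← add_mul, add_sub_cancel, one_mul] at this
      have := Fam.sub' r3 (hx.smul c) (by rw [mul_smul_comm, hv.ux, smul_zero])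
      rwa [hvdef, add_sub_cancel_right] at this
    by_contra hno
    -- two full translates
    have two : ∀ c d : ZMod p, c ≠ d → Fam H ((u + c • x) * y * (u + c • x)) →
        Fam H ((u + d • x) * y * (u + d • x)) → False := by
      intro c d hcd hc hd
      refine hno ?_
      have e1 : ∀ c : ZMod p, (u + c • x) * y * (u + c • x) =
          u * y * u + (c + c) • u + (c * c) • x := fun c => by
        simp only [mul_add, add_mul, smul_mul_assoc, mul_smul_comm, hu.xyu, hu.uyx, h.xyx,
          smul_smul, add_smul]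
        module
      have h0 := Fam.sub' hc hd (by
        rw [e1, e1]
        simp only [mul_add, add_mul, smul_mul_assoc, mul_smul_comm, ← mul_assoc, hu.xu, h.sqx,
          zero_mul, smul_zero, add_zero]
        simp only [mul_assoc, hu.uu, hu.ux, mul_zero, smul_zero, add_zero]
        simp only [← mul_assoc, hu.uu, zero_mul, mul_zero, smul_zero, add_zero])
      rw [e1, e1] at h0
      have e2 : u * y * u + (c + c) • u + (c * c) • x - (u * y * u + (d + d) • u + (d * d) • x) =
          (2 * (c - d)) • u + ((c - d) * (c + d)) • x := by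
        rw [show (2 : ZMod p) * (c - d) = (c + c) - (d + d) by ring,
          show (c - d) * (c + d) = c * c - d * d by ring, sub_smul, sub_smul]
        abel
      rw [e2] at h0
      have h1 := Fam.sub' h0 (hx.smul ((c - d) * (c + d))) (by
        rw [add_mul, smul_mul_assoc, smul_mul_assoc, mul_smul_comm, mul_smul_comm, hu.ux, h.sqx,
          smul_zero, smul_zero, smul_zero, add_zero])
      rw [add_sub_cancel_right] at h1
      have h2 := h1.smul (2 * (c - d))⁻¹
      rwa [smul_smul, inv_mul_cancel₀ (mul_ne_zero (two_ne hp) (sub_ne_zero.2 hcd)), one_smul] at h2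
    -- two nilpotent translates
    have nil : ∀ c d : ZMod p, c ≠ d →
        IsNilpotent ((u + c • x) * y * ((u + c • x) * y) + y * (u + c • x) * (y * (u + c • x))) →
        IsNilpotent ((u + d • x) * y * ((u + d • x) * y) + y * (u + d • x) * (y * (u + d • x))) →
        False := by
      intro c d hcd hc hd
      have key : ∀ c : ZMod p,
          IsNilpotent ((u + c • x) * y * ((u + c • x) * y) + y * (u + c • x) * (y * (u + c • x))) →
          IsNilpotent ((u + c • x) * y) := by
        intro c hz
        set v := u + c • x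
        have hv : IsU x y v := hu.shift h c
        set z := v * y * (v * y) + y * v * (y * v)
        obtain ⟨N, hN⟩ := hz
        set A := v * y
        have hzA : A ^ 2 * x = z * x := by
          show _ = (A * A + y * v * (y * v)) * x
          rw [add_mul, mul_assoc (y * v), mul_assoc y v x, hv.ux, mul_zero, mul_zero, add_zero,
            pow_two]
        have hA2 : Commute z (A ^ 2) := by
          refine Commute.pow_right ?_ 2
          show (A * A + y * v * (y * v)) * A = A * (A * A + y * v * (y * v))
          have e1 : y * v * (y * v) * A = 0 := by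
            simp only [A, mul_assoc, ← mul_assoc v v, hv.uu, zero_mul, mul_zero]
          have e2 : A * (y * v * (y * v)) = 0 := by
            simp only [A, mul_assoc, ← mul_assoc y y, h.sqy, zero_mul, mul_zero]
          rw [add_mul (A * A), mul_add A, e1, e2, mul_assoc]
        have hpow : ∀ i, z ^ i * x = A ^ (2 * i) * x := by
          intro i
          induction i with
          | zero => simp
          | succ i ih =>
            rw [pow_succ, mul_assoc, ← hzA, ← mul_assoc, (hA2.pow_left i).eq, mul_assoc, ih,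
              ← mul_assoc, ← pow_add, show 2 + 2 * i = 2 * (i + 1) by ring]
        have h1 : A ^ (2 * N) * x = 0 := by rw [← hpow, hN, zero_mul]
        refine ⟨2 * N + 1, ?_⟩
        have e3 : x * y * A = A := by simp only [A, ← mul_assoc, hv.xyu]
        rw [pow_succ]
        conv_lhs => arg 2; rw [← e3]
        simp only [← mul_assoc, h1, zero_mul]
      have hA : ∀ c : ZMod p, (u + c • x) * y = u * y + c • (x * y) := fun c => by
        rw [add_mul, smul_mul_assoc]
      have e0 : Commute (u * y) (x * y) := by
        show u * y * (x * y) = x * y * (u * y)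
        simp only [← mul_assoc, hu.uyx, hu.xyu]
      have h1 := key c hc
      have h2 := key d hd
      rw [hA] at h1 h2
      have hnil := Commute.isNilpotent_sub (((Commute.refl (u * y)).add_left (e0.symm.smul_left c))
        |>.add_right ((e0.smul_right d).add_left ((Commute.refl (x * y)).smul_left c |>.smul_right d)))
        h1 h2
      rw [add_sub_add_left_eq_sub, ← sub_smul] at hnil
      obtain ⟨N, hN⟩ := hnil
      rw [smul_pow] at hN
      have hidem : IsIdempotentElem (x * y) := by
        show x * y * (x * y) = x * y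
        rw [← mul_assoc, h.xyx]
      rcases eq_or_ne N 0 with rfl | hN0
      · rw [pow_zero, pow_zero, one_smul] at hN
        exact hx0 (by rw [← one_mul x, hN, zero_mul])
      · obtain ⟨N, rfl⟩ := Nat.exists_eq_succ_of_ne_zero hN0
        rw [hidem.pow_succ_eq, smul_eq_zero] at hN
        rcases hN with hN | hN
        · exact pow_ne_zero _ (sub_ne_zero.2 hcd) hN
        · exact hx0 (by rw [← h.xyx, hN, zero_mul])
    have h01 : (0 : ZMod p) ≠ 1 := zero_ne_one
    have h02 : (0 : ZMod p) ≠ 2 := (two_ne hp).symm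
    have h12 : (1 : ZMod p) ≠ 2 := fun h => h01 (by linear_combination h)
    rcases (core 0).resolve_left hno with a0 | a0 <;> rcases (core 1).resolve_left hno with a1 | a1 <;>
      rcases (core 2).resolve_left hno with a2 | a2
    all_goals first
      | exact two 0 1 h01 a0 a1
      | exact two 0 2 h02 a0 a2
      | exact two 1 2 h12 a1 a2
      | exact nil 0 1 h01 a0 a1
      | exact nil 0 2 h02 a0 a2
      | exact nil 1 2 h12 a1 a2

omit hp

/-- The elements of `G` trivial on `range x`, `ker x / range x` and `M / ker x`. -/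
def Kgrp (G : Subgroup GLM) (x : EndM) : Subgroup GLM where
  carrier := {g | g ∈ G ∧ (g : EndM) * x = x ∧ x * (g : EndM) = x ∧
    ∀ m, x m = 0 → ((g : EndM) - 1) m ∈ LinearMap.range x}
  one_mem' := ⟨G.one_mem, by simp, by simp, fun m _ => by simp⟩
  mul_mem' := by
    rintro g h ⟨hg, g1, g2, g3⟩ ⟨hh, h1, h2, h3⟩
    refine ⟨G.mul_mem hg hh, by rw [Units.val_mul, mul_assoc, h1, g1],
      by rw [Units.val_mul, ← mul_assoc, g2, h2], fun m hm => ?_⟩
    obtain ⟨n, hn⟩ := h3 m hm
    have e : (((g * h : GLM) : EndM) - 1) m = (g : EndM) (((h : EndM) - 1) m) + ((g : EndM) - 1) m := by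
      simp [Units.val_mul]
    rw [e, ← hn, ← Module.End.mul_apply, g1]
    exact add_mem ⟨n, rfl⟩ (g3 m hm)
  inv_mem' := by
    rintro g ⟨hg, g1, g2, g3⟩
    have i1 : ((g⁻¹ : GLM) : EndM) * x = x := by
      conv_lhs => rw [← g1]
      rw [← mul_assoc, Units.inv_mul, one_mul]
    refine ⟨G.inv_mem hg, i1, ?_, fun m hm => ?_⟩
    · conv_lhs => rw [← g2]
      rw [mul_assoc, Units.mul_inv, mul_one]
    · obtain ⟨n, hn⟩ := g3 m hm
      have e : (((g⁻¹ : GLM) : EndM) - 1) m = -(((g⁻¹ : GLM) : EndM) (((g : EndM) - 1) m)) := by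
        rw [← Module.End.mul_apply, mul_sub, mul_one, Units.inv_mul]
        simp
      rw [e, ← hn, ← Module.End.mul_apply, i1]
      exact neg_mem ⟨n, rfl⟩

theorem sub_one_pow_three_of_mem_Kgrp {G : Subgroup GLM} {x : EndM} {g : GLM} (hg : g ∈ Kgrp G x) :
    ((g : EndM) - 1) ^ 3 = 0 := by
  obtain ⟨-, g1, g2, g3⟩ := hg
  refine LinearMap.ext fun m => ?_
  have h1 : x (((g : EndM) - 1) m) = 0 := by
    rw [← Module.End.mul_apply, mul_sub, mul_one, g2, sub_self]; rfl
  obtain ⟨n, hn⟩ := g3 _ h1
  rw [pow_succ', pow_two, Module.End.mul_apply, Module.End.mul_apply, ← hn, ← Module.End.mul_apply,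
    sub_mul, one_mul, g1, sub_self]
  rfl

include hp

theorem pow_p_eq_one {g : GLM} (h : ((g : EndM) - 1) ^ 3 = 0) : g ^ p = 1 := by
  rcases subsingleton_or_nontrivial EndM with hs | hn
  · exact Units.ext (Subsingleton.elim _ _)
  have : CharP EndM p := charP_of_injective_algebraMap (algebraMap (ZMod p) EndM).injective p
  have h1 : ((g : EndM) - 1) ^ p = 0 := pow_eq_zero_of_le (by omega) h
  rw [sub_pow_char_of_commute p (Commute.one_right (g : EndM)), one_pow, sub_eq_zero] at h1
  exact Units.ext (by rw [Units.val_pow_eq_pow_val, h1, Units.val_one])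

theorem isPGroup_Kgrp (G : Subgroup GLM) (x : EndM) : IsPGroup p (Kgrp G x) := fun g =>
  ⟨1, Subtype.ext (by rw [pow_one]; exact pow_p_eq_one hp (sub_one_pow_three_of_mem_Kgrp g.2))⟩

/-- Two partners of `x` are conjugate in `Kgrp H x`. -/
theorem exists_conj_pair {H : Subgroup GLM} {x y y' : EndM} (h : IsPair x y) (h' : IsPair x y')
    (hx : Fam H x) (hy : Fam H y) (hy' : Fam H y') :
    ∃ k ∈ Kgrp H x, cj k y = y' ∧
      ∀ v : EndM, Commute v x → Commute v y → Commute v y' → Commute v (k : EndM) := by
  obtain ⟨t, htH, hte, htt⟩ := h.exists_invol hx hy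
  obtain ⟨t', ht'H, ht'e, ht't'⟩ := h'.exists_invol hx hy'
  have htinv : t⁻¹ = t := inv_eq_of_mul_eq_one_right htt
  have ht'inv : t'⁻¹ = t' := inv_eq_of_mul_eq_one_right ht't'
  have hK : t * t' ∈ Kgrp H x := by
    refine ⟨H.mul_mem htH ht'H, ?_, ?_, fun m hm => ?_⟩
    · rw [Units.val_mul, hte, ht'e, two_smul, two_smul]
      simp only [mul_sub, sub_mul, mul_add, add_mul, mul_one, one_mul, mul_assoc, h.pi_x, h'.pi_x]
      abel
    · rw [Units.val_mul, hte, ht'e, two_smul, two_smul]
      simp only [mul_sub, sub_mul, mul_one, one_mul, ← mul_assoc,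
        h.x_pi, h'.x_pi, mul_add, add_mul]
      abel
    · have hr : ∀ {y : EndM}, IsPair x y → pi2 x y m ∈ LinearMap.range x := fun {y} _ =>
        ⟨y m, by simp [pi2, hm]⟩
      have hr2 : pi2 x y (pi2 x y' m) ∈ LinearMap.range x := by
        obtain ⟨n, hn⟩ := hr h'
        exact ⟨n, by rw [← hn, ← Module.End.mul_apply, h.pi_x]⟩
      rw [Units.val_mul, hte, ht'e]
      have e : ((1 - (2 : ZMod p) • pi2 x y) * (1 - (2 : ZMod p) • pi2 x y') - 1 : EndM) m =
          (2 : ZMod p) • (2 : ZMod p) • pi2 x y (pi2 x y' m) - (2 : ZMod p) • pi2 x y m -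
            (2 : ZMod p) • pi2 x y' m := by
        simp only [LinearMap.sub_apply, Module.End.mul_apply, Module.End.one_apply,
          LinearMap.smul_apply, map_sub, map_smul]
        module
      rw [e]
      exact sub_mem (sub_mem (Submodule.smul_mem _ _ (Submodule.smul_mem _ _ hr2))
        (Submodule.smul_mem _ _ (hr h))) (Submodule.smul_mem _ _ (hr h'))
  have hord : (t * t') ^ p = 1 := pow_p_eq_one hp (sub_one_pow_three_of_mem_Kgrp hK)
  obtain ⟨j, hj⟩ : ∃ j, 2 * j + 1 = p := by
    obtain ⟨j, hj⟩ := (Fact.out : p.Prime).odd_of_ne_two (by omega)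
    exact ⟨j, hj.symm⟩
  set a := t * t' with ha
  have hat : t * a⁻¹ = a * t := by
    rw [ha, _root_.mul_inv_rev, htinv, ht'inv, mul_assoc]
  set k0 := a ^ j with hk0
  have hk0K : k0 ∈ Kgrp H x := (Kgrp H x).pow_mem hK j
  have hconj : k0 * t * k0⁻¹ = t' := by
    have h1 : ∀ i : ℕ, t * (a ^ i)⁻¹ = a ^ i * t := by
      intro i
      induction i with
      | zero => simp
      | succ i ih =>
        rw [pow_succ a i, _root_.mul_inv_rev, ← mul_assoc, hat, mul_assoc a t, ih, ← mul_assoc,
          (Commute.self_pow a i).eq]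
    rw [mul_assoc, h1, ← mul_assoc, hk0, ← pow_add]
    have h2 : a ^ (j + j) = a⁻¹ := by
      refine eq_inv_of_mul_eq_one_left ?_
      rw [← pow_succ, show j + j + 1 = p by omega, hord]
    rw [h2, ha, _root_.mul_inv_rev, ht'inv, htinv, mul_assoc, htt, mul_one]
  have hfix : cj k0 x = x := by
    obtain ⟨-, g1, g2, -⟩ := id hk0K
    rw [cj, g1]
    conv_lhs => rw [← g2]
    rw [mul_assoc, Units.mul_inv, mul_one]
  set y1 := cj k0 y with hy1def
  have hP1 : IsPair x y1 := by
    have := h.cj k0
    rwa [hfix] at this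
  have hpi : pi2 x y' = pi2 x y1 := by
    refine smul_two_cancel hp ?_
    have e1 : cj k0 (t : EndM) = (t' : EndM) := by
      rw [cj, ← Units.val_mul, ← Units.val_mul, hconj]
    rw [hte, ht'e, cj_sub, cj_self_one, cj_smul, sub_right_inj] at e1
    rw [← e1]
    congr 1
    rw [pi2, pi2, cj_add, cj_mul, cj_mul, hfix]
  obtain ⟨hU, huu, hcj⟩ := isU_of_pairs hP1 h' hpi
  have hy1 : Fam H y1 := hy.cj hk0K.1
  have hfu := fam_u hp (rk x) hP1 hU le_rfl hx hy1 (by rw [hcj]; exact hy')
  set u := x * y1 * y' * x with hudef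
  have hgu : onePlus u huu ∈ Kgrp H x := by
    refine ⟨hfu.mem.onePlus_mem _, ?_, ?_, fun m _ => ?_⟩
    · rw [coe_onePlus, add_mul, one_mul, hU.ux, add_zero]
    · rw [coe_onePlus, mul_add, mul_one, hU.xu, add_zero]
    · rw [coe_onePlus, add_sub_cancel_left]
      exact ⟨(y1 * y' * x) m, by rw [hudef]; simp only [Module.End.mul_apply]⟩
  refine ⟨onePlus u huu * k0, (Kgrp H x).mul_mem hgu hk0K, by rw [← cj_cj, ← hy1def, hcj],
    fun v vx vy vy' => ?_⟩
  have hvt : ∀ {y : EndM}, Commute v y → Commute v ((1 : EndM) - (2 : ZMod p) • pi2 x y) := fun hv =>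
    (Commute.one_right v).sub_right (((vx.mul_right hv).add_right (hv.mul_right vx)).smul_right _)
  have hvk : Commute v (k0 : EndM) := by
    rw [hk0, Units.val_pow_eq_pow_val, ha, Units.val_mul, hte, ht'e]
    exact ((hvt vy).mul_right (hvt vy')).pow_right j
  have hvy1 : Commute v y1 := by
    rw [hy1def, cj]
    exact (hvk.mul_right vy).mul_right hvk.units_inv_right
  rw [Units.val_mul, coe_onePlus, hudef]
  exact ((Commute.one_right v).add_right (((vx.mul_right hvy1).mul_right vy').mul_right vx)).mul_right hvk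

end Cfsg.Agent.FlavellQ
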