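import Cfsg.Agent.Lib.FlavellQ.Conj
import Cfsg.Agent.Lib.Coprime.Sylow

/-!
# No quadratic element lies in the `p`-core of the centralizer of a `p'`-group

* `exists_full`: a quadratic element outside `O_p(G)` has a full partner;
* `fix_eq_zero`: if `O_p(G) = 1`, `p > 3` and `Z` is a `p'`-group normalizing `G`, no nontrivial
  quadratic element lies in `O_p(C_G(Z))`.
-/

set_option autoImplicit false
set_option linter.unusedSectionVars false
set_option linter.style.haveILetI false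

universe u

namespace Cfsg.Agent.FlavellQ

open Cfsg Cfsg.Agent.QuadPair
open scoped Pointwise

variable {p : ℕ} [Fact p.Prime] {M : Type u} [AddCommGroup M] [Module (ZMod p) M] [Finite M]

local notation "GLM" => LinearMap.GeneralLinearGroup (ZMod p) M
local notation "EndM" => Module.End (ZMod p) M

/-- Conjugation as an action on endomorphisms. -/
@[instance_reducible] def cjAct : MulAction GLM EndM where
  smul g x := cj g x
  one_smul := cj_one
  mul_smul g h x := (cj_cj g h x).symm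

theorem cj_eq_self_iff {g : GLM} {x : EndM} : cj g x = x ↔ (g : EndM) * x = x * (g : EndM) := by
  rw [cj]
  constructor
  · intro h
    conv_rhs => rw [← h]
    rw [mul_assoc, Units.inv_mul, mul_one]
  · intro h
    rw [h, mul_assoc, Units.mul_inv, mul_one]

theorem onePlus_mem_centralizer_iff {Z : Subgroup GLM} {x : EndM} (hx : x * x = 0) :
    onePlus x hx ∈ Subgroup.centralizer (Z : Set GLM) ↔ ∀ a ∈ Z, cj a x = x := by
  rw [Subgroup.mem_centralizer_iff]
  refine forall₂_congr fun a _ => ?_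
  rw [commute_iff_sub_one, coe_onePlus, add_sub_cancel_left, cj_eq_self_iff, sub_mul, mul_sub,
    one_mul, mul_one, sub_left_inj]

theorem Qd.cj_eq {G Z : Subgroup GLM} {x : EndM} (hx : Qd (G ⊓ Subgroup.centralizer (Z : Set GLM)) x)
    {a : GLM} (ha : a ∈ Z) : QuadPair.cj a x = x :=
  (onePlus_mem_centralizer_iff hx.1).1 (Subgroup.mem_inf.1 hx.mem).2 a ha

theorem Qd.cj_normalizer {G : Subgroup GLM} {y : EndM} (hy : Qd G y) {a : GLM}
    (ha : a ∈ Subgroup.normalizer (G : Set GLM)) : Qd G (QuadPair.cj a y) := by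
  refine ⟨by rw [← cj_mul, hy.1, cj_zero], fun c => ?_⟩
  obtain ⟨h, hh, eh⟩ := hy.2 c
  refine ⟨a * h * a⁻¹, (Subgroup.mem_normalizer_iff.1 ha h).1 hh, ?_⟩
  have e : (h : EndM) - 1 = c • y := by rw [eh, add_sub_cancel_left]
  rw [← cj_smul, ← e, cj_sub_one, add_sub_cancel]

theorem eq_one_of_sq_of_isPGroup {U : Subgroup GLM} (hU : IsPGroup p U) (hp : p ≠ 2) {t : GLM}
    (ht : t ∈ U) (h2 : t * t = 1) : t = 1 := by
  obtain ⟨n, hn⟩ := hU ⟨t, ht⟩
  have h1 : t ^ p ^ n = 1 := congrArg Subtype.val hn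
  obtain ⟨m, hm⟩ := ((Fact.out : p.Prime).odd_of_ne_two hp).pow (n := n)
  rwa [hm, pow_succ, pow_mul, pow_two, h2, one_pow, one_mul] at h1

variable (hp : 3 < p)
include hp

theorem exists_partner {H : Subgroup GLM} {x : EndM} (hx : Qd H x)
    (hnot : (⟨onePlus x hx.1, hx.mem⟩ : H) ∉ pCore p H) :
    ∃ y, Qd H y ∧ y * x * y = y ∧ Fam H (x * y * x) ∧ x * y * x ≠ 0 := by
  obtain ⟨g, hg, hz⟩ := exists_conj_not_isNilpotent hx hnot
  have hy := hx.cj hg
  obtain ⟨e, b₁, -, hex, -, -, hfe, -, -, hb, hbf, hbab, haba⟩ :=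
    exists_split (genP hp) (two_ne hp) (by rw [Nat.card_zmod]; omega) hx.1 hy.1 hx.2 hy.2 hz
  exact ⟨b₁, ⟨hb, hbf⟩, hbab, haba.symm ▸ hfe, haba.symm ▸ hex⟩

theorem exists_full {G : Subgroup GLM} {x : EndM} (hx : Qd G x)
    (hnot : (⟨onePlus x hx.1, hx.mem⟩ : G) ∉ pCore p G)
    (hfix : ∀ t ∈ G, t * t = 1 → ∀ (x' : EndM)
      (hx' : Qd (G ⊓ Subgroup.centralizer (Subgroup.zpowers t : Set GLM)) x'), rk x' < rk x →
      (⟨onePlus x' hx'.1, hx'.mem⟩ :
        (G ⊓ Subgroup.centralizer (Subgroup.zpowers t : Set GLM) : Subgroup GLM)) ∈ pCore p _ →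
      x' = 0) :
    ∃ y, Qd G y ∧ IsPair x y := by
  classical
  obtain ⟨y0, hy0, hy0x, hy0f, hy0n⟩ := exists_partner hp hx hnot
  obtain ⟨y, ⟨hyq, hyx, hyf⟩, hmax⟩ := Set.exists_max_image
    {y : EndM | Qd G y ∧ y * x * y = y ∧ Fam G (x * y * x)} (fun y => rk (x * y * x))
    (Set.toFinite _) ⟨y0, hy0, hy0x, hy0f⟩
  set x1 := x * y * x with hx1def
  have hpos : 0 < rk x1 := (rk_pos hy0n).trans_le (hmax y0 ⟨hy0, hy0x, hy0f⟩)
  have hyxr : ∀ r, y * (x * (y * r)) = y * r := fun r => by simp only [← mul_assoc, hyx]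
  have hyx' : y * (x * y) = y := by rw [← mul_assoc, hyx]
  have hxx : ∀ r, x * (x * r) = 0 := fun r => by rw [← mul_assoc, hx.1, zero_mul]
  have h : IsPair x1 y := ⟨by simp only [hx1def, mul_assoc, hxx, mul_zero], hyq.1,
    by simp only [hx1def, mul_assoc, hyxr], by simp only [hx1def, mul_assoc, hyxr, hyx']⟩
  have hπ : pi2 x1 y = x * y + y * x := by
    simp only [pi2, hx1def, mul_assoc, hyx', hyxr]
  have hπx : pi2 x1 y * x = x1 := by
    rw [hπ, add_mul, mul_assoc y x x, hx.1, mul_zero, add_zero]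
  have hxπ : x * pi2 x1 y = x1 := by
    rw [hπ, mul_add, ← mul_assoc, ← mul_assoc, hx.1, zero_mul, zero_add]
  set q := pi2 x1 y with hqdef
  set x2 := x - x1 with hx2def
  by_cases hx20 : x2 = 0
  · exact ⟨y, hyq, hx.1, hyq.1, (sub_eq_zero.1 hx20).symm, hyx⟩
  exfalso
  have hq1 : q * x1 = x1 := h.pi_x
  have hq1' : x1 * q = x1 := h.x_pi
  have hq2 : q * x2 = 0 := by rw [hx2def, mul_sub, hπx, hq1, sub_self]
  have hq2' : x2 * q = 0 := by rw [hx2def, sub_mul, hxπ, hq1', sub_self]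
  have hx2 : Qd G x2 := ⟨by
      simp only [hx2def, hx1def, mul_sub, sub_mul, mul_assoc, hxx, hx.1, mul_zero, sub_zero],
    Fam.sub' hx.2 hyf (by simp only [hx1def, mul_assoc, hxx])⟩
  have hrk : rk x = rk x1 + rk x2 := by
    conv_lhs => rw [show x = x1 + x2 by rw [hx2def, add_sub_cancel]]
    exact rk_add hq1 hq1' hq2 hq2'
  obtain ⟨t, htG, hte, htt⟩ := h.exists_invol hyf hyq.2
  set L := G ⊓ Subgroup.centralizer (Subgroup.zpowers t : Set GLM) with hLdef
  have hcom : ∀ {v : EndM}, v * q = q * v → ∀ a ∈ Subgroup.zpowers t, cj a v = v := by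
    intro v hv a ha
    have ht' : Commute v (t : EndM) := by
      rw [hte]
      exact (Commute.one_right v).sub_right ((show Commute v q from hv).smul_right _)
    obtain ⟨n, rfl⟩ := Subgroup.mem_zpowers_iff.1 ha
    exact cj_eq_self_iff.2 (ht'.units_zpow_right n).symm.eq
  have hx2L : Qd L x2 := ⟨hx2.1, fam_of_mem hx2.1 ⟨onePlus x2 hx2.1, ⟨hx2.mem,
    (onePlus_mem_centralizer_iff hx2.1).2 (hcom (hq2'.trans hq2.symm))⟩, rfl⟩⟩
  have hnot2 : (⟨onePlus x2 hx2L.1, hx2L.mem⟩ : L) ∉ pCore p L := fun hm =>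
    hx20 (hfix t htG htt x2 hx2L (by omega) hm)
  obtain ⟨y1, hy1, hy1x, hy1f, hy1n⟩ := exists_partner hp hx2L hnot2
  have hqy1 : y1 * q = q * y1 := by
    have h1 := cj_eq_self_iff.1 (hy1.cj_eq (G := G) (Subgroup.mem_zpowers t))
    rw [hte, sub_mul, mul_sub, one_mul, mul_one, sub_right_inj, smul_mul_assoc, mul_smul_comm] at h1
    exact (smul_two_cancel hp h1).symm
  have hqy1' : q * y1 = 0 := by
    rw [← hy1x, mul_assoc y1 x2 y1, ← mul_assoc q, ← hqy1, mul_assoc y1 q, ← mul_assoc q x2, hq2,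
      zero_mul, mul_zero]
  have hy1q : y1 * q = 0 := hqy1.trans hqy1'
  have hyq' : y * q = y := h.y_pi
  have hqy : q * y = y := h.pi_y
  have e1 : y * y1 = 0 := by rw [← hyq', mul_assoc, hqy1', mul_zero]
  have e2 : y1 * y = 0 := by rw [← hqy, ← mul_assoc, hy1q, zero_mul]
  have e3 : y1 * x1 = 0 := by rw [← hq1, ← mul_assoc, hy1q, zero_mul]
  have e4 : x1 * y1 = 0 := by rw [← hq1', mul_assoc, hqy1', mul_zero]
  have e5 : y * x2 = 0 := by rw [← hyq', mul_assoc, hq2, mul_zero]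
  have e6 : x2 * y = 0 := by rw [← hqy, ← mul_assoc, hq2', zero_mul]
  have hxe : x = x1 + x2 := by rw [hx2def, add_sub_cancel]
  have hy1x' : y1 * x * y1 = y1 := by rw [hxe, mul_add, e3, zero_add, hy1x]
  have hxy1x : x * y1 * x = x2 * y1 * x2 := by
    rw [hxe, add_mul, e4, zero_add, mul_add, mul_assoc x2 y1 x1, e3, mul_zero, zero_add]
  have e7 : y * x * y1 = 0 := by
    rw [hxe, mul_add, e5, add_zero, mul_assoc, e4, mul_zero]
  have e8 : y1 * x * y = 0 := by
    rw [hxe, mul_add, e3, zero_add, mul_assoc, e6, mul_zero]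
  have hY : Qd G (y + y1) :=
    ⟨by simp only [mul_add, add_mul, hyq.1, hy1.1, e1, e2, add_zero],
      hyq.2.add (hy1.mono inf_le_left).2 e1⟩
  have hYx : (y + y1) * x * (y + y1) = y + y1 := by
    simp only [mul_add, add_mul, hyx, hy1x', e7, e8, add_zero, zero_add]
  set v := x2 * y1 * x2 with hvdef
  have hYf : x * (y + y1) * x = x1 + v := by rw [mul_add, add_mul, hxy1x]
  have hvq : v * q = 0 := by rw [hvdef, mul_assoc, hq2', mul_zero]
  have hqv : q * v = 0 := by rw [hvdef, ← mul_assoc, ← mul_assoc, hq2, zero_mul, zero_mul]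
  have hfY : Fam G (x * (y + y1) * x) := by
    rw [hYf]
    refine hyf.add (fun c => ?_) ?_
    · obtain ⟨g, hg, e⟩ := hy1f c
      exact ⟨g, hg.1, e⟩
    · rw [← hq1', mul_assoc, hqv, mul_zero]
  have hlt := hmax (y + y1) ⟨hY, hYx, hfY⟩
  simp only [hYf] at hlt
  rw [rk_add hq1 hq1' hqv hvq] at hlt
  have := rk_pos hy1n
  omega

/-- The `p`-core of the centralizer of a `p'`-group has no quadratic element. -/
theorem fix_eq_zero {G : Subgroup GLM} (hG : pCore p G = ⊥) {Z : Subgroup GLM}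
    (hZ : ¬ p ∣ Nat.card Z) (hZG : Z ≤ Subgroup.normalizer (G : Set GLM)) {x : EndM}
    (hx : Qd (G ⊓ Subgroup.centralizer (Z : Set GLM)) x)
    (hmem : (⟨onePlus x hx.1, hx.mem⟩ : (G ⊓ Subgroup.centralizer (Z : Set GLM) : Subgroup GLM)) ∈
      pCore p _) : x = 0 := by
  classical
  induction hr : rk x using Nat.strong_induction_on generalizing Z x with
  | _ r ih =>
  by_contra hx0
  have hxG : Qd G x := hx.mono inf_le_left
  obtain ⟨y, hy, hpair⟩ := exists_full hp hxG (notMem_pCore_of_eq_bot hG hxG hx0)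
    (fun t htG htt x' hx' hlt hm => ih (rk x') (by omega) (Z := Subgroup.zpowers t) (by
        rw [Nat.card_zpowers]
        intro hd
        have h2 : orderOf t ∣ 2 := orderOf_dvd_of_pow_eq_one (by rw [pow_two, htt])
        exact absurd (Nat.le_of_dvd two_pos (hd.trans h2)) (by omega))
      ((Subgroup.zpowers_le.2 htG).trans Subgroup.le_normalizer) hx' hm rfl)
  letI := cjAct (p := p) (M := M)
  have hxfix : ∀ a ∈ Z, cj a x = x := fun a ha => hx.cj_eq ha
  have hK : Z ≤ Subgroup.normalizer (Kgrp G x : Set GLM) := by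
    have key : ∀ a ∈ Z, ∀ g ∈ Kgrp G x, a * g * a⁻¹ ∈ Kgrp G x := by
      rintro a ha g ⟨hg, g1, g2, g3⟩
      have hax := hxfix a ha
      have e : ((a * g * a⁻¹ : GLM) : EndM) = cj a (g : EndM) := by
        rw [cj, Units.val_mul, Units.val_mul]
      refine ⟨(Subgroup.mem_normalizer_iff.1 (hZG ha) g).1 hg, ?_, ?_, fun m hm => ?_⟩
      · rw [e]; conv_lhs => rw [← hax]
        rw [← cj_mul, g1, hax]
      · rw [e]; conv_lhs => rw [← hax]
        rw [← cj_mul, g2, hax]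
      · rw [e, show cj a (g : EndM) - 1 = cj a ((g : EndM) - 1) by rw [cj_sub, cj_self_one]]
        have hm' : x (((a⁻¹ : GLM) : EndM) m) = 0 := by
          have h1 : x * ((a⁻¹ : GLM) : EndM) = ((a⁻¹ : GLM) : EndM) * x :=
            (cj_eq_self_iff.1 (hxfix _ (Z.inv_mem ha))).symm
          rw [← Module.End.mul_apply, h1, Module.End.mul_apply, hm, map_zero]
        obtain ⟨n, hn⟩ := g3 _ hm'
        refine ⟨(a : EndM) n, ?_⟩
        rw [← Module.End.mul_apply x, ← cj_eq_self_iff.1 hax, Module.End.mul_apply, hn, cj,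
          Module.End.mul_apply, Module.End.mul_apply]
    intro a ha
    refine Subgroup.mem_normalizer_iff.2 fun g => ⟨key a ha g, fun h => ?_⟩
    have h1 := key _ (Z.inv_mem ha) _ h
    rwa [show a⁻¹ * (a * g * a⁻¹) * a⁻¹⁻¹ = g by group] at h1
  have hcop : (Nat.card Z).Coprime (Nat.card (Kgrp G x)) := by
    obtain ⟨n, hn⟩ := (isPGroup_Kgrp hp G x).exists_card_eq
    rw [hn]
    exact ((Fact.out : p.Prime).coprime_iff_not_dvd.2 hZ).symm.pow_right n
  have hsol : Group.IsSolvable Z ∨ Group.IsSolvable (Kgrp G x) := by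
    have := (isPGroup_Kgrp hp G x).isNilpotent
    exact Or.inr inferInstance
  obtain ⟨k, hk, hkfix⟩ := Coprime.exists_fixed_point hK hcop hsol y (fun a ha => by
    have h1 : IsPair x (cj a y) := by
      have := hpair.cj a
      rwa [hxfix a ha] at this
    obtain ⟨k, hk, hke, -⟩ := exists_conj_pair hp hpair h1 hxG.2 hy.2 (hy.cj_normalizer (hZG ha)).2
    exact ⟨k, hk, hke⟩)
  set y' := cj k y with hy'def
  obtain ⟨hkG, hk1, hk2, -⟩ := id hk
  have hP : IsPair x y' := by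
    have := hpair.cj k
    rwa [cj_eq_self_iff.2 (hk1.trans hk2.symm)] at this
  have hy' : Qd G y' := hy.cj hkG
  set C := G ⊓ Subgroup.centralizer (Z : Set GLM) with hCdef
  have hyC : Fam C y' := fam_of_mem hy'.1 ⟨onePlus y' hy'.1, ⟨hy'.mem,
    (onePlus_mem_centralizer_iff hy'.1).2 hkfix⟩, rfl⟩
  set U := (pCore p C).map C.subtype with hUdef
  have hUp : IsPGroup p U := PCore.isPGroup_pCore.map _
  have hxU : onePlus x hx.1 ∈ U := ⟨_, hmem, rfl⟩
  obtain ⟨w, hwC, hwe, hwi⟩ := hP.exists_w hx.2 hyC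
  have hUn : w * onePlus x hx.1 * w⁻¹ ∈ U :=
    ⟨⟨w, hwC⟩ * ⟨onePlus x hx.1, hx.mem⟩ * ⟨w, hwC⟩⁻¹,
      (inferInstance : (pCore p C).Normal).conj_mem _ hmem _, rfl⟩
  have hwx : cj w x = -y' := ((⟨hP.sqx, hP.sqx, hP.sqx, hP.xyx, hP.xyx⟩ :
    IsU x y' x).cj_swap hP hwe hwi).1
  have hyU : onePlus y' hy'.1 ∈ U := by
    have e : w * onePlus x hx.1 * w⁻¹ = (onePlus y' hy'.1)⁻¹ := by
      refine Units.ext ?_
      rw [coe_onePlus_inv, sub_eq_add_neg, ← hwx, ← sub_eq_iff_eq_add', ← cj_sub_one, coe_onePlus,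
        add_sub_cancel_left]
    rw [e] at hUn
    exact inv_mem_iff.1 hUn
  obtain ⟨t, ht, hte, htt⟩ := hP.exists_invol (H := U) (fam_of_mem hx.1 ⟨_, hxU, rfl⟩)
    (fam_of_mem hy'.1 ⟨_, hyU, rfl⟩)
  have ht1 := eq_one_of_sq_of_isPGroup hUp (by omega) ht htt
  rw [ht1, Units.val_one, eq_comm, sub_eq_self, smul_eq_zero] at hte
  exact hx0 (by rw [← hP.pi_x, hte.resolve_left (two_ne hp), zero_mul])

end Cfsg.Agent.FlavellQ
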