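import Cfsg.Agent.Lib.FlavellQ.Syl
import Cfsg.Agent.Lib.Balance.CharP
import Cfsg.Agent.Lib.Coprime.Commutator
import Cfsg.Agent.Lib.ConjFun.Parts

/-!
# Operators moving the centraliser of the `p`-core only inside the `p`-core

`Good p R H`: `[C_H(O_p(H)), R] ≤ O_p(H)`, for a solvable operator group `R` of coprime order.

* `commutator_mem_core`: extension from `p'`-elements to all elements;
* `Good.of_normal`, `Good.inf_normalizer`: heredity to normal and `p`-local subgroups;
* `Good.mem_core`: `O_p(H)` contains what lies in all invariant Sylow subgroups and in a normal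
  subgroup whose `p'`-elements centralise `O_p(H)`;
* `invCore p R G`: the intersection of the invariant Sylow subgroups;
* `LocGood.of_le`: the hypothesis on centralisers of operators passes to large invariant subgroups.
-/

set_option autoImplicit false
set_option linter.unusedSectionVars false

namespace Cfsg.Agent.FlavellQ

open Cfsg
open Subgroup
open scoped Pointwise

universe u

variable {X : Type u} [Group X] [Finite X] {p : ℕ} [Fact p.Prime] {R H : Subgroup X}

theorem IsSyl.core_le {S : Subgroup X} (hS : IsSyl p H S) : Balance.core p H ≤ S := by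
  obtain ⟨P, rfl⟩ := hS.exists_sylow
  exact map_mono (Balance.pCore_le_sylow P)

theorem IsSyl.conj {S : Subgroup X} (hS : IsSyl p H S) {g : X} (hg : g ∈ normalizer (H : Set X)) :
    IsSyl p H (MulAut.conj g • S) :=
  isSyl_of_card_ge hS (isPGroup_conj hS.isP g)
    ((pointwise_smul_le_pointwise_smul_iff.2 hS.le).trans (conj_smul_eq_of_mem_normalizer hg).le)
    (card_conj g S).ge

theorem le_normalizer_conj_smul {A S : Subgroup X} {g : X} (hg : g ∈ centralizer (A : Set X))
    (hS : A ≤ normalizer (S : Set X)) :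
    A ≤ normalizer ((MulAut.conj g • S : Subgroup X) : Set X) := fun r hr =>
  Coprime.mem_normalizer_of_conj_smul_eq (by
    rw [← mul_smul, ← map_mul, mem_centralizer_iff.1 hg r hr, map_mul, mul_smul,
      conj_smul_eq_of_mem_normalizer (hS hr)])

/-- A Sylow `p`-subgroup and the elements of order prime to `p` generate. -/
theorem le_of_syl_of_pprime {C S N : Subgroup X} (hS : IsSyl p C S) (hSN : S ≤ N)
    (h : ∀ y ∈ C, (orderOf y).Coprime p → y ∈ N) : C ≤ N := by
  suffices hCN : C ⊓ N = C from hCN.ge.trans inf_le_right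
  refine eq_of_le_of_card_ge inf_le_left (Nat.le_of_dvd Nat.card_pos ?_)
  refine (Nat.dvd_iff_prime_pow_dvd_dvd _ _).2 fun q k hq hdvd => ?_
  have := Fact.mk hq
  obtain ⟨Q, hQ⟩ : ∃ Q : Sylow q C, (Q : Subgroup C).map C.subtype ≤ N := by
    by_cases hqp : q = p
    · subst hqp
      obtain ⟨P, hP⟩ := hS.exists_sylow
      exact ⟨P, hP.le.trans hSN⟩
    · let Q₀ : Sylow q C := default
      refine ⟨Q₀, ?_⟩
      rintro _ ⟨y, hy, rfl⟩
      obtain ⟨j, hj⟩ := Q₀.isPGroup' ⟨y, hy⟩
      refine h _ y.2 (Nat.Coprime.coprime_dvd_left (orderOf_dvd_of_pow_eq_one ?_)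
        (((Nat.coprime_primes hq (Fact.out : p.Prime)).2 hqp).pow_left j))
      exact congrArg (fun z : (Q₀ : Subgroup C) => ((z : C) : X)) hj
  have h1 := card_dvd_of_le (le_inf (map_subtype_le _) hQ)
  rw [card_map_of_injective C.subtype_injective, Q.card_eq_multiplicity] at h1
  exact (pow_dvd_pow q ((hq.pow_dvd_iff_le_factorization Nat.card_pos.ne').1 hdvd)).trans h1

/-- `[C_H(O_p(H)), R] ≤ O_p(H)`. -/
def Good (p : ℕ) (R H : Subgroup X) : Prop :=
  ∀ x ∈ H, x ∈ centralizer (Balance.core p H : Set X) →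
    ∀ a ∈ R, a * x * a⁻¹ * x⁻¹ ∈ Balance.core p H

/-- The centralisers of the nontrivial operators are good. -/
def LocGood (p : ℕ) (R G : Subgroup X) : Prop :=
  ∀ a ∈ R, a ≠ 1 → Good p R (G ⊓ centralizer ({a} : Set X))

/-- The standing hypotheses on an operator group and a subgroup. -/
structure Acts (R H : Subgroup X) : Prop where
  le : R ≤ normalizer (H : Set X)
  cop : (Nat.card R).Coprime (Nat.card H)
  solv : Group.IsSolvable R

theorem Acts.of_le {G : Subgroup X} (h : Acts R G) (hle : H ≤ G)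
    (hn : R ≤ normalizer (H : Set X)) : Acts R H :=
  ⟨hn, h.cop.coprime_dvd_right (card_dvd_of_le hle), h.solv⟩

theorem le_normalizer_inf_centralizer {A U : Subgroup X} (hH : A ≤ normalizer (H : Set X))
    (hU : A ≤ normalizer (U : Set X)) :
    A ≤ normalizer ((H ⊓ centralizer (U : Set X) : Subgroup X) : Set X) :=
  Coprime.le_normalizer_inf_of_le hH (hU.trans (Balance.normalizer_le_normalizer_centralizer _))

theorem le_normalizer_core_of_le {A : Subgroup X} (hA : A ≤ normalizer (H : Set X)) :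
    A ≤ normalizer (Balance.core p H : Set X) :=
  hA.trans (Balance.normalizer_le_normalizer_core H)

theorem mem_centralizer_core_of_le {K L : Subgroup X} {x : X} (hKL : Balance.core p K ≤ Balance.core p L)
    (hx : x ∈ centralizer (Balance.core p L : Set X)) : x ∈ centralizer (Balance.core p K : Set X) :=
  centralizer_le hKL hx

theorem conj_mul_inv_mem {C : Subgroup X} {a x : X} (ha : a ∈ normalizer (C : Set X)) (hx : x ∈ C) :
    a * x * a⁻¹ * x⁻¹ ∈ C :=
  mul_mem ((mem_normalizer_iff.1 ha x).1 hx) (inv_mem hx)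

/-- If every `p'`-element is moved by `R` only by elements of a normalised `p`-subgroup, then every
element is moved only by elements of the `p`-core. -/
theorem commutator_mem_core {C T : Subgroup X} (h : Acts R C) (hTp : IsPGroup p T)
    (hCT : C ≤ normalizer (T : Set X)) (hRT : R ≤ normalizer (T : Set X))
    (hyp : ∀ y ∈ C, (orderOf y).Coprime p → ∀ a ∈ R, a * y * a⁻¹ * y⁻¹ ∈ T) :
    ∀ x ∈ C, ∀ a ∈ R, a * x * a⁻¹ * x⁻¹ ∈ Balance.core p C := by
  wlog hTC : T ≤ C generalizing T
  · exact this (T := T ⊓ C) (hTp.to_le inf_le_left)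
      (Coprime.le_normalizer_inf_of_le hCT le_normalizer) (Coprime.le_normalizer_inf_of_le hRT h.le)
      (fun y hy hc a ha => ⟨hyp y hy hc a ha, conj_mul_inv_mem (h.le ha) hy⟩) inf_le_right
  set O := Balance.core p C
  have hTO : T ≤ O := Balance.le_core hTC hCT hTp
  obtain ⟨S, hS, hSR⟩ := exists_isSyl (p := p) h.le h.cop h.solv
  -- the elements centralising the `p'`-elements modulo `T`
  let K : Subgroup X :=
    { carrier := {k | k ∈ C ∧ ∀ c ∈ C, (orderOf c).Coprime p → k * c * k⁻¹ * c⁻¹ ∈ T}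
      one_mem' := ⟨C.one_mem, fun c _ _ => by simp⟩
      mul_mem' := fun {k l} hk hl => ⟨C.mul_mem hk.1 hl.1, fun c hc hcq => by
        rw [show k * l * c * (k * l)⁻¹ * c⁻¹ =
          (k * (l * c * l⁻¹ * c⁻¹) * k⁻¹) * (k * c * k⁻¹ * c⁻¹) by group]
        exact mul_mem ((mem_normalizer_iff.1 (hCT hk.1) _).1 (hl.2 c hc hcq)) (hk.2 c hc hcq)⟩
      inv_mem' := fun {k} hk => ⟨C.inv_mem hk.1, fun c hc hcq => by
        rw [show k⁻¹ * c * k⁻¹⁻¹ * c⁻¹ = k⁻¹ * (k * c * k⁻¹ * c⁻¹)⁻¹ * k⁻¹⁻¹ by group]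
        exact (mem_normalizer_iff.1 (hCT (C.inv_mem hk.1)) _).1 (inv_mem (hk.2 c hc hcq))⟩ }
  have hTK : T ≤ K := fun t ht => ⟨hTC ht, fun c hc _ => by
    rw [show t * c * t⁻¹ * c⁻¹ = t * (c * t⁻¹ * c⁻¹) by group]
    exact mul_mem ht ((mem_normalizer_iff.1 (hCT hc) _).1 (inv_mem ht))⟩
  have hSK : C ≤ normalizer ((S ⊓ K : Subgroup X) : Set X) := by
    refine le_of_syl_of_pprime hS (le_normalizer_iff.2 fun s hs k hk => ?_) fun c hc hcp => ?_
    · refine ⟨S.mul_mem (S.mul_mem hs hk.1) (S.inv_mem hs),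
        C.mul_mem (C.mul_mem (hS.le hs) hk.2.1) (C.inv_mem (hS.le hs)), fun c hc hcp => ?_⟩
      have h1 := hk.2.2 (s⁻¹ * c * s)
        (C.mul_mem (C.mul_mem (C.inv_mem (hS.le hs)) hc) (hS.le hs))
        (by rw [show s⁻¹ * c * s = MulAut.conj s⁻¹ c by simp, MulEquiv.orderOf_eq]; exact hcp)
      rw [show s * k * s⁻¹ * c * (s * k * s⁻¹)⁻¹ * c⁻¹ =
        s * (k * (s⁻¹ * c * s) * k⁻¹ * (s⁻¹ * c * s)⁻¹) * s⁻¹ by group]
      exact (mem_normalizer_iff.1 (hCT (hS.le hs)) _).1 h1
    · have hzc : ∀ c ∈ C, (orderOf c).Coprime p → ∀ k ∈ S ⊓ K, c * k * c⁻¹ ∈ S ⊓ K := by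
        intro c hc hcp k hk
        rw [show c * k * c⁻¹ = (k * c * k⁻¹ * c⁻¹)⁻¹ * k by group]
        refine mul_mem (inv_mem (le_inf (hTO.trans hS.core_le) hTK (hk.2.2 c hc hcp))) hk
      refine mem_normalizer_iff.2 fun k => ⟨hzc c hc hcp k, fun hk => ?_⟩
      have h1 := hzc c⁻¹ (C.inv_mem hc) (by rwa [orderOf_inv]) _ hk
      rwa [show c⁻¹ * (c * k * c⁻¹) * c⁻¹⁻¹ = k by group] at h1
  have hKO : S ⊓ K ≤ O := Balance.le_core (inf_le_left.trans hS.le) hSK (hS.isP.to_le inf_le_left)
  -- the elements moved only inside `O`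
  let F : Subgroup X :=
    { carrier := {x | x ∈ C ∧ ∀ a ∈ R, a * x * a⁻¹ * x⁻¹ ∈ O}
      one_mem' := ⟨C.one_mem, fun a _ => by simp⟩
      mul_mem' := fun {x y} hx hy => ⟨C.mul_mem hx.1 hy.1, fun a ha => by
        rw [show a * (x * y) * a⁻¹ * (x * y)⁻¹ =
          (a * x * a⁻¹ * x⁻¹) * (x * (a * y * a⁻¹ * y⁻¹) * x⁻¹) by group]
        exact mul_mem (hx.2 a ha)
          ((mem_normalizer_iff.1 (Balance.le_normalizer_core C hx.1) _).1 (hy.2 a ha))⟩
      inv_mem' := fun {x} hx => ⟨C.inv_mem hx.1, fun a ha => by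
        rw [show a * x⁻¹ * a⁻¹ * x⁻¹⁻¹ = x⁻¹ * (a * x * a⁻¹ * x⁻¹)⁻¹ * x⁻¹⁻¹ by group]
        exact (mem_normalizer_iff.1 (Balance.le_normalizer_core C (C.inv_mem hx.1)) _).1
          (inv_mem (hx.2 a ha))⟩ }
  have hF : C ≤ F := by
    refine le_of_syl_of_pprime hS (fun s hs => ⟨hS.le hs, fun a ha => hKO ?_⟩)
      fun y hy hyp' => ⟨hy, fun a ha => hTO (hyp y hy hyp' a ha)⟩
    have hsC := hS.le hs
    refine ⟨conj_mul_inv_mem (hSR ha) hs, conj_mul_inv_mem (h.le ha) hsC, fun c hc hcp => ?_⟩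
    obtain ⟨c₀, rfl⟩ : ∃ c₀, s * c₀ * s⁻¹ = c := ⟨s⁻¹ * c * s, by group⟩
    have hc₀ : c₀ ∈ C := by simpa [mul_assoc] using mul_mem (mul_mem (inv_mem hsC) hc) hsC
    have hc₀p : (orderOf c₀).Coprime p := by
      rwa [show s * c₀ * s⁻¹ = MulAut.conj s c₀ from rfl, MulEquiv.orderOf_eq] at hcp
    have e1 := hyp c₀ hc₀ hc₀p a ha
    have e2 := hyp _ hc hcp a ha
    rw [show a * s * a⁻¹ * s⁻¹ * (s * c₀ * s⁻¹) * (a * s * a⁻¹ * s⁻¹)⁻¹ * (s * c₀ * s⁻¹)⁻¹ =
        ((a * s * a⁻¹) * (a * c₀ * a⁻¹ * c₀⁻¹)⁻¹ * (a * s * a⁻¹)⁻¹) *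
          (a * (s * c₀ * s⁻¹) * a⁻¹ * (s * c₀ * s⁻¹)⁻¹) by group]
    refine mul_mem ((mem_normalizer_iff.1 (hCT ?_) _).1 (inv_mem e1)) e2
    exact (mem_normalizer_iff.1 (h.le ha) s).1 hsC
  exact fun x hx => (hF hx).2

/-- It is enough to test `Good` on elements of order prime to `p`. -/
theorem good_of_pprime (h : Acts R H)
    (hyp : ∀ y ∈ H, y ∈ centralizer (Balance.core p H : Set X) → (orderOf y).Coprime p →
      ∀ a ∈ R, a * y * a⁻¹ * y⁻¹ ∈ Balance.core p H) : Good p R H := by
  intro x hx hxc a ha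
  have hC : Acts R (H ⊓ centralizer (Balance.core p H : Set X)) :=
    h.of_le inf_le_left (le_normalizer_inf_centralizer h.le (le_normalizer_core_of_le h.le))
  exact Balance.core_le_core inf_le_left
    (le_normalizer_inf_centralizer le_normalizer (Balance.le_normalizer_core H))
    (commutator_mem_core hC (Balance.isPGroup_core H) (inf_le_left.trans (Balance.le_normalizer_core H))
      (le_normalizer_core_of_le h.le) (fun y hy hyp' => hyp y hy.1 hy.2 hyp') x ⟨hx, hxc⟩ a ha)

/-- An element of order prime to `p` centralising `O_p(N)`, `N` normal in `H`, centralises `O_p(H)`. -/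
theorem mem_centralizer_core_of_normal {N : Subgroup X} (hNH : N ≤ H)
    (hn : H ≤ normalizer (N : Set X)) {y : X} (hy : y ∈ N)
    (hyc : y ∈ centralizer (Balance.core p N : Set X)) (hyp : (orderOf y).Coprime p) :
    y ∈ centralizer (Balance.core p H : Set X) := by
  refine mem_centralizer_iff.2 fun t ht => ?_
  have h1 : Balance.core p H ⊓ N ≤ Balance.core p N :=
    Balance.le_core inf_le_right
      (Coprime.le_normalizer_inf_of_le (hNH.trans (Balance.le_normalizer_core H)) le_normalizer)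
      ((Balance.isPGroup_core H).to_le inf_le_left)
  have hz : y * t * y⁻¹ * t⁻¹ ∈ Balance.core p N := h1 ⟨conj_mul_inv_mem
    (Balance.le_normalizer_core H (hNH hy)) ht, by
    rw [show y * t * y⁻¹ * t⁻¹ = y * (t * y⁻¹ * t⁻¹) by group]
    exact mul_mem hy ((mem_normalizer_iff.1 (hn (Balance.core_le H ht)) _).1 (inv_mem hy))⟩
  exact (Balance.commute_of_translate' (Balance.isPGroup_core N) hz hyp (by group)
    (mem_centralizer_iff.1 hyc _ hz).symm).eq.symm

/-- `Good` passes to invariant normal subgroups. -/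
theorem Good.of_normal {N : Subgroup X} (h : Good p R H) (hN : Acts R N) (hNH : N ≤ H)
    (hn : H ≤ normalizer (N : Set X)) : Good p R N := by
  refine good_of_pprime hN fun y hy hyc hyp a ha => ?_
  refine Balance.le_core inf_le_right
    (Coprime.le_normalizer_inf_of_le (hNH.trans (Balance.le_normalizer_core H)) le_normalizer)
    ((Balance.isPGroup_core H).to_le inf_le_left)
    ⟨h y (hNH hy) (mem_centralizer_core_of_normal hNH hn hy hyc hyp) a ha,
      conj_mul_inv_mem (hN.le ha) hy⟩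

/-- `Good` passes to normalisers of invariant `p`-subgroups. -/
theorem Good.inf_normalizer {D : Subgroup X} (h : Good p R H) (hH : Acts R H) (hD : D ≤ H)
    (hDp : IsPGroup p D) (hDR : R ≤ normalizer (D : Set X)) :
    Good p R (H ⊓ normalizer (D : Set X)) := by
  set M := H ⊓ normalizer (D : Set X) with hM
  have hMR : R ≤ normalizer (M : Set X) := Coprime.le_normalizer_inf_normalizer hH.le hDR
  have hTM : Balance.core p H ⊓ M ≤ Balance.core p M :=
    Balance.le_core inf_le_right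
      (Coprime.le_normalizer_inf_of_le (inf_le_left.trans (Balance.le_normalizer_core H)) le_normalizer)
      ((Balance.isPGroup_core H).to_le inf_le_left)
  have hDM : D ≤ M := le_inf hD le_normalizer
  refine good_of_pprime (hH.of_le inf_le_left hMR) fun y hy hyc hyp a ha => ?_
  have hyD : ∀ r ∈ D, Commute y r := fun r hr =>
    (mem_centralizer_iff.1 hyc r (Balance.le_core hDM inf_le_right hDp hr)).symm
  have hfix := Balance.commute_of_commute_fixed (Balance.isPGroup_core H) hDp
    (hD.trans (Balance.le_normalizer_core H)) (Balance.le_normalizer_core H hy.1) hyp hyD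
    fun c hc hcD => (mem_centralizer_iff.1 hyc c (hTM ⟨hc, Balance.core_le H hc,
      centralizer_le_normalizer (s := (D : Set X)) (mem_centralizer_iff.2 fun d hd => (hcD d hd).eq)⟩)).symm
  exact hTM ⟨h y hy.1 (mem_centralizer_iff.2 fun t ht => (hfix t ht).eq.symm) a ha,
    conj_mul_inv_mem (hMR ha) hy⟩

/-- If every `p'`-element of the invariant normal subgroup `K` centralises `O_p(H)`, an element of `K`
in all invariant Sylow subgroups of `H` lies in `O_p(H)`. -/
theorem Good.mem_core {K : Subgroup X} (h : Good p R H) (hH : Acts R H) (hKH : K ≤ H)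
    (hHK : H ≤ normalizer (K : Set X)) (hKR : R ≤ normalizer (K : Set X))
    (hKc : ∀ y ∈ K, (orderOf y).Coprime p → y ∈ centralizer (Balance.core p H : Set X))
    {g : X} (hg : g ∈ K)
    (hall : ∀ S : Subgroup X, IsSyl p H S → R ≤ normalizer (S : Set X) → g ∈ S) :
    g ∈ Balance.core p H := by
  have hK : Acts R K := hH.of_le hKH hKR
  have hKT := commutator_mem_core hK (Balance.isPGroup_core H)
    (hKH.trans (Balance.le_normalizer_core H)) (le_normalizer_core_of_le hH.le)
    fun y hy hy' => h y (hKH hy) (hKc y hy hy')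
  have hcom : ⁅K, R⁆ ≤ Balance.core p K := commutator_le.2 fun k hk a ha => by
    rw [commutatorElement_def, show k * a * k⁻¹ * a⁻¹ = (a * k * a⁻¹ * k⁻¹)⁻¹ by group]
    exact inv_mem (hKT k hk a ha)
  obtain ⟨S₀, hS₀, hS₀R⟩ := exists_isSyl (p := p) hK.le hK.cop hK.solv
  set W : Subgroup X := sInf {S | IsSyl p K S}
  have hW : ∀ S, IsSyl p K S → W ≤ S := fun S hS => sInf_le hS
  have hgW : g ∈ W := by
    refine mem_sInf.2 fun S (hS : IsSyl p K S) => ?_
    obtain ⟨k, hk, rfl⟩ := hS₀.exists_conj hS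
    obtain ⟨c, hc, m, hm, rfl⟩ :=
      Coprime.exists_centralizer_mul_commutator hK.le hK.cop (.inl hK.solv) hk
    have hm' : MulAut.conj m • S₀ = S₀ :=
      conj_smul_eq_of_mem_normalizer (le_normalizer (hS₀.core_le (hcom hm)))
    rw [map_mul, mul_smul, hm'] at hS ⊢
    obtain ⟨S', hS', hS'R, hle⟩ := exists_isSyl_ge hH.le hH.cop hH.solv (hS.le.trans hKH) hS.isP
      (le_normalizer_conj_smul hc.2 hS₀R)
    exact hS.max (S' ⊓ K) (le_inf hle hS.le) inf_le_right (hS'.isP.to_le inf_le_left)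
      ⟨hall S' hS' hS'R, hg⟩
  have hWn : K ≤ normalizer (W : Set X) := le_normalizer_iff.2 fun k hk x hx => by
    refine mem_sInf.2 fun S (hS : IsSyl p K S) => ?_
    have h1 := hW _ (hS.conj (le_normalizer (inv_mem hk))) hx
    rw [mem_pointwise_smul_iff_inv_smul_mem, ← map_inv, inv_inv, MulAut.smul_def, MulAut.conj_apply] at h1
    exact h1
  exact Balance.core_le_core hKH hHK
    (Balance.le_core ((hW S₀ hS₀).trans hS₀.le) hWn (hS₀.isP.to_le (hW S₀ hS₀)) hgW)

/-- An invariant `p`-subgroup normalised by the fixed points lies in every invariant Sylow subgroup. -/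
theorem le_syl_of_normalized (h : Acts R H) {U S : Subgroup X} (hU : U ≤ H) (hUp : IsPGroup p U)
    (hUR : R ≤ normalizer (U : Set X))
    (hUC : H ⊓ centralizer (R : Set X) ≤ normalizer (U : Set X))
    (hS : IsSyl p H S) (hSR : R ≤ normalizer (S : Set X)) : U ≤ S := by
  obtain ⟨S', hS', hS'R, hUS⟩ := exists_isSyl_ge h.le h.cop h.solv hU hUp hUR
  obtain ⟨P, hP⟩ := hS'.exists_sylow
  obtain ⟨Q, hQ⟩ := hS.exists_sylow
  obtain ⟨c, hc, he⟩ := Coprime.exists_centralizer_smul_sylow h.le h.cop (.inl h.solv) P Q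
    (hP.symm ▸ hS'R) (hQ.symm ▸ hSR)
  rw [← hQ, ← he, Sylow.coe_subgroup_smul, Coprime.map_conj_smul, hP, H.coe_subtype]
  exact (conj_smul_eq_of_mem_normalizer (hUC ⟨c.2, hc⟩)).ge.trans
    (pointwise_smul_le_pointwise_smul_iff.2 hUS)

/-- The intersection of the invariant Sylow subgroups. -/
def invCore (p : ℕ) (R G : Subgroup X) : Subgroup X :=
  sInf {S | IsSyl p G S ∧ R ≤ normalizer (S : Set X)}

variable {G : Subgroup X}

theorem invCore_le_syl {S : Subgroup X} (hS : IsSyl p G S) (hSR : R ≤ normalizer (S : Set X)) :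
    invCore p R G ≤ S := sInf_le ⟨hS, hSR⟩

theorem isPGroup_invCore (h : Acts R G) : IsPGroup p (invCore p R G) := by
  obtain ⟨S, hS, hSR⟩ := exists_isSyl (p := p) h.le h.cop h.solv
  exact hS.isP.to_le (invCore_le_syl hS hSR)

theorem invCore_le (h : Acts R G) : invCore p R G ≤ G := by
  obtain ⟨S, hS, hSR⟩ := exists_isSyl (p := p) h.le h.cop h.solv
  exact (invCore_le_syl hS hSR).trans hS.le

theorem le_invCore (h : Acts R G) {U : Subgroup X} (hU : U ≤ G) (hUp : IsPGroup p U)
    (hUR : R ≤ normalizer (U : Set X))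
    (hUC : G ⊓ centralizer (R : Set X) ≤ normalizer (U : Set X)) : U ≤ invCore p R G :=
  le_sInf fun _ hS => le_syl_of_normalized h hU hUp hUR hUC hS.1 hS.2

theorem le_normalizer_invCore : R ≤ normalizer (invCore p R G : Set X) :=
  le_normalizer_iff.2 fun _ hr x hx => mem_sInf.2 fun S hS =>
    (mem_normalizer_iff.1 (hS.2 hr) x).1 (mem_sInf.1 hx S hS)

theorem centralizer_le_normalizer_invCore :
    G ⊓ centralizer (R : Set X) ≤ normalizer (invCore p R G : Set X) :=
  le_normalizer_iff.2 fun c hc x hx => mem_sInf.2 fun S hS => by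
    have h1 := mem_sInf.1 hx _ ⟨hS.1.conj (le_normalizer (inv_mem hc.1)),
      le_normalizer_conj_smul (inv_mem hc.2) hS.2⟩
    rw [mem_pointwise_smul_iff_inv_smul_mem, ← map_inv, inv_inv, MulAut.smul_def, MulAut.conj_apply] at h1
    exact h1

/-- The hypothesis on the centralisers of operators passes to invariant subgroups containing the
`p`-cores of these centralisers. -/
theorem LocGood.of_le {M : Subgroup X} (h : LocGood p R G) (hM : M ≤ G)
    (hT : ∀ a ∈ R, a ≠ 1 → Balance.core p (G ⊓ centralizer ({a} : Set X)) ≤ M) :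
    LocGood p R M := by
  intro a ha ha1 x hx hxc b hb
  have hle : M ⊓ centralizer ({a} : Set X) ≤ G ⊓ centralizer ({a} : Set X) := inf_le_inf_right _ hM
  have hTT : Balance.core p (G ⊓ centralizer ({a} : Set X)) ≤
      Balance.core p (M ⊓ centralizer ({a} : Set X)) :=
    Balance.le_core (le_inf (hT a ha ha1) ((Balance.core_le _).trans inf_le_right))
      (hle.trans (Balance.le_normalizer_core _)) (Balance.isPGroup_core _)
  exact hTT (h a ha ha1 x (hle hx) (mem_centralizer_core_of_le hTT hxc) b hb)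

/-- `Good` does not depend on the ambient group. -/
theorem Good.subgroupOf {Γ : Subgroup X} (h : Good p R H) (hH : H ≤ Γ) :
    Good p (R.subgroupOf Γ) (H.subgroupOf Γ) := by
  have e := Balance.core_map_subtype (p := p) (H.subgroupOf Γ)
  rw [map_subgroupOf_eq_of_le hH] at e
  intro x hx hxc a ha
  have hxc' : (x : X) ∈ centralizer (Balance.core p H : Set X) := by
    refine mem_centralizer_iff.2 fun t ht => ?_
    rw [SetLike.mem_coe, e] at ht
    obtain ⟨t', ht', rfl⟩ := ht
    exact congrArg Subtype.val (mem_centralizer_iff.1 hxc t' ht')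
  have h1 := h x hx hxc' a ha
  rw [e] at h1
  obtain ⟨z, hz, hze⟩ := h1
  have hz' : z = a * x * a⁻¹ * x⁻¹ := Subtype.ext hze
  exact hz' ▸ hz

end Cfsg.Agent.FlavellQ
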