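import Cfsg.Agent.Lib.ConjFun.Quadratic

/-!
# A witness when `K∞(S)` is not normal, without a hypothesis on `C(O_p(G))`

The argument of `ConjFun.exists_witness` for a subgroup `S ⊇ O_p(G)`: the element found has a
quadratic factor below `A` or acts trivially on all chief factors below `A`.
-/

set_option autoImplicit false
set_option linter.unusedSectionVars false

universe u

namespace Cfsg.Agent.FlavellQ

open ConjFun
open scoped commutatorElement

variable {G : Type u} [Group G] [Finite G] {p : ℕ} [Fact p.Prime] {A : Subgroup G}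

/-- The elements looked for. -/
def IsWeakWitness (p : ℕ) (S A : Subgroup G) (g : G) : Prop :=
  g ∈ S ∧ g ∉ Cfsg.pCore p G ∧ (g ∉ chiefKer A → HasQuadFactor A g)

omit [Finite G] in
theorem hasQuadFactor_of_notMem_chiefKer {g : G} (hg : g ∉ chiefKer A)
    (hquad : ∀ U V : Subgroup G, Cfsg.IsChiefFactor U V → U ≤ A →
      ⁅⁅U, Subgroup.zpowers g⁆, Subgroup.zpowers g⁆ ≤ V) : HasQuadFactor A g := by
  rw [mem_chiefKer_iff_commutator] at hg
  simp only [not_forall] at hg
  obtain ⟨U, V, hUV, hU, hne⟩ := hg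
  exact ⟨U, V, hUV, hU, hquad U V hUV hU, hne⟩

theorem isWeakWitness_of_quad {S : Subgroup G} (hA : IsCritIn p A) {g : G} (hgS : g ∈ S)
    (hg : g ∉ Cfsg.pCore p G)
    (hAg : ⁅⁅A, Subgroup.zpowers g⁆, Subgroup.zpowers g⁆ ≤ A ⊓ Subgroup.centralizer (A : Set G))
    (hZ : ⁅⁅A ⊓ Subgroup.centralizer (A : Set G), Subgroup.zpowers g⁆, Subgroup.zpowers g⁆ = ⊥) :
    IsWeakWitness p S A g := by
  have := hA.normal
  exact ⟨hgS, hg, fun h => hasQuadFactor_of_notMem_chiefKer h fun U V hUV hU =>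
    quad_on_chiefFactor hUV hU hAg hZ⟩

section

variable (hA : IsCritIn p A) {S : Subgroup G} (hno : ∀ g, ¬ IsWeakWitness p S A g)
include hA hno

/-- `A` is in every lower family. -/
theorem mem_lower_self {R : Subgroup G} (hR : R ≤ S) : A ∈ Cfsg.kLowerStarFamily R := by
  have := hA.normal
  refine ⟨hA.classTwo, le_top.trans (Subgroup.normalizer_eq_top (H := A)).ge,
    fun A₁ _ hA₁R hAN h1 h2 => ?_⟩
  have hT : A₁ ≤ Cfsg.pCore p G := by
    intro g hg
    by_contra hgT
    have hgA : Subgroup.zpowers g ≤ A₁ := Subgroup.zpowers_le.mpr hg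
    refine hno g (isWeakWitness_of_quad (hA := hA) (hR (hA₁R hg)) hgT ?_ (le_bot_iff.mp
      ((Subgroup.commutator_mono (Subgroup.commutator_mono le_rfl hgA) hgA).trans h2.le)))
    refine (Subgroup.commutator_mono (Subgroup.commutator_mono le_rfl hgA) hgA).trans (le_inf ?_ ?_)
    · exact commutator_commutator_le_left A _ _
    · have h3 : ⁅A, A₁⁆ ≤ A₁ := by
        rw [Subgroup.commutator_comm]
        exact commutator_le_left_of_le_normalizer hAN
      refine (Subgroup.commutator_mono h3 le_rfl).trans ?_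
      rw [Subgroup.le_centralizer_iff]
      exact Subgroup.commutator_eq_bot_iff_le_centralizer.mp h1
  rw [Subgroup.commutator_comm] at *
  exact (Subgroup.commutator_mono hT le_rfl).trans hA.comm

/-- The members of the upper families lie in `O_p(G)`. -/
theorem upper_le {E C : Subgroup G} (hAE : A ≤ E) (hCS : C ≤ S)
    (hC : C ∈ Cfsg.kUpperStarFamily E) : C ≤ Cfsg.pCore p G := by
  have := hA.normal
  intro g hg
  by_contra hgT
  have hgC : Subgroup.zpowers g ≤ C := Subgroup.zpowers_le.mpr hg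
  have h1 : ⁅⁅A, Subgroup.zpowers g⁆, Subgroup.zpowers g⁆ = ⊥ := le_bot_iff.mp <| by
    refine (Subgroup.commutator_mono (Subgroup.commutator_mono hAE hgC) hgC).trans ?_
    rw [Subgroup.commutator_comm E C]
    exact (Subgroup.commutator_mono hC.2 le_rfl).trans
      (commutator_centralizer_eq_bot C inf_le_right).le
  exact hno g (isWeakWitness_of_quad (hA := hA) (hCS hg) hgT (h1.le.trans bot_le) (le_bot_iff.mp
    ((Subgroup.commutator_mono (Subgroup.commutator_mono inf_le_left le_rfl) le_rfl).trans h1.le)))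

/-- The members of the lower families lie in `O_p(G)`. -/
theorem lower_le {R B : Subgroup G} (hAR : A ≤ R) (hBS : B ≤ S)
    (hB : B ∈ Cfsg.kLowerStarFamily R) : B ≤ Cfsg.pCore p G := by
  obtain ⟨hB2, hRN, htest⟩ := hB
  have := hA.normal
  set Z := A ⊓ Subgroup.centralizer (A : Set G) with hZdef
  set ZB := B ⊓ Subgroup.centralizer (B : Set G) with hZBdef
  have hZn : Z.Normal := inferInstance
  have hAB : A ≤ Subgroup.normalizer (B : Set G) := hAR.trans hRN
  have hZZ : ⁅Z, Z⁆ = ⊥ := commutator_centralizer_eq_bot Z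
    (inf_le_right.trans (Subgroup.centralizer_le (inf_le_left : Z ≤ A)))
  -- the centre of `A` as a test subgroup
  have hBZ : ⁅B, Z⁆ ≤ ZB := by
    refine htest Z (hZZ.le.trans bot_le) (inf_le_left.trans hAR)
      (le_top.trans (Subgroup.normalizer_eq_top (H := Z)).ge) ?_ (le_bot_iff.mp ?_)
    · rw [hZZ, Subgroup.commutator_bot_right]
    · exact (Subgroup.commutator_mono (Subgroup.commutator_le_right _ Z) le_rfl).trans hZZ.le
  have hZquad : ⁅⁅Z, B⁆, B⁆ = ⊥ := le_bot_iff.mp <| by
    rw [Subgroup.commutator_comm Z B]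
    exact (Subgroup.commutator_mono hBZ le_rfl).trans (commutator_centralizer_eq_bot B inf_le_right).le
  -- the centre of `B` lies in `O_p(G)`
  have hZBT : ZB ≤ Cfsg.pCore p G := by
    intro z hz
    by_contra hzT
    have hzB : Subgroup.zpowers z ≤ B := Subgroup.zpowers_le.mpr hz.1
    have hzC : Subgroup.zpowers z ≤ Subgroup.centralizer (B : Set G) :=
      Subgroup.zpowers_le.mpr hz.2
    have h1 : ⁅⁅A, Subgroup.zpowers z⁆, Subgroup.zpowers z⁆ = ⊥ := le_bot_iff.mp <| by
      refine (Subgroup.commutator_mono ((Subgroup.commutator_mono le_rfl hzB).trans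
        (Subgroup.commutator_comm A B ▸ commutator_le_left_of_le_normalizer hAB)) hzC).trans ?_
      rw [Subgroup.commutator_comm]
      exact (commutator_centralizer_eq_bot B le_rfl).le
    exact hno z (isWeakWitness_of_quad (hA := hA) (hBS hz.1) hzT (h1.le.trans bot_le) (le_bot_iff.mp
      ((Subgroup.commutator_mono (Subgroup.commutator_mono inf_le_left le_rfl) le_rfl).trans h1.le)))
  -- the test subgroup `U₀`
  let U₀ : Subgroup G :=
    { carrier := {a | a ∈ A ∧ ∀ c ∈ A, ⁅a, c⁆ ∈ Subgroup.centralizer (B : Set G)}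
      one_mem' := ⟨one_mem A, fun c _ => by simp⟩
      mul_mem' := fun {a b} ha hb => ⟨mul_mem ha.1 hb.1, fun c hc => by
        have h := hA.classTwo (Subgroup.commutator_mem_commutator hb.1 hc) a ha.1
        rw [show ⁅a * b, c⁆ = (a * ⁅b, c⁆) * a⁻¹ * ⁅a, c⁆ by
          simp [commutatorElement_def, mul_assoc], h, mul_inv_cancel_right]
        exact mul_mem (hb.2 c hc) (ha.2 c hc)⟩
      inv_mem' := fun {a} ha => ⟨inv_mem ha.1, fun c hc => by
        have h := hA.classTwo (Subgroup.commutator_mem_commutator ha.1 hc) a ha.1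
        have h' : a⁻¹ * ⁅a, c⁆⁻¹ * a = ⁅a, c⁆⁻¹ := by
          have h'' : Commute ⁅a, c⁆ a := h.symm
          rw [mul_assoc, h''.inv_left.eq, inv_mul_cancel_left]
        rw [show ⁅a⁻¹, c⁆ = a⁻¹ * ⁅a, c⁆⁻¹ * a by simp [commutatorElement_def, mul_assoc], h']
        exact inv_mem (ha.2 c hc)⟩ }
  have hU₀A : U₀ ≤ A := fun a ha => ha.1
  have hconj : ∀ x : G, (x ∈ B ∨ x ∈ Subgroup.centralizer (Z : Set G)) →
      ∀ a ∈ U₀, x * a * x⁻¹ ∈ U₀ := by
    intro x hx a ha
    refine ⟨hA.normal.conj_mem a ha.1 x, fun c hc => ?_⟩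
    have hc' : x⁻¹ * c * x ∈ A := by simpa using hA.normal.conj_mem c hc x⁻¹
    have h1 := ha.2 _ hc'
    rw [show ⁅x * a * x⁻¹, c⁆ = x * ⁅a, x⁻¹ * c * x⁆ * x⁻¹ by
      simp [commutatorElement_def, mul_assoc]]
    have h2 : x * ⁅a, x⁻¹ * c * x⁆ = ⁅a, x⁻¹ * c * x⁆ * x := by
      rcases hx with hx | hx
      · exact h1 x hx
      · exact (hx _ ⟨Subgroup.commutator_le_self A (Subgroup.commutator_mem_commutator ha.1 hc'),
          hA.classTwo (Subgroup.commutator_mem_commutator ha.1 hc')⟩).symm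
    rwa [h2, mul_inv_cancel_right]
  have hnorm : ∀ K : Subgroup G, (∀ x ∈ K, x ∈ B ∨ x ∈ Subgroup.centralizer (Z : Set G)) →
      K ≤ Subgroup.normalizer (U₀ : Set G) := by
    intro K hK x hx
    rw [Subgroup.mem_normalizer_iff]
    refine fun a => ⟨fun ha => hconj x (hK x hx) a ha, fun ha => ?_⟩
    have := hconj x⁻¹ (hK _ (inv_mem hx)) _ ha
    simpa [mul_assoc] using this
  have hBU : ⁅⁅U₀, B⁆, B⁆ = ⊥ := by
    have hU2 : ⁅U₀, U₀⁆ ≤ Subgroup.centralizer (B : Set G) :=
      Subgroup.commutator_le.mpr fun a ha c hc => ha.2 c hc.1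
    have h1 : ⁅B, U₀⁆ ≤ ZB := by
      refine htest U₀ ((Subgroup.commutator_mono hU₀A hU₀A).trans
          (hA.classTwo.trans (Subgroup.centralizer_le hU₀A))) (hU₀A.trans hAR)
        (hnorm B fun x hx => Or.inl hx) ?_ (le_bot_iff.mp ?_)
      · rw [Subgroup.commutator_comm]
        exact commutator_centralizer_eq_bot B hU2
      · refine (Subgroup.commutator_mono ((Subgroup.commutator_mono hZBT hU₀A).trans hA.comm)
          le_rfl).trans ?_
        exact (commutator_centralizer_eq_bot U₀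
          (inf_le_right.trans (Subgroup.centralizer_le hU₀A))).le
    rw [Subgroup.commutator_comm U₀ B]
    exact le_bot_iff.mp ((Subgroup.commutator_mono h1 le_rfl).trans
      (commutator_centralizer_eq_bot B inf_le_right).le)
  have hAB1 : ⁅A, B⁆ ≤ B := Subgroup.commutator_comm A B ▸ commutator_le_left_of_le_normalizer hAB
  have hβ : A ⊓ ⁅B, B⁆ ≤ U₀ := by
    intro a ha
    refine ⟨ha.1, fun c hc => hB2 ?_⟩
    have hn : A ≤ Subgroup.normalizer ((⁅B, B⁆ : Subgroup G) : Set G) := fun x hx => by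
      rw [Subgroup.mem_normalizer_iff_map_conj_eq]
      show ⁅B, B⁆.map (MulAut.conj x).toMonoidHom = ⁅B, B⁆
      rw [Subgroup.map_commutator, conjMap_eq_self (hAB hx)]
    exact commutator_le_left_of_le_normalizer hn (Subgroup.commutator_mem_commutator ha.2 hc)
  intro g hg
  by_contra hgT
  have hgB : Subgroup.zpowers g ≤ B := Subgroup.zpowers_le.mpr hg
  have hAgg : ⁅⁅A, Subgroup.zpowers g⁆, Subgroup.zpowers g⁆ ≤ A ⊓ ⁅B, B⁆ :=
    le_inf (commutator_commutator_le_left A _ _)
      (Subgroup.commutator_mono ((Subgroup.commutator_mono le_rfl hgB).trans hAB1) hgB)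
  have hZgg : ⁅⁅Z, Subgroup.zpowers g⁆, Subgroup.zpowers g⁆ = ⊥ :=
    le_bot_iff.mp ((Subgroup.commutator_mono (Subgroup.commutator_mono le_rfl hgB) hgB).trans hZquad.le)
  refine hno g ⟨hBS hg, hgT, fun hgA => ?_⟩
  have hZp : IsPGroup p ↥Z := PCore.isPGroup_pCore.to_le (inf_le_left.trans hA.le)
  by_cases hgK : g ∈ chiefKer Z
  swap
  · rw [mem_chiefKer_iff_commutator] at hgK
    simp only [not_forall] at hgK
    obtain ⟨U, V, hUV, hU, hne⟩ := hgK
    exact ⟨U, V, hUV, hU.trans inf_le_left, ((Subgroup.commutator_mono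
      (Subgroup.commutator_mono hU le_rfl) le_rfl).trans hZgg.le).trans bot_le, hne⟩
  refine hasQuadFactor_of_notMem_chiefKer hgA fun U V hUV hU => ?_
  have := hUV.2.1
  have := hUV.2.2.1
  set C₀ := Subgroup.centralizer (Z : Set G) with hC₀
  have : C₀.Normal := Subgroup.normal_centralizer
  set L := C₀ ⊔ Subgroup.zpowers g with hL
  have hp : IsPGroup p ↥((chiefKer Z).map (QuotientGroup.mk' C₀)) := by
    rintro ⟨_, x, hx, rfl⟩
    obtain ⟨k, hk⟩ := exists_pow_mem_centralizer_of_mem_chiefKer hZp hx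
    refine ⟨k, Subtype.ext ?_⟩
    show (QuotientGroup.mk' C₀ x) ^ p ^ k = 1
    rw [← map_pow]
    exact (QuotientGroup.eq_one_iff _).mpr hk
  have hgen := le_sSup_minInv (p := p) hUV (C := C₀) (N := chiefKer Z) (L := L) le_sup_left
    (sup_le (centralizer_le_chiefKer Z) (Subgroup.zpowers_le.mpr hgK)) hp
  set Y := (U ⊓ U₀) ⊔ V with hY
  have hgN : ∀ W : Subgroup G, W.Normal → g ∈ Subgroup.normalizer (W : Set G) := fun W _ =>
    (Subgroup.normalizer_eq_top (H := W)).ge (Subgroup.mem_top g)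
  have hLU : L ≤ Subgroup.normalizer (U₀ : Set G) :=
    sup_le (hnorm C₀ fun x hx => Or.inr hx) ((hgB).trans (hnorm B fun x hx => Or.inl hx))
  have hLY : L ≤ Subgroup.normalizer (Y : Set G) := by
    intro x hx
    rw [Subgroup.mem_normalizer_iff_map_conj_eq]
    show Y.map (MulAut.conj x).toMonoidHom = Y
    rw [hY, Subgroup.map_sup, conjMap_inf, conjMap_eq_self (hLU hx),
      conjMap_eq_self (H := U) ((Subgroup.normalizer_eq_top (H := U)).ge (Subgroup.mem_top x)),
      conjMap_eq_self (H := V) ((Subgroup.normalizer_eq_top (H := V)).ge (Subgroup.mem_top x))]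
  have hYquad : ⁅⁅Y, Subgroup.zpowers g⁆, Subgroup.zpowers g⁆ ≤ V := by
    refine (Subgroup.commutator_mono commutator_sup_le le_rfl).trans (commutator_sup_le.trans ?_)
    exact sup_le (((Subgroup.commutator_mono (Subgroup.commutator_mono inf_le_right hgB) hgB).trans
      hBU.le).trans bot_le) le_rfl
  -- the elements of `U` on which `g` is quadratic
  set F := U ⊓ (kerOn (Subgroup.zpowers g) V inferInstance) with hF
  have hVF : V ≤ F := le_inf hUV.1.le
    (le_kerOn_iff.mpr (Subgroup.commutator_le_right (Subgroup.zpowers g) V))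
  have hgF : g ∈ Subgroup.normalizer (F : Set G) := by
    rw [Subgroup.mem_normalizer_iff_map_conj_eq]
    refine Subgroup.eq_of_le_of_card_ge (H := F.map (MulAut.conj g).toMonoidHom) ?_ (card_conjMap _ _).ge
    rintro _ ⟨x, ⟨hxU, hxK⟩, rfl⟩
    refine ⟨hUV.2.1.conj_mem x hxU g, fun h hh => ?_⟩
    have h1 := hUV.2.2.1.conj_mem _ (hxK (g⁻¹ * h * g)
      (mul_mem (mul_mem (inv_mem (Subgroup.mem_zpowers g)) hh) (Subgroup.mem_zpowers g))) g
    show ⁅h, g * x * g⁻¹⁆ ∈ V
    simpa [commutatorElement_def, mul_assoc] using h1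
  have hUU : ⁅U, U⁆ ≤ V := by
    rcases hUV.2.2.2 (⁅U, U⁆ ⊔ V) inferInstance le_sup_right
      (sup_le (Subgroup.commutator_le_self U) hUV.1.le) with h | h
    · exact le_sup_left.trans h.le
    · exfalso
      haveI : Group.IsNilpotent ↥U :=
        ((PCore.isPGroup_pCore (p := p)).to_le (hU.trans hA.le)).isNilpotent
      have h1 : ⁅(⊤ : Subgroup ↥U), ⊤⁆ ⊔ V.subgroupOf U = ⊤ := by
        apply Subgroup.map_injective U.subtype_injective
        rw [Subgroup.map_sup, Subgroup.map_subgroupOf_eq_of_le hUV.1.le, Subgroup.map_commutator,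
          ← MonoidHom.range_eq_map, Subgroup.range_subtype, h]
      refine hUV.1.ne (le_antisymm hUV.1.le (Subgroup.subgroupOf_eq_top.mp
        (frattini_nongenerating (top_le_iff.mp ?_))))
      rw [← h1, sup_comm _ (V.subgroupOf U)]
      exact sup_le_sup_left (PGroup.commutator_le_frattini
        ((PCore.isPGroup_pCore (p := p)).to_le (hU.trans hA.le))) _
  let W : Subgroup G :=
    { carrier := {u | u ∈ U ∧ ⁅u, g⁆ ∈ F}
      one_mem' := ⟨one_mem U, by simp⟩
      mul_mem' := fun {a b} ha hb => ⟨mul_mem ha.1 hb.1, by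
        rw [show ⁅a * b, g⁆ = ⁅a, ⁅b, g⁆⁆ * ⁅b, g⁆ * ⁅a, g⁆ by
          simp [commutatorElement_def, mul_assoc]]
        exact mul_mem (mul_mem (hVF (hUU (Subgroup.commutator_mem_commutator ha.1
          (Subgroup.mem_inf.mp hb.2).1))) hb.2) ha.2⟩
      inv_mem' := fun {a} ha => ⟨inv_mem ha.1, by
        rw [show ⁅a⁻¹, g⁆ = ⁅a⁻¹, ⁅a, g⁆⁻¹⁆ * ⁅a, g⁆⁻¹ by
          simp [commutatorElement_def, mul_assoc]]
        exact mul_mem (hVF (hUU (Subgroup.commutator_mem_commutator (inv_mem ha.1)
          (inv_mem (Subgroup.mem_inf.mp ha.2).1)))) (inv_mem ha.2)⟩ }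
  have hWmem : ∀ u ∈ U, (∀ h ∈ Subgroup.zpowers g, ⁅⁅u, g⁆, h⁆ ∈ V) → u ∈ W := fun u hu h =>
    ⟨hu, Subgroup.commutator_le_left U _ (Subgroup.commutator_mem_commutator hu
      (Subgroup.mem_zpowers g)), fun h' hh' => by
        rw [← commutatorElement_inv]
        exact inv_mem (h h' hh')⟩
  have hUW : U ≤ W := by
    refine hgen.trans (sSup_le fun R hR => ?_)
    obtain ⟨hVR, hRU, hRn, hRmin⟩ := hR
    have hgR : Subgroup.zpowers g ≤ Subgroup.normalizer (R : Set G) := le_sup_right.trans hRn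
    rcases hRmin (R ⊓ Y) (le_inf hVR.le le_sup_right) inf_le_left
        ((le_inf hRn hLY).trans Subgroup.inf_normalizer_le_normalizer_inf) with h | h
    · intro r hr
      refine hWmem r (hRU hr) fun x hx => h ▸ Subgroup.mem_inf.mpr ⟨?_, ?_⟩
      · exact commutator_le_left_of_le_normalizer hgR (Subgroup.commutator_mem_commutator
          (commutator_le_left_of_le_normalizer hgR
            (Subgroup.commutator_mem_commutator hr (Subgroup.mem_zpowers g))) hx)
      · refine Subgroup.mem_sup_left (Subgroup.mem_inf.mpr ⟨?_, hβ (hAgg ?_)⟩)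
        · exact Subgroup.commutator_le_left U _ (Subgroup.commutator_mem_commutator
            (Subgroup.commutator_le_left U _
              (Subgroup.commutator_mem_commutator (hRU hr) (Subgroup.mem_zpowers g))) hx)
        · exact Subgroup.commutator_mem_commutator
            (Subgroup.commutator_mem_commutator (hU (hRU hr)) (Subgroup.mem_zpowers g)) hx
    · intro r hr
      exact hWmem r (hRU hr) fun x hx => hYquad (Subgroup.commutator_mem_commutator
        (Subgroup.commutator_mem_commutator (inf_le_right (a := R) (h.ge hr))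
          (Subgroup.mem_zpowers g)) hx)
  refine (Subgroup.commutator_mono (commutator_zpowers_le_of (F := F) hgF fun u hu => (hUW hu).2)
    le_rfl).trans ?_
  rw [Subgroup.commutator_comm, ← le_kerOn_iff (hV := hUV.2.2.1)]
  exact inf_le_right

end

/-- If `K∞(S)` is not normal for a subgroup `S ⊇ O_p(G)`, some element of `S` outside `O_p(G)` is a witness. -/
theorem exists_weakWitness (hA : ConjFun.IsCritIn p A) S (hTS : Cfsg.pCore p G ≤ S)
    (hK : ¬ (Cfsg.inducedFunctor Cfsg.kInfLower S).Normal ∨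
      ¬ (Cfsg.inducedFunctor Cfsg.kInfUpper S).Normal) :
    ∃ g, IsWeakWitness p S A g := by
  by_contra hcon
  have hno : ∀ g, ¬ IsWeakWitness p S A g := fun g hg => hcon ⟨g, hg⟩
  set T := Cfsg.pCore p G with hT
  have hAS : A ≤ S := hA.le.trans hTS
  set σ := S.subtype with hσ
  have hσi : Function.Injective σ := Subgroup.subtype_injective _
  have hAlow : ∀ R : Subgroup ↥S, A ≤ (sSup (Cfsg.kLowerStarFamily R)).map σ := by
    intro R
    have hAm : (A.subgroupOf S).map σ = A := Subgroup.map_subgroupOf_eq_of_le hAS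
    have h1 : A.subgroupOf S ∈ Cfsg.kLowerStarFamily R :=
      (KInf.map_mem_lower_iff hσi _ R).mp (by
        rw [hAm]
        exact mem_lower_self hA hno (Subgroup.map_subtype_le R))
    exact hAm.ge.trans (Subgroup.map_mono (le_sSup h1))
  have hupper : ∀ n, (Cfsg.kSeqOdd ↥S (n + 1)).map σ ≤ T := by
    intro n
    rw [KInf.kSeqOdd_succ, Subgroup.map_le_iff_le_comap]
    refine sSup_le fun C hC => ?_
    rw [← Subgroup.map_le_iff_le_comap]
    exact upper_le hA hno (hAlow _) (Subgroup.map_subtype_le C)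
      ((KInf.map_mem_upper_iff hσi C _).mpr hC)
  have hlower' : ∀ n, A ≤ (Cfsg.kSeqOdd ↥S n).map σ →
      (Cfsg.kSeqEven ↥S n).map σ ≤ T := by
    intro n hn
    rw [KInf.kSeqEven_eq, Subgroup.map_le_iff_le_comap]
    refine sSup_le fun B hB => ?_
    rw [← Subgroup.map_le_iff_le_comap]
    exact lower_le hA hno hn (Subgroup.map_subtype_le B) ((KInf.map_mem_lower_iff hσi B _).mpr hB)
  have hAodd : ∀ n, A ≤ (Cfsg.kSeqOdd ↥S n).map σ := by
    intro n
    induction n with
    | zero =>
      rw [KInf.kSeqOdd_zero, ← MonoidHom.range_eq_map, hσ, Subgroup.range_subtype]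
      exact hAS
    | succ n ih =>
      have hAm : (A.subgroupOf S).map σ = A := Subgroup.map_subgroupOf_eq_of_le hAS
      have h1 : A.subgroupOf S ∈
          Cfsg.kUpperStarFamily (Cfsg.kSeqEven ↥S n) :=
        (KInf.map_mem_upper_iff hσi _ _).mp (by
          rw [hAm]
          refine ⟨hA.classTwo, ?_⟩
          rw [Subgroup.commutator_comm]
          exact (Subgroup.commutator_mono (hlower' n ih) le_rfl).trans hA.comm)
      rw [KInf.kSeqOdd_succ]
      exact hAm.ge.trans (Subgroup.map_mono (le_sSup h1))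
  set f := Subgroup.inclusion hTS with hf
  have hfi : Function.Injective f := Subgroup.inclusion_injective hTS
  have hr : ∀ n : ℕ, Cfsg.kSeqEven ↥S n ≤ f.range ∧
      Cfsg.kSeqOdd ↥S (n + 1) ≤ f.range := by
    intro n
    refine ⟨fun x hx => ?_, fun x hx => ?_⟩
    · exact ⟨⟨x, hlower' n (hAodd n) ⟨x, hx, rfl⟩⟩, rfl⟩
    · exact ⟨⟨x, hupper n ⟨x, hx, rfl⟩⟩, rfl⟩
  have key : ∀ K : Subgroup ↥T, K.Characteristic → (K.map T.subtype).Normal := fun K _ =>
    ConjAct.normal_of_characteristic_of_normal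
  rcases hK with h | h
  · refine h ?_
    rw [Cfsg.inducedFunctor, ← KInf.map_kInfLower hfi hr, Subgroup.map_map]
    exact key _ KInf.kInfLower_characteristic
  · refine h ?_
    rw [Cfsg.inducedFunctor, ← KInf.map_kInfUpper hfi hr, Subgroup.map_map]
    exact key _ KInf.kInfUpper_characteristic

end Cfsg.Agent.FlavellQ
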