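import Cfsg.Agent.Lib.FlavellQ.Chief
import Cfsg.Agent.Lib.FlavellQ.Good
import Cfsg.Agent.Lib.FlavellQ.WitnessGood
import Cfsg.Agent.Lib.ConjFun.KInfLocal

/-!
# `K∞` in a good subgroup

`le_normalizer_kInfLower`: for `p > 3` and a good subgroup `H`, `K∞(P)` is normal in `H` for a
subgroup `P` between `O_p(H)` and all invariant Sylow subgroups of `H`.
-/

set_option autoImplicit false
set_option linter.unusedSectionVars false

universe u

namespace Cfsg.Agent.FlavellQ

open Cfsg
open Subgroup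
open scoped Pointwise

variable {X : Type u} [Group X] [Finite X] {p : ℕ} [Fact p.Prime] {R H : Subgroup X}

theorem pCore_eq_core_of_index_coprime {N : Subgroup X} [hN : N.Normal]
    (hidx : N.index.Coprime p) : pCore p X = Balance.core p N := by
  refine le_antisymm ?_ (Balance.core_le_pCore_of_isSubnormal hN.isSubnormal)
  have hle : pCore p X ≤ N := fun x hx => by
    obtain ⟨k, hk⟩ := PCore.isPGroup_pCore (⟨x, hx⟩ : pCore p X)
    have hk' : x ^ p ^ k = 1 := congrArg Subtype.val hk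
    rw [← QuotientGroup.eq_one_iff, ← orderOf_eq_one_iff]
    refine Nat.eq_one_of_dvd_coprimes (hidx.pow_right k) ?_ (orderOf_dvd_of_pow_eq_one ?_)
    · rw [index_eq_card]; exact orderOf_dvd_natCard _
    · rw [← QuotientGroup.mk_pow, hk', QuotientGroup.mk_one]
  exact Balance.le_core hle (le_top.trans (normalizer_eq_top (H := pCore p X)).ge)
    PCore.isPGroup_pCore

theorem normal_kInfLower_of_good (hp : 3 < p) {N : Subgroup X} [N.Normal] (h : Acts R N)
    (hidx : N.index.Coprime p) (hgood : Good p R N) {P : Subgroup X}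
    (hTP : Balance.core p N ≤ P) (hPN : P ≤ N) (hall : ∀ g ∈ P, InAllSyl p N R g) :
    (Cfsg.inducedFunctor Cfsg.kInfLower P).Normal := by
  by_contra hn
  obtain ⟨A, hA⟩ := ConjFun.exists_isCritIn X p
  have := hA.normal
  have hAp : IsPGroup p A := PCore.isPGroup_pCore.to_le hA.le
  have hcore := pCore_eq_core_of_index_coprime (p := p) hidx
  obtain ⟨g, hgP, hgT, hquad⟩ := exists_weakWitness hA P (hcore ▸ hTP) (Or.inl hn)
  refine not_hasQuadFactor hp h.cop h.solv hAp (hPN hgP) (hall g hgP) (hquad fun hgK => hgT ?_)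
  rw [hcore]
  refine hgood.mem_core (K := ConjFun.chiefKer A ⊓ N) h inf_le_right
    (le_top.trans (normalizer_eq_top (H := ConjFun.chiefKer A ⊓ N)).ge)
    (le_top.trans (normalizer_eq_top (H := ConjFun.chiefKer A ⊓ N)).ge) ?_ ⟨hgK, hPN hgP⟩
    (hall g hgP)
  intro y hy hyp
  have hcA := ConjFun.mem_centralizer_of_mem_chiefKer hAp hy.1 hyp
  have hφ : (MulAut.conjNormal y : MulAut ↥(pCore p X)) = 1 := by
    refine hA.aut _ (hyp.coprime_dvd_left (orderOf_map_dvd _ y)) fun a ha => Subtype.ext ?_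
    show y * (a : X) * y⁻¹ = a
    rw [← hcA a ha, mul_inv_cancel_right]
  refine mem_centralizer_iff.2 fun t ht => ?_
  rw [← hcore] at ht
  have he : y * t * y⁻¹ = t :=
    congrArg Subtype.val (DFunLike.congr_fun hφ (⟨t, ht⟩ : ↥(pCore p X)))
  exact (mul_inv_eq_iff_eq_mul.mp he).symm

/-- **`K∞` is normal in a good subgroup.** -/
theorem le_normalizer_kInfLower (hp : 3 < p) (h : Acts R H)
    (hgood : Good p R H) {P : Subgroup X} (hTP : Balance.core p H ≤ P) (hPH : P ≤ H)
    (hall : ∀ S : Subgroup X, IsSyl p H S → R ≤ normalizer (S : Set X) → P ≤ S) :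
    H ≤ normalizer ((Cfsg.inducedFunctor Cfsg.kInfLower P : Subgroup X) : Set X) := by
  obtain ⟨S₀, hS₀, hS₀R⟩ := exists_isSyl (p := p) h.le h.cop h.solv
  have hPp : IsPGroup p P := hS₀.isP.to_le (hall S₀ hS₀ hS₀R)
  by_cases hpr : (Nat.card R).Coprime p
  swap
  · have hdvd : p ∣ Nat.card R := by
      by_contra h1
      exact hpr ((Fact.out : p.Prime).coprime_iff_not_dvd.2 h1).symm
    have hP1 : P = ⊥ := (eq_bot_iff_forall _).2 fun x hx =>
      Balance.eq_one_of_mem_pGroup_of_coprime hPp hx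
        (((h.cop.coprime_dvd_left hdvd).symm).coprime_dvd_left (Subgroup.orderOf_dvd_natCard _ (hPH hx)))
    have hK1 : Cfsg.inducedFunctor Cfsg.kInfLower P = ⊥ :=
      le_bot_iff.1 ((ConjFun.inducedFunctor_le _ P).trans hP1.le)
    rw [hK1]
    exact le_top.trans (normalizer_eq_top (H := (⊥ : Subgroup X))).ge
  set Γ := R ⊔ H with hΓ
  have hRΓ : R ≤ Γ := le_sup_left
  have hHΓ : H ≤ Γ := le_sup_right
  have hN : (H.subgroupOf Γ).Normal :=
    normal_subgroupOf_of_le_normalizer (sup_le h.le le_normalizer)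
  have hidx : (H.subgroupOf Γ).index.Coprime p := by
    refine hpr.coprime_dvd_left ?_
    show H.relIndex (R ⊔ H) ∣ _
    rw [Coprime.relIndex_sup_right_of_le_normalizer h.le]
    exact index_dvd_card _
  have hA : Acts (R.subgroupOf Γ) (H.subgroupOf Γ) :=
    ⟨le_top.trans (normalizer_eq_top (H := H.subgroupOf Γ)).ge,
      by rw [Coprime.card_subgroupOf hRΓ, Coprime.card_subgroupOf hHΓ]; exact h.cop,
      Coprime.isSolvable_subgroupOf hRΓ h.solv⟩
  have eP : (P.subgroupOf Γ).map Γ.subtype = P := map_subgroupOf_eq_of_le (hPH.trans hHΓ)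
  have eH : (H.subgroupOf Γ).map Γ.subtype = H := map_subgroupOf_eq_of_le hHΓ
  have hK := normal_kInfLower_of_good hp hA hidx (hgood.subgroupOf hHΓ) (P := P.subgroupOf Γ)
    (map_le_map_iff_of_injective Γ.subtype_injective |>.1 (by
      rw [← Balance.core_map_subtype, eH, eP]; exact hTP))
    (fun x hx => hPH hx) fun g hg S hS hSR => by
      have hS' := IsSyl.map_injective hS Γ.subtype_injective
      rw [eH] at hS'
      have hSR' : R ≤ normalizer ((S.map Γ.subtype : Subgroup X) : Set X) := fun r hr =>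
        le_normalizer_map Γ.subtype ⟨⟨r, hRΓ hr⟩, hSR hr, rfl⟩
      obtain ⟨z, hz, hze⟩ := hall _ hS' hSR' hg
      exact (Γ.subtype_injective hze) ▸ hz
  have hKe := ConjFun.inducedFunctor_map (KInf.isCharPFunctor_kInfLower (p := p)) Γ.subtype
    (P.subgroupOf Γ) (hPp.of_equiv (subgroupOfEquivOfLe (hPH.trans hHΓ)).symm)
    Γ.subtype_injective.injOn
  rw [eP] at hKe
  intro x hx
  rw [hKe]
  exact le_normalizer_map Γ.subtype ⟨⟨x, hHΓ hx⟩, by rw [normalizer_eq_top (H := _)]; trivial, rfl⟩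

end Cfsg.Agent.FlavellQ
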