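import Cfsg.Agent.Lib.FlavellQ.Central
import Cfsg.Agent.Lib.Components.Subnormal
import Cfsg.Agent.Lib.PCore.Basic

/-!
# Quadratic elements in all invariant Sylow subgroups

`mem_pCore_of_forall_invariant_sylow`: for `p > 3`, a quadratic element of a linear group `G` lying
in every Sylow `p`-subgroup invariant under a solvable operator group of coprime order lies in
`O_p(G)`.
-/

set_option autoImplicit false
set_option linter.unusedSectionVars false

universe u

namespace Cfsg.Agent.FlavellQ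

open Cfsg Cfsg.Agent.QuadPair
open scoped Pointwise

/-- `g` lies in every `A`-invariant Sylow subgroup of `G`. -/
def InAllSyl {X : Type u} [Group X] (p : ℕ) (G A : Subgroup X) (g : X) : Prop :=
  ∀ S : Subgroup X, IsSyl p G S → A ≤ Subgroup.normalizer (S : Set X) → g ∈ S

theorem IsSyl.map_injective {X Y : Type u} [Group X] [Group Y] [Finite X] [Finite Y] {p : ℕ}
    [Fact p.Prime] {G S : Subgroup X} (hS : IsSyl p G S) {f : X →* Y}
    (hf : Function.Injective f) : IsSyl p (G.map f) (S.map f) := by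
  refine ⟨Subgroup.map_mono hS.le, hS.isP.map f, fun T hST hTG hT => ?_⟩
  have hTf : (T.comap f).map f = T := Subgroup.map_comap_eq_self (hTG.trans (Subgroup.map_le_range f G))
  rw [← hTf]
  refine Subgroup.map_mono (hS.max _ (Subgroup.map_le_iff_le_comap.1 hST) ?_
    (hT.comap_of_injective f hf))
  intro x hx
  obtain ⟨y, hy, hxy⟩ := hTG hx
  rwa [← hf hxy]

theorem normalizer_le_normalizer_cent {X : Type u} [Group X] (Z : Subgroup X) :
    Subgroup.normalizer (Z : Set X) ≤
      Subgroup.normalizer ((Subgroup.centralizer (Z : Set X) : Subgroup X) : Set X) := by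
  have key : ∀ r ∈ Subgroup.normalizer (Z : Set X), ∀ l ∈ Subgroup.centralizer (Z : Set X),
      r * l * r⁻¹ ∈ Subgroup.centralizer (Z : Set X) := by
    intro r hr l hl
    rw [Subgroup.mem_centralizer_iff] at hl ⊢
    intro q hq
    have h1 := hl (r⁻¹ * q * r) ((Subgroup.mem_normalizer_iff''.1 hr q).1 hq)
    calc q * (r * l * r⁻¹) = r * (r⁻¹ * q * r * l) * r⁻¹ := by group
      _ = r * (l * (r⁻¹ * q * r)) * r⁻¹ := by rw [h1]
      _ = r * l * r⁻¹ * q := by group
  intro r hr
  refine Subgroup.mem_normalizer_iff.2 fun l => ⟨key r hr l, fun hl => ?_⟩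
  have h1 := key _ (inv_mem hr) _ hl
  rwa [inv_inv, show r⁻¹ * (r * l * r⁻¹) * r = l by group] at h1

variable {p : ℕ} [Fact p.Prime]

/-- A prime power factor of a non-central element is non-central. -/
theorem exists_primePow_notMem {X : Type u} [Group X] [Finite X] (D : Subgroup X) {h : X}
    (hh : h ∉ D) : ∃ q k : ℕ, q.Prime ∧ q ^ k ∣ orderOf h ∧ h ^ (orderOf h / q ^ k) ∉ D := by
  by_contra hall
  push Not at hall
  refine hh ?_
  have hdvd : orderOf h ∣ Nat.card (Subgroup.zpowers h ⊓ D : Subgroup X) := by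
    refine (Nat.dvd_iff_prime_pow_dvd_dvd _ _).2 fun q k hq hk => ?_
    have hmem : h ^ (orderOf h / q ^ k) ∈ Subgroup.zpowers h ⊓ D :=
      ⟨Subgroup.npow_mem_zpowers _ _, hall q k hq hk⟩
    have h1 := Subgroup.orderOf_dvd_natCard _ hmem
    rwa [orderOf_pow_orderOf_div (orderOf_pos h).ne' hk] at h1
  have heq : Subgroup.zpowers h ⊓ D = Subgroup.zpowers h :=
    Subgroup.eq_of_le_of_card_ge inf_le_left (by
      rw [Nat.card_zpowers]; exact Nat.le_of_dvd Nat.card_pos hdvd)
  exact (heq.ge (Subgroup.mem_zpowers h)).2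

section
variable {M : Type u} [AddCommGroup M] [Module (ZMod p) M] [Finite M]

local notation "GLM" => LinearMap.GeneralLinearGroup (ZMod p) M
local notation "EndM" => Module.End (ZMod p) M

variable (hp : 3 < p)
include hp

/-- The case of trivial `p`-core. -/
theorem eq_zero_of_pCore_eq_bot {G A : Subgroup GLM} (hA : A ≤ Subgroup.normalizer (G : Set GLM))
    (hcop : (Nat.card A).Coprime (Nat.card G)) (hsol : Group.IsSolvable A) {g : GLM}
    (hg : g ∈ G) (hq : ((g : EndM) - 1) * ((g : EndM) - 1) = 0) (hall : InAllSyl p G A g)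
    (hG : pCore p G = ⊥)
    (ih : ∀ (C : Subgroup GLM), Nat.card C < Nat.card G → A ≤ Subgroup.normalizer (C : Set GLM) →
      (Nat.card A).Coprime (Nat.card C) → ∀ hC : g ∈ C, InAllSyl p C A g →
      (⟨g, hC⟩ : C) ∈ pCore p C) : g = 1 := by
  classical
  by_contra hg1
  set x := (g : EndM) - 1 with hxdef
  have hx0 : x ≠ 0 := fun h => hg1 (Units.ext (sub_eq_zero.1 h))
  obtain ⟨a0, ⟨ha0, ha00⟩, hmin⟩ := Set.exists_min_image {a : EndM | Qd G a ∧ a ≠ 0} rk
    (Set.toFinite _) ⟨x, qd_of_mem hg hq, hx0⟩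
  have ha0m : IsMin G a0 := ⟨ha0.1, ha00, ha0.2, fun y hy hy0 hyf => hmin y ⟨⟨hy, hyf⟩, hy0⟩⟩
  obtain ⟨S, hS, hSA⟩ := exists_isSyl (p := p) hA hcop hsol
  obtain ⟨F, hF, hFfix, hFA⟩ := exists_fixed_tuple hp hG hS hA hcop hsol hSA
  letI := setAct (p := p) (M := M)
  -- a fixed opposite tuple
  obtain ⟨B0, hB0⟩ := exists_isOpp hp hG hF
  set K := G ⊓ MulAction.stabilizer GLM F with hKdef
  have hAK : A ≤ Subgroup.normalizer (K : Set GLM) := Coprime.le_normalizer_inf_of_le hA
    fun a ha => Subgroup.le_normalizer (show a ∈ MulAction.stabilizer GLM F from hFA a ha)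
  obtain ⟨k, hk, hkA⟩ := Coprime.exists_fixed_point hAK
    (hcop.coprime_dvd_right (Subgroup.card_dvd_of_le inf_le_left)) (.inl hsol) B0 fun r hr => by
    have hrB : IsOpp G F (cj r '' B0) := by
      refine ⟨hB0.1.cj (hA hr), fun a ha => ?_⟩
      rw [← hFA r hr] at ha
      obtain ⟨a', ha', rfl⟩ := ha
      obtain ⟨b, hb, hab⟩ := hB0.2 a' ha'
      exact ⟨_, ⟨b, hb, rfl⟩, hab.cj r⟩
    obtain ⟨g, hg, e1, e2⟩ := exists_stab_smul_eq hp hF hB0 hrB
    exact ⟨g, ⟨hg, e1⟩, e2⟩
  set B := cj k '' B0 with hBdef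
  have hkF : cj k '' F = F := hk.2
  have hB : IsOpp G F B := by
    refine ⟨hB0.1.cj (Subgroup.le_normalizer hk.1), fun a ha => ?_⟩
    rw [← hkF] at ha
    obtain ⟨a', ha', rfl⟩ := ha
    obtain ⟨b, hb, hab⟩ := hB0.2 a' ha'
    exact ⟨_, ⟨b, hb, rfl⟩, hab.cj k⟩
  obtain ⟨g0, hg0, hg0F⟩ := hF.exists_smul_eq hp hG hB.1
  obtain ⟨c, ⟨hcG, hcA⟩, hcF⟩ := Coprime.exists_centralizer_smul_eq hA hcop (.inl hsol)
    (x := F) (y := B) hFA hkA hg0 hg0F
  -- the quadratic elements lying in all invariant Sylow subgroups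
  set Qp : Set GLM := {q | q ∈ quads G ∧ InAllSyl p G A q}
  have hSc : IsSyl p G (MulAut.conj c • S) := by
    refine isSyl_of_card_ge hS (isPGroup_conj hS.isP c) ?_ (card_conj c S).ge
    exact (Subgroup.pointwise_smul_le_pointwise_smul_iff.2 hS.le).trans
      (conj_smul_eq_of_mem_normalizer (Subgroup.le_normalizer hcG)).le
  have hScA : A ≤ Subgroup.normalizer ((MulAut.conj c • S : Subgroup GLM) : Set GLM) := by
    intro r hr
    refine Coprime.mem_normalizer_of_conj_smul_eq ?_
    rw [← mul_smul, ← map_mul, Subgroup.mem_centralizer_iff.1 hcA r hr, map_mul, mul_smul,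
      conj_smul_eq_of_mem_normalizer (hSA hr)]
  have hfixF : ∀ q ∈ Qp, ∀ v ∈ F, cj q v = v := fun q hq v hv =>
    hFfix q ⟨hq.2 S hS hSA, hq.1.2⟩ v hv
  have hfixB : ∀ q ∈ Qp, ∀ v ∈ B, cj q v = v := by
    intro q hq v hv
    rw [← show cj c '' F = B from hcF] at hv
    obtain ⟨u, hu, rfl⟩ := hv
    have h0 := hq.2 _ hSc hScA
    rw [Subgroup.mem_pointwise_smul_iff_inv_smul_mem, ← map_inv, MulAut.smul_def,
      MulAut.conj_apply, inv_inv] at h0
    have h1 := hFfix (c⁻¹ * q * c) ⟨h0, by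
      rw [show c⁻¹ * q * c = c⁻¹ * q * c⁻¹⁻¹ by rw [inv_inv], ← cj_sub_one, ← cj_mul, hq.1.2,
        cj_zero]⟩ u hu
    conv_rhs => rw [← h1]
    rw [cj_cj, cj_cj, ← mul_assoc, ← mul_assoc, mul_inv_cancel, one_mul]
  -- the torus element
  obtain ⟨a, haF, -⟩ := hF.ex a0 ha0m
  obtain ⟨b, hbB, hab⟩ := hB.2 a haF
  have ham := hF.min a haF
  have hbm := hB.1.min b hbB
  obtain ⟨t, ht0, ht1⟩ := exists_torus (k := ZMod p) (two_ne hp) (by rw [Nat.card_zmod]; omega)
  have hps : ∀ s : ZMod p, s ≠ 0 → IsPair (s • a) (s⁻¹ • b) := fun s hs =>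
    ⟨smul_sq hab.sqx s, smul_sq hab.sqy _,
      by simp only [smul_mul_assoc, mul_smul_comm, smul_smul, hab.xyx, mul_inv_cancel₀ hs, one_mul,
        mul_one, mul_inv_cancel_right₀ hs, inv_mul_cancel_right₀ hs, mul_inv_cancel_left₀ hs],
      by simp only [smul_mul_assoc, mul_smul_comm, smul_smul, hab.yxy, mul_inv_cancel₀ hs,
        inv_mul_cancel₀ hs, one_mul, mul_one, mul_inv_cancel_right₀ hs, inv_mul_cancel_right₀ hs]⟩
  set e := a * b with hedef
  set f := b * a with hfdef
  have hee : e * e = e := by rw [hedef, ← mul_assoc, hab.xyx]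
  have hff : f * f = f := by rw [hfdef, ← mul_assoc, hab.yxy]
  have hef : e * f = 0 := by
    rw [hedef, hfdef, mul_assoc, ← mul_assoc b b a, hab.sqy, zero_mul, mul_zero]
  have hfe : f * e = 0 := by
    rw [hedef, hfdef, mul_assoc, ← mul_assoc a a b, hab.sqx, zero_mul, mul_zero]
  obtain ⟨w1, hw1, hw1e, -⟩ := (hps t ht0).exists_w (ham.fam.smul t) (hbm.fam.smul t⁻¹)
  obtain ⟨w2, hw2, hw2e, -⟩ := (hps (-1) (neg_ne_zero.2 one_ne_zero)).exists_w (ham.fam.smul (-1))
    (hbm.fam.smul (-1)⁻¹)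
  obtain ⟨h, hhdef⟩ : ∃ h, h = w1 * w2 := ⟨_, rfl⟩
  have hhe : (h : EndM) = 1 - e - f + t • e + t⁻¹ • f := by
    have hea : ∀ r, a * (a * r) = 0 := fun r => by rw [← mul_assoc, hab.sqx, zero_mul]
    have heb : ∀ r, b * (b * r) = 0 := fun r => by rw [← mul_assoc, hab.sqy, zero_mul]
    have haba : ∀ r, a * (b * (a * r)) = a * r := fun r => by simp only [← mul_assoc, hab.xyx]
    have hbab : ∀ r, b * (a * (b * r)) = b * r := fun r => by simp only [← mul_assoc, hab.yxy]
    have haba' : a * (b * a) = a := by rw [← mul_assoc, hab.xyx]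
    have hbab' : b * (a * b) = b := by rw [← mul_assoc, hab.yxy]
    rw [hhdef, Units.val_mul, hw1e, hw2e, hedef, hfdef, pi2, pi2]
    simp only [smul_mul_assoc, mul_smul_comm, smul_smul, inv_neg, inv_one, mul_inv_cancel₀ ht0,
      inv_mul_cancel₀ ht0, mul_add, add_mul, mul_sub, sub_mul, mul_one, one_mul, mul_assoc,
      hab.sqx, hab.sqy, hea, heb, haba, hbab, haba', hbab', mul_zero, neg_mul_neg, mul_neg, neg_mul,
      neg_neg, smul_zero, one_smul]
    module
  have hhn : ∀ n : ℕ, ((h ^ n : GLM) : EndM) = 1 - e - f + t ^ n • e + t⁻¹ ^ n • f := by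
    intro n
    induction n with
    | zero => rw [pow_zero, pow_zero, pow_zero, Units.val_one]; module
    | succ n ih =>
      rw [pow_succ, Units.val_mul, ih, hhe, pow_succ, pow_succ]
      simp only [mul_add, add_mul, mul_sub, sub_mul, mul_one, one_mul, smul_mul_assoc, mul_smul_comm,
        hee, hff, hef, hfe, smul_zero]
      module
  have hhp : h ^ (p - 1) = 1 := by
    refine Units.ext ?_
    rw [hhn, ZMod.pow_card_sub_one_eq_one ht0, ZMod.pow_card_sub_one_eq_one (inv_ne_zero ht0),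
      Units.val_one]
    module
  set L := G ⊓ Subgroup.centralizer Qp
  have hhL : h ∈ L := by
    refine ⟨hhdef ▸ G.mul_mem hw1 hw2, Subgroup.mem_centralizer_iff.2 fun q hq => Units.ext ?_⟩
    rw [Units.val_mul, Units.val_mul, hhe]
    have hqa : Commute (q : EndM) a := cj_eq_self_iff.1 (hfixF q hq a haF)
    have hqb : Commute (q : EndM) b := cj_eq_self_iff.1 (hfixB q hq b hbB)
    exact (((((Commute.one_right _).sub_right (hqa.mul_right hqb)).sub_right
      (hqb.mul_right hqa)).add_right ((hqa.mul_right hqb).smul_right t)).add_right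
        ((hqb.mul_right hqa).smul_right t⁻¹)).eq
  have hhC : h ∉ Subgroup.centralizer (G : Set GLM) := by
    intro hc
    have h1 := congrArg (Units.val : GLM → EndM)
      (Subgroup.mem_centralizer_iff.1 hc _ (ham.fam.mem.onePlus_mem ham.sq))
    rw [Units.val_mul, Units.val_mul, coe_onePlus, add_mul, one_mul, mul_add, mul_one,
      add_right_inj, hhe] at h1
    have e1 : a * e = 0 := by rw [hedef, ← mul_assoc, hab.sqx, zero_mul]
    have e2 : f * a = 0 := by rw [hfdef, mul_assoc, hab.sqx, mul_zero]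
    have e3 : a * f = a := by rw [hfdef, ← mul_assoc, hab.xyx]
    have e4 : e * a = a := by rw [hedef, hab.xyx]
    simp only [mul_add, add_mul, mul_sub, sub_mul, mul_one, one_mul, smul_mul_assoc, mul_smul_comm,
      e1, e2, e3, e4, smul_zero, sub_zero, add_zero, zero_add, sub_self] at h1
    refine ht1 ?_
    have h3 : t⁻¹ = t := smul_left_injective (ZMod p) ham.ne h1
    conv_lhs => arg 1; rw [← h3]
    exact inv_mul_cancel₀ ht0
  obtain ⟨q, kk, hqp, hqk, hnot⟩ := exists_primePow_notMem _ hhC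
  haveI : Fact q.Prime := ⟨hqp⟩
  have hAL : A ≤ Subgroup.normalizer (L : Set GLM) := by
    refine Coprime.le_normalizer_inf_of_le hA fun r hr => ?_
    have hQp : ∀ r ∈ A, ∀ q ∈ Qp, r * q * r⁻¹ ∈ Qp := fun r hr q hq =>
      ⟨quads_conj (hA hr) hq.1, fun T hT hTA =>
        (Subgroup.mem_normalizer_iff.1 (hTA hr) q).1 (hq.2 T hT hTA)⟩
    have key : ∀ r ∈ A, ∀ l ∈ Subgroup.centralizer Qp, r * l * r⁻¹ ∈ Subgroup.centralizer Qp := by
      intro r hr l hl
      rw [Subgroup.mem_centralizer_iff] at hl ⊢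
      intro q hq
      have h1 := hl _ (hQp _ (A.inv_mem hr) q hq)
      rw [inv_inv] at h1
      calc q * (r * l * r⁻¹) = r * (r⁻¹ * q * r * l) * r⁻¹ := by group
        _ = r * (l * (r⁻¹ * q * r)) * r⁻¹ := by rw [h1]
        _ = r * l * r⁻¹ * q := by group
    refine Subgroup.mem_normalizer_iff.2 fun l => ⟨key r hr l, fun hl => ?_⟩
    have h1 := key _ (A.inv_mem hr) _ hl
    rwa [inv_inv, show r⁻¹ * (r * l * r⁻¹) * r = l by group] at h1
  obtain ⟨Z, hZ, hZA⟩ := exists_isSyl (p := q) hAL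
    (hcop.coprime_dvd_right (Subgroup.card_dvd_of_le inf_le_left)) hsol
  have hk1 : kk ≠ 0 := by
    rintro rfl
    rw [pow_zero, Nat.div_one, pow_orderOf_eq_one] at hnot
    exact hnot (one_mem _)
  have hqne : q ≠ p := by
    intro e
    rw [e] at hqk
    have h1 : p ∣ p - 1 :=
      ((dvd_pow_self p hk1).trans hqk).trans (orderOf_dvd_of_pow_eq_one hhp)
    exact absurd (Nat.le_of_dvd (by omega) h1) (by omega)
  have hZnot : ¬ Z ≤ Subgroup.centralizer (G : Set GLM) := by
    intro hle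
    set u := h ^ (orderOf h / q ^ kk)
    have huq : IsPGroup q (Subgroup.zpowers u) := IsPGroup.of_card (n := kk) (by
      rw [Nat.card_zpowers, orderOf_pow_orderOf_div (orderOf_pos h).ne' hqk])
    obtain ⟨l, hl, hlle⟩ := hZ.exists_conj_le (Subgroup.zpowers_le.2 (L.pow_mem hhL _)) huq
    have h1 : l * u * l⁻¹ ∈ Subgroup.centralizer (G : Set GLM) :=
      hle (hlle (Subgroup.smul_mem_pointwise_smul _ (MulAut.conj l) _ (Subgroup.mem_zpowers u)))
    have h2 := Subgroup.mem_centralizer_iff.1 h1 l hl.1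
    refine hnot ?_
    rwa [show u = l * u * l⁻¹ by
      calc u = l⁻¹ * (l * u * l⁻¹ * l) := by group
        _ = l⁻¹ * (l * (l * u * l⁻¹)) := by rw [h2]
        _ = l * u * l⁻¹ := by group]
  -- induction in the centralizer of `Z`
  have hgQ : g ∈ Qp := ⟨⟨hg, hq⟩, hall⟩
  have hgZ : g ∈ Subgroup.centralizer (Z : Set GLM) := Subgroup.mem_centralizer_iff.2 fun z hz =>
    ((Subgroup.mem_centralizer_iff.1 (hZ.le hz).2) g hgQ).symm
  set C := G ⊓ Subgroup.centralizer (Z : Set GLM) with hCdef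
  have hlt : Nat.card C < Nat.card G := by
    refine lt_of_le_of_ne (Subgroup.card_le_of_le inf_le_left) fun e => hZnot ?_
    have h1 := Subgroup.eq_of_le_of_card_ge inf_le_left e.ge
    exact Subgroup.le_centralizer_iff.1 (h1.ge.trans inf_le_right)
  have hAC : A ≤ Subgroup.normalizer (C : Set GLM) :=
    Coprime.le_normalizer_inf_of_le hA (hZA.trans (normalizer_le_normalizer_cent Z))
  have hcopC := hcop.coprime_dvd_right (Subgroup.card_dvd_of_le (inf_le_left : C ≤ G))
  have hallC : InAllSyl p C A g := by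
    intro T hT hTA
    obtain ⟨S', hS', hS'A, hTS'⟩ :=
      exists_isSyl_ge hA hcop hsol (hT.le.trans inf_le_left) hT.isP hTA
    exact hT.max (S' ⊓ C) (le_inf hTS' hT.le) inf_le_right (hS'.isP.to_le inf_le_left)
      ⟨hall S' hS' hS'A, hg, hgZ⟩
  have hmem := ih C hlt hAC hcopC ⟨hg, hgZ⟩ hallC
  have hgx : onePlus x hq = g := (eq_onePlus hq (add_sub_cancel _ _).symm).symm
  refine hx0 (fix_eq_zero hp hG (Z := Z) ?_ ((hZ.le.trans inf_le_left).trans Subgroup.le_normalizer)
    (qd_of_mem (show g ∈ C from ⟨hg, hgZ⟩) hq) ?_)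
  · obtain ⟨n, hn⟩ := hZ.isP.exists_card_eq
    rw [hn]
    exact fun hd => hqne ((Nat.prime_dvd_prime_iff_eq (Fact.out : p.Prime) hqp).1
      ((Fact.out : p.Prime).dvd_of_dvd_pow hd)).symm
  · convert hmem using 2
    exact Subtype.ext hgx

end

variable (hp : 3 < p)
include hp

/-- **Quadratic elements in all invariant Sylow subgroups lie in the `p`-core.** -/
theorem mem_pCore_of_forall_invariant_sylow {M : Type u} [AddCommGroup M] [Module (ZMod p) M]
    [Finite M] {G A : Subgroup (LinearMap.GeneralLinearGroup (ZMod p) M)}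
    (hA : A ≤ Subgroup.normalizer (G : Set (LinearMap.GeneralLinearGroup (ZMod p) M)))
    (hcop : (Nat.card A).Coprime (Nat.card G)) (hsol : Group.IsSolvable A)
    {g : LinearMap.GeneralLinearGroup (ZMod p) M} (hg : g ∈ G)
    (hq : ((g : Module.End (ZMod p) M) - 1) * ((g : Module.End (ZMod p) M) - 1) = 0)
    (hall : InAllSyl p G A g) : (⟨g, hg⟩ : G) ∈ pCore p G := by
  classical
  induction hn : Nat.card G using Nat.strong_induction_on generalizing M with
  | _ n ihn =>
  induction hm : Nat.card M using Nat.strong_induction_on generalizing M with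
  | _ m ihm =>
  subst hn
  by_cases hG : pCore p G = ⊥
  · have h1 := eq_zero_of_pCore_eq_bot hp hA hcop hsol hg hq hall hG
      fun C hlt hAC hcopC hC hallC => ihn _ hlt hAC hcopC hsol hC hq hallC rfl
    subst h1
    exact one_mem _
  set O := (pCore p G).map G.subtype with hOdef
  have hOG : O ≤ G := Subgroup.map_subtype_le _
  have hOp : IsPGroup p O := (PCore.isPGroup_pCore).map _
  have hnorm : Subgroup.normalizer (G : Set (LinearMap.GeneralLinearGroup (ZMod p) M)) ≤
      Subgroup.normalizer (O : Set (LinearMap.GeneralLinearGroup (ZMod p) M)) :=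
    Components.normalizer_le_normalizer_map_of_characteristic G (pCore p G)
  set U : Submodule (ZMod p) M :=
    ⨅ o ∈ O, LinearMap.ker ((o : Module.End (ZMod p) M) - 1) with hUdef
  have hmemU : ∀ v : M, v ∈ U ↔ ∀ o ∈ O, (o : Module.End (ZMod p) M) v = v := fun v => by
    simp only [hUdef, Submodule.mem_iInf, LinearMap.mem_ker, LinearMap.sub_apply,
      Module.End.one_apply, sub_eq_zero]
  set X := Subgroup.normalizer (O : Set (LinearMap.GeneralLinearGroup (ZMod p) M))
  have hinv : ∀ s : X, ∀ v ∈ U, ((s : LinearMap.GeneralLinearGroup (ZMod p) M) :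
      Module.End (ZMod p) M) v ∈ U := by
    intro s v hv
    rw [hmemU] at hv ⊢
    intro o ho
    have h1 := hv _ ((Subgroup.mem_normalizer_iff''.1 s.2 o).1 ho)
    rw [Units.val_mul, Units.val_mul, Module.End.mul_apply, Module.End.mul_apply] at h1
    conv_rhs => rw [← h1]
    exact (DFunLike.congr_fun (Units.mul_inv (s : LinearMap.GeneralLinearGroup (ZMod p) M)) _).symm
  have hne_top : U ≠ ⊤ := by
    intro htop
    refine hG ((Subgroup.eq_bot_iff_forall _).2 fun o ho => Subtype.ext (Units.ext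
      (LinearMap.ext fun v => ?_)))
    exact (hmemU v).1 (htop ▸ Submodule.mem_top) _ ⟨o, ho, rfl⟩
  have hne_bot : U ≠ ⊥ := by
    haveI : Nontrivial M := by
      by_contra hnt
      rw [not_nontrivial_iff_subsingleton] at hnt
      exact hne_top (Subsingleton.elim _ _)
    letI : MulAction O M :=
      { smul := fun o v => ((o : LinearMap.GeneralLinearGroup (ZMod p) M) : Module.End (ZMod p) M) v
        one_smul := fun v => rfl
        mul_smul := fun o o' v => rfl }
    have hdvd : p ∣ Nat.card M := by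
      rw [Module.natCard_eq_pow_finrank (K := ZMod p), Nat.card_zmod]
      exact dvd_pow_self p (Module.finrank_pos (R := ZMod p) (M := M)).ne'
    obtain ⟨v, hv, hv0⟩ := hOp.exists_fixed_point_of_prime_dvd_card_of_fixed_point M hdvd
      (a := (0 : M)) (fun o => map_zero _)
    intro hbot
    have h1 : v ∈ U := (hmemU v).2 fun o ho => hv ⟨o, ho⟩
    rw [hbot, Submodule.mem_bot] at h1
    exact hv0 h1.symm
  have hGX : G ≤ X := Subgroup.le_normalizer.trans hnorm
  have hAX : A ≤ X := hA.trans hnorm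
  set G' := G.subgroupOf X
  set A' := A.subgroupOf X
  have hA' : A' ≤ Subgroup.normalizer (G' : Set X) := fun r hr =>
    Subgroup.mem_normalizer_iff.2 fun y => Subgroup.mem_normalizer_iff.1 (hA hr) y
  have hcA' : Nat.card A' = Nat.card A :=
    Nat.card_congr (Subgroup.subgroupOfEquivOfLe hAX).toEquiv
  have hcG' : Nat.card G' = Nat.card G :=
    Nat.card_congr (Subgroup.subgroupOfEquivOfLe hGX).toEquiv
  have hsol' : Group.IsSolvable A' :=
    solvable_of_solvable_injective (f := (Subgroup.subgroupOfEquivOfLe hAX).toMonoidHom)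
      (Subgroup.subgroupOfEquivOfLe hAX).injective
  -- the induction step for a representation of `X`
  have step : ∀ {V : Type u} [AddCommGroup V] [Module (ZMod p) V] [Finite V],
      Nat.card V < Nat.card M → ∀ φ : X →* LinearMap.GeneralLinearGroup (ZMod p) V,
      ((φ ⟨g, hGX hg⟩ : Module.End (ZMod p) V) - 1) *
        ((φ ⟨g, hGX hg⟩ : Module.End (ZMod p) V) - 1) = 0 →
      ∃ N : Subgroup G, N.Normal ∧ (⟨g, hg⟩ : G) ∈ N ∧
        ∀ y ∈ N, ∃ j : ℕ, φ ⟨(y : LinearMap.GeneralLinearGroup (ZMod p) M), hGX y.2⟩ ^ p ^ j = 1 := by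
    intro V _ _ _ hV φ hqV
    set ψ := φ.comp (Subgroup.inclusion hGX)
    have hran : ψ.range = G'.map φ := by
      ext y
      exact ⟨fun ⟨s, hs⟩ => ⟨Subgroup.inclusion hGX s, s.2, hs⟩,
        fun ⟨s, hs, he⟩ => ⟨⟨s, hs⟩, he⟩⟩
    have hAφ : A'.map φ ≤ Subgroup.normalizer (ψ.range : Set (LinearMap.GeneralLinearGroup (ZMod p) V)) := by
      rw [hran]
      exact (Subgroup.map_mono hA').trans (Subgroup.le_normalizer_map φ)
    have hcopV : (Nat.card (A'.map φ)).Coprime (Nat.card ψ.range) := by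
      rw [hran]
      exact ((hcA' ▸ hcG' ▸ hcop : (Nat.card A').Coprime (Nat.card G')).coprime_dvd_left
        (Subgroup.card_map_dvd A' φ)).coprime_dvd_right (Subgroup.card_map_dvd G' φ)
    have hsolV : Group.IsSolvable (A'.map φ) :=
      solvable_of_surjective (f := φ.subgroupMap A') (φ.subgroupMap_surjective A')
    have hallV : InAllSyl p ψ.range (A'.map φ) (φ ⟨g, hGX hg⟩) := by
      intro T hT hTA
      rw [hran] at hT
      obtain ⟨S, hS, hSA, rfl⟩ := exists_isSyl_map φ hA' (by rwa [hcA', hcG']) hsol' hT hTA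
      refine ⟨_, ?_, rfl⟩
      have h1 : IsSyl p G (S.map X.subtype) := by
        have := hS.map_injective (f := X.subtype) X.subtype_injective
        rwa [Subgroup.map_subgroupOf_eq_of_le hGX] at this
      have h2 : A ≤ Subgroup.normalizer ((S.map X.subtype : Subgroup _) :
          Set (LinearMap.GeneralLinearGroup (ZMod p) M)) := by
        have := (Subgroup.map_mono hSA (f := X.subtype)).trans (Subgroup.le_normalizer_map _)
        rwa [Subgroup.map_subgroupOf_eq_of_le hAX] at this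
      obtain ⟨s, hs, hse⟩ := hall _ h1 h2
      rwa [show (⟨g, hGX hg⟩ : X) = s from Subtype.ext hse.symm]
    have hle : Nat.card ψ.range ≤ Nat.card G := by
      rw [hran, ← hcG']
      exact Nat.le_of_dvd Nat.card_pos (Subgroup.card_map_dvd G' φ)
    have hmem : (⟨φ ⟨g, hGX hg⟩, ⟨⟨g, hg⟩, rfl⟩⟩ : ψ.range) ∈ pCore p ψ.range := by
      rcases hle.lt_or_eq with hlt | heq
      · exact ihn _ hlt hAφ hcopV hsolV _ hqV hallV rfl
      · exact ihm _ (hm ▸ hV) hAφ hcopV hsolV _ hqV hallV heq rfl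
    refine ⟨(pCore p ψ.range).comap ψ.rangeRestrict, inferInstance, hmem, fun y hy => ?_⟩
    obtain ⟨j, hj⟩ := PCore.isPGroup_pCore (⟨ψ.rangeRestrict y, hy⟩ : pCore p ψ.range)
    exact ⟨j, congrArg (fun z : pCore p ψ.range => ((z : ψ.range) :
      LinearMap.GeneralLinearGroup (ZMod p) V)) hj⟩
  let f1 : X →* Module.End (ZMod p) U :=
    { toFun := fun s => LinearMap.restrict _ (hinv s)
      map_one' := LinearMap.ext fun v => Subtype.ext rfl
      map_mul' := fun s s' => LinearMap.ext fun v => Subtype.ext rfl }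
  let f2 : X →* Module.End (ZMod p) (M ⧸ U) :=
    { toFun := fun s => Submodule.mapQ U U _ (hinv s)
      map_one' := Submodule.linearMap_qext _ (LinearMap.ext fun v => rfl)
      map_mul' := fun s s' => Submodule.linearMap_qext _ (LinearMap.ext fun v => rfl) }
  have hcardU : Nat.card U < Nat.card M := by
    refine lt_of_le_of_ne (Nat.card_le_card_of_injective _ Subtype.val_injective) fun e => hne_top ?_
    refine Submodule.eq_top_iff'.2 fun v => ?_
    have h1 := (Nat.bijective_iff_injective_and_card (Subtype.val : U → M)).2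
      ⟨Subtype.val_injective, e⟩
    obtain ⟨u, rfl⟩ := h1.2 v
    exact u.2
  have hcardQ : Nat.card (M ⧸ U) < Nat.card M := by
    have h1 := Submodule.card_eq_card_quotient_mul_card U
    haveI : Nontrivial U := Submodule.nontrivial_iff_ne_bot.2 hne_bot
    have h2 : 1 < Nat.card U := Finite.one_lt_card
    haveI : Finite (M ⧸ U) := Quotient.finite _
    have h3 : 0 < Nat.card (M ⧸ U) := Nat.card_pos
    nlinarith
  obtain ⟨N1, hN1, hg1, hN1p⟩ := step hcardU f1.toHomUnits (by
    refine LinearMap.ext fun v => Subtype.ext ?_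
    have := DFunLike.congr_fun hq (v : M)
    exact this)
  haveI : Finite (M ⧸ U) := Quotient.finite _
  obtain ⟨N2, hN2, hg2, hN2p⟩ := step hcardQ f2.toHomUnits (by
    refine Submodule.linearMap_qext _ (LinearMap.ext fun v => ?_)
    have := congrArg (Submodule.Quotient.mk (p := U)) (DFunLike.congr_fun hq v)
    exact this)
  refine PCore.le_pCore (N := N1 ⊓ N2) (fun y => ?_) ⟨hg1, hg2⟩
  obtain ⟨j1, hj1⟩ := hN1p y y.2.1
  obtain ⟨j2, hj2⟩ := hN2p y y.2.2
  set s : X := ⟨((y : G) : LinearMap.GeneralLinearGroup (ZMod p) M), hGX (y : G).2⟩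
  set s' := s ^ p ^ (j1 + j2) with hs'
  have h1 : f1 s' = 1 := by
    have := congrArg Units.val (show f1.toHomUnits s' = 1 by
      rw [hs', map_pow, pow_add, pow_mul, hj1, one_pow])
    exact this
  have h2 : f2 s' = 1 := by
    have := congrArg Units.val (show f2.toHomUnits s' = 1 by
      rw [hs', map_pow, pow_add, mul_comm (p ^ j1), pow_mul, hj2, one_pow])
    exact this
  set d := ((s' : LinearMap.GeneralLinearGroup (ZMod p) M) : Module.End (ZMod p) M) - 1 with hd
  have hdU : ∀ v, d v ∈ U := fun v => by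
    have := DFunLike.congr_fun h2 (Submodule.Quotient.mk v)
    exact (Submodule.Quotient.eq U).1 this
  have hd0 : ∀ v ∈ U, d v = 0 := fun v hv =>
    sub_eq_zero.2 ((congrArg Subtype.val (DFunLike.congr_fun h1 (⟨v, hv⟩ : U)) :))
  have hd3 : d ^ 3 = 0 := by
    refine LinearMap.ext fun v => ?_
    rw [pow_three, Module.End.mul_apply, Module.End.mul_apply, hd0 _ (hdU v), map_zero]
    rfl
  refine ⟨j1 + j2 + 1, Subtype.ext (Subtype.ext ?_)⟩
  have h3 := pow_p_eq_one hp hd3
  rw [hs', ← Subgroup.coe_pow, ← pow_mul, ← pow_succ] at h3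
  exact h3

end Cfsg.Agent.FlavellQ
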