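import Cfsg.Agent.Lib.FlavellQ.Good
import Cfsg.Agent.Lib.Components.GenFitting
import Cfsg.Agent.Lib.PCore.Basic
import Cfsg.Agent.Lib.PMinPush.Shapes

/-!
# Good subgroups and `O^p(F*)`

An operator group centralises `O^p(F*(H))` if and only if it centralises every element of order
prime to `p` of `F*(H)`; this implies `Good` and is implied by it.
-/

set_option autoImplicit false
set_option linter.unusedSectionVars false

universe u

namespace Cfsg.Agent.FlavellQ

open Cfsg
open Subgroup

variable {X : Type u} [Group X] [Finite X] {p : ℕ} [Fact p.Prime] {R H : Subgroup X}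

/-- `F*(H)` as a subgroup of the ambient group. -/
abbrev genFit (H : Subgroup X) : Subgroup X := (generalizedFittingSubgroup ↥H).map H.subtype

/-- What centralises `O_p` and the elements of order prime to `p` of `F*` centralises `F*`. -/
theorem mem_centralizer_generalizedFitting {G : Type u} [Group G] [Finite G] {z : G}
    (h1 : z ∈ centralizer (pCore p G : Set G))
    (h2 : ∀ v ∈ generalizedFittingSubgroup G, (orderOf v).Coprime p → Commute z v) :
    z ∈ centralizer (generalizedFittingSubgroup G : Set G) := by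
  suffices hle : generalizedFittingSubgroup G ≤ centralizer ({z} : Set G) from
    mem_centralizer_iff.2 fun v hv => mem_centralizer_singleton_iff.1 (hle hv)
  have hmem : ∀ v : G, Commute z v → v ∈ centralizer ({z} : Set G) := fun v hv =>
    mem_centralizer_singleton_iff.2 hv.eq.symm
  refine sup_le ?_ ?_
  · intro v hv
    have hgen : Cfsg.pResidual p ↥(layer G) = ⊤ :=
      PMinPush.pResidual_eq_top_of_perfect (Group.IsPerfect.commutator_eq_top (G := ↥(layer G)))
    have h3 : Cfsg.pResidual p ↥(layer G) ≤ (centralizer ({z} : Set G)).subgroupOf (layer G) :=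
      (closure_le _).2 fun w hw => hmem _ (h2 _ (Components.layer_le_generalizedFittingSubgroup w.2)
        (by rw [Subgroup.coe_subtype, Subgroup.orderOf_coe]; exact hw))
    exact h3 (hgen.ge (mem_top (⟨v, hv⟩ : ↥(layer G))))
  · rw [Components.fittingSubgroup_eq_iSup_pCore]
    refine iSup_le fun q v hv => hmem v ?_
    have hq := Nat.prime_of_mem_primeFactors q.2
    have := Fact.mk hq
    by_cases hqp : (q : ℕ) = p
    · exact (mem_centralizer_iff.1 h1 v (hqp ▸ hv)).symm
    · refine h2 v (Components.fittingSubgroup_le_generalizedFittingSubgroup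
        (Components.pCore_le_fittingSubgroup hq hv)) ?_
      obtain ⟨j, hj⟩ := PCore.isPGroup_pCore (⟨v, hv⟩ : pCore (q : ℕ) G)
      exact Nat.Coprime.coprime_dvd_left (orderOf_dvd_of_pow_eq_one (congrArg Subtype.val hj))
        (((Nat.coprime_primes hq (Fact.out : p.Prime)).2 hqp).pow_left j)

theorem mem_centralizer_genFit {z : X} (hz : z ∈ H)
    (h1 : z ∈ centralizer (Balance.core p H : Set X))
    (h2 : ∀ v ∈ genFit H, (orderOf v).Coprime p → Commute z v) :
    z ∈ genFit H ∧ z ∈ centralizer (genFit H : Set X) := by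
  have hc : (⟨z, hz⟩ : ↥H) ∈ centralizer (generalizedFittingSubgroup ↥H : Set ↥H) := by
    refine mem_centralizer_generalizedFitting (p := p) (mem_centralizer_iff.2 fun t ht => ?_)
      fun v hv hvp => ?_
    · exact Subtype.ext (mem_centralizer_iff.1 h1 t ⟨t, ht, rfl⟩)
    · exact Subtype.ext (h2 v ⟨v, hv, rfl⟩ (by rwa [Subgroup.orderOf_coe])).eq
  refine ⟨⟨_, Components.centralizer_generalizedFittingSubgroup_le hc, rfl⟩,
    mem_centralizer_iff.2 ?_⟩
  rintro _ ⟨v, hv, rfl⟩
  exact congrArg Subtype.val (mem_centralizer_iff.1 hc v hv)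

/-- If `R` centralises the elements of order prime to `p` of `F*(H)`, then `H` is good. -/
theorem good_of_fixes_genFit (h : Acts R H)
    (hfix : ∀ v ∈ genFit H, (orderOf v).Coprime p → ∀ b ∈ R, Commute b v) : Good p R H := by
  refine good_of_pprime h fun y hy hyc _ b₀ hb₀ => ?_
  set F := genFit H with hF
  set A0 := F ⊓ centralizer (F : Set X) with hA0
  have hFn : H ≤ normalizer (F : Set X) :=
    le_normalizer.trans (Components.normalizer_le_normalizer_map_of_characteristic H _)
  have hFR : R ≤ normalizer (F : Set X) :=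
    h.le.trans (Components.normalizer_le_normalizer_map_of_characteristic H _)
  have hFH : F ≤ H := map_subtype_le _
  have hcomm : ∀ u ∈ A0, ∀ v ∈ A0, Commute u v := fun u hu v hv =>
    mem_centralizer_iff.1 hv.2 u hu.1
  have hmem : ∀ b ∈ R, b * y * b⁻¹ * y⁻¹ ∈ A0 := by
    intro b hb
    refine mem_centralizer_genFit (p := p) (conj_mul_inv_mem (h.le hb) hy)
      (mul_mem (mem_centralizer_iff.2 fun t ht => ?_) (inv_mem hyc)) fun v hv hvp => ?_
    · have ht' : b⁻¹ * t * b ∈ Balance.core p H :=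
        (mem_normalizer_iff''.1 (le_normalizer_core_of_le h.le hb) t).1 ht
      have h1 := mem_centralizer_iff.1 hyc _ ht'
      calc t * (b * y * b⁻¹) = b * (b⁻¹ * t * b * y) * b⁻¹ := by group
        _ = b * (y * (b⁻¹ * t * b)) * b⁻¹ := by rw [h1]
        _ = b * y * b⁻¹ * t := by group
    · have hw : y⁻¹ * v * y ∈ F := (mem_normalizer_iff''.1 (hFn hy) v).1 hv
      have hwp : (orderOf (y⁻¹ * v * y)).Coprime p := by
        rw [show y⁻¹ * v * y = MulAut.conj y⁻¹ v by simp, MulEquiv.orderOf_eq]; exact hvp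
      have e1 : b * (y⁻¹ * v * y) = (y⁻¹ * v * y) * b := (hfix _ hw hwp b hb).eq
      have e2 : b * v = v * b := (hfix v hv hvp b hb).eq
      show b * y * b⁻¹ * y⁻¹ * v = v * (b * y * b⁻¹ * y⁻¹)
      calc b * y * b⁻¹ * y⁻¹ * v = b * y * (b⁻¹ * ((y⁻¹ * v * y) * b)) * b⁻¹ * y⁻¹ := by group
        _ = b * y * (b⁻¹ * (b * (y⁻¹ * v * y))) * b⁻¹ * y⁻¹ := by rw [e1]
        _ = b * v * (y * b⁻¹ * y⁻¹) := by group
        _ = v * b * (y * b⁻¹ * y⁻¹) := by rw [e2]
        _ = v * (b * y * b⁻¹ * y⁻¹) := by group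
  -- raising to the `p`-part of `|X|` gives fixed elements
  set k := (Nat.card X).factorization p with hk
  have hpow : ∀ v : X, (orderOf (v ^ p ^ k)).Coprime p := by
    intro v
    have hd : orderOf (v ^ p ^ k) ∣ Nat.card X / p ^ k := orderOf_dvd_of_pow_eq_one (by
      rw [← pow_mul, Nat.mul_div_cancel' (Nat.ordProj_dvd _ _), pow_card_eq_one'])
    exact ((Nat.coprime_ordCompl (Fact.out : p.Prime) Nat.card_pos.ne').symm).coprime_dvd_left hd
  set z := b₀ * y * b₀⁻¹ * y⁻¹ with hz
  set w := z ^ p ^ k with hw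
  have hzA : z ∈ A0 := hmem b₀ hb₀
  have hiter : ∀ j : ℕ, (b₀ ^ j * y * (b₀ ^ j)⁻¹ * y⁻¹) ^ p ^ k = w ^ j := by
    intro j
    induction j with
    | zero => simp
    | succ j ih =>
      set v := b₀ ^ j * y * (b₀ ^ j)⁻¹ * y⁻¹ with hv
      have hvA : v ∈ A0 := hmem _ (pow_mem hb₀ j)
      have hsucc : b₀ ^ (j + 1) * y * (b₀ ^ (j + 1))⁻¹ * y⁻¹ = b₀ * v * b₀⁻¹ * z := by
        rw [hv, hz, pow_succ']; group
      have hcv : b₀ * v * b₀⁻¹ ∈ A0 :=
        (mem_normalizer_iff.1 (le_normalizer_inf_centralizer hFR hFR hb₀) v).1 hvA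
      have hfv : Commute b₀ (v ^ p ^ k) := hfix _ (pow_mem hvA.1 _) (hpow v) b₀ hb₀
      rw [hsucc, (hcomm _ hcv _ hzA).mul_pow, conj_pow, ← hw, hfv.eq, mul_inv_cancel_right, ih,
        pow_succ]
  have hw1 : w = 1 := by
    have h1 := hiter (orderOf b₀)
    rw [pow_orderOf_eq_one, one_mul, inv_one, mul_one, mul_inv_cancel, one_pow] at h1
    exact orderOf_eq_one_iff.1 (Nat.eq_one_of_dvd_coprimes h.cop
      ((orderOf_dvd_of_pow_eq_one h1.symm).trans (Subgroup.orderOf_dvd_natCard _ hb₀))
      (Subgroup.orderOf_dvd_natCard _ (hFH (pow_mem hzA.1 _))))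
  -- a normal `p`-subgroup of `H`
  let W : Subgroup X :=
    { carrier := {v | v ∈ A0 ∧ v ^ p ^ k = 1}
      one_mem' := ⟨A0.one_mem, one_pow _⟩
      mul_mem' := fun {u v} hu hv => ⟨A0.mul_mem hu.1 hv.1, by
        rw [(hcomm _ hu.1 _ hv.1).mul_pow, hu.2, hv.2, one_mul]⟩
      inv_mem' := fun {u} hu => ⟨A0.inv_mem hu.1, by rw [inv_pow, hu.2, inv_one]⟩ }
  refine Balance.le_core (R := W) (fun v hv => hFH hv.1.1) (le_normalizer_iff.2 fun s hs v hv => ?_)
    (fun v => ⟨k, Subtype.ext v.2.2⟩) (⟨hzA, hw1⟩ : z ∈ W)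
  exact ⟨(mem_normalizer_iff.1 (le_normalizer_inf_centralizer hFn hFn hs) v).1 hv.1, by
    rw [conj_pow, hv.2, mul_one, mul_inv_cancel]⟩

/-- In a good subgroup `R` fixes the elements of order prime to `p` of `F*`. -/
theorem Good.fixes_genFit (h : Good p R H) {x : X} (hx : x ∈ genFit H)
    (hxp : (orderOf x).Coprime p) : ∀ b ∈ R, Commute b x := by
  obtain ⟨x', hx', rfl⟩ := hx
  rw [Subgroup.coe_subtype, Subgroup.orderOf_coe] at hxp
  -- `x'` centralises `O_p`
  set T := pCore p ↥H with hT
  set C := centralizer (T : Set ↥H) with hC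
  have : T.Normal := inferInstance
  have : C.Normal := normal_centralizer
  set f := QuotientGroup.mk' C with hf
  have hle : (generalizedFittingSubgroup ↥H).map f ≤ T.map f := by
    rw [map_le_iff_le_comap]
    have hCle : C ≤ (T.map f).comap f := fun v hv => by
      rw [mem_comap, show f v = 1 from (QuotientGroup.eq_one_iff v).2 hv]
      exact one_mem _
    refine sup_le (le_trans ?_ hCle) ?_
    · exact (Subgroup.commutator_eq_bot_iff_le_centralizer.1 (Components.commutator_layer_fittingSubgroup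
        (G := ↥H))).trans (centralizer_le (Components.pCore_le_fittingSubgroup (Fact.out : p.Prime)))
    · rw [Components.fittingSubgroup_eq_iSup_pCore]
      refine iSup_le fun q => ?_
      by_cases hqp : (q : ℕ) = p
      · rw [hqp]; exact le_comap_map f T
      · refine le_trans (fun v hv => mem_centralizer_iff.2 fun t ht => ?_) hCle
        have := Fact.mk (Nat.prime_of_mem_primeFactors q.2)
        exact (commute_of_normal_of_disjoint _ _ inferInstance inferInstance
          (IsPGroup.disjoint_of_ne _ _ (Ne.symm hqp) _ _ PCore.isPGroup_pCore PCore.isPGroup_pCore)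
          t v ht hv).eq
  have hxC : x' ∈ C := by
    rw [← QuotientGroup.eq_one_iff]
    refine Balance.eq_one_of_mem_pGroup_of_coprime (PCore.isPGroup_pCore.map f)
      (hle (mem_map_of_mem f hx')) (hxp.coprime_dvd_left (orderOf_map_dvd f x'))
  intro b hb
  set x : X := (x' : X) with hxdef
  have hxc : x ∈ centralizer (Balance.core p H : Set X) := by
    refine mem_centralizer_iff.2 ?_
    rintro _ ⟨t, ht, rfl⟩
    exact congrArg Subtype.val (mem_centralizer_iff.1 hxC t ht)
  set z := b * x * b⁻¹ * x⁻¹ with hz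
  have hzT : z ∈ Balance.core p H := h x x'.2 hxc b hb
  have hzx : Commute z x := mem_centralizer_iff.1 hxc z hzT
  have hz1 : z = 1 := by
    refine Balance.eq_one_of_mem_pGroup_of_coprime (Balance.isPGroup_core H) hzT
      (hxp.coprime_dvd_left ?_)
    refine orderOf_dvd_of_pow_eq_one ?_
    have h1 : (z * x) ^ orderOf x' = 1 := by
      rw [hz, inv_mul_cancel_right, conj_pow, ← Subgroup.orderOf_coe, pow_orderOf_eq_one, mul_one,
        mul_inv_cancel]
    rw [hzx.mul_pow, ← Subgroup.orderOf_coe x', pow_orderOf_eq_one, mul_one] at h1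
    rwa [← Subgroup.orderOf_coe x']
  rw [hz, mul_inv_eq_one, mul_inv_eq_iff_eq_mul] at hz1
  exact hz1

end Cfsg.Agent.FlavellQ
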