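import Cfsg.Agent.Lib.FlavellQ.KInfGood
import Cfsg.Agent.Lib.Coprime.Generation
import Cfsg.Agent.Lib.Coprime.Quotient

/-!
# Local to global for good subgroups

`good_of_locGood`: for `p > 3`, if the centralisers in `G` of the nontrivial elements of a noncyclic
abelian operator group `R` of coprime order are good, then so is `G`.

The proof is by induction on `|G|`. One may assume `O_p(G) = 1`. With `P` the intersection of the
invariant Sylow subgroups, `N = N_G(K∞(P))` then contains every good invariant subgroup which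
contains `C_G(R)` and `Z(P)`; a downward induction on sets of operators shows `G ≤ N`.
-/

set_option autoImplicit false
set_option linter.unusedSectionVars false

universe u

namespace Cfsg.Agent.FlavellQ

open Cfsg
open Subgroup
open scoped Pointwise IsMulCommutative

variable {X : Type u} [Group X] [Finite X] {p : ℕ} [Fact p.Prime] {R G : Subgroup X}

theorem mem_centralizer_singleton_of_centralizer {a : X} (ha : a ∈ R) :
    centralizer (R : Set X) ≤ centralizer ({a} : Set X) :=
  centralizer_le (Set.singleton_subset_iff.2 ha)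

theorem LocGood.of_normal (h : LocGood p R G) [IsMulCommutative R] {M : Subgroup X}
    (hM : Acts R M) (hMG : M ≤ G) (hGM : G ≤ normalizer (M : Set X)) : LocGood p R M :=
  fun a ha ha1 => (h a ha ha1).of_normal
    (hM.of_le inf_le_left (Coprime.le_normalizer_inf_centralizer_singleton hM.le ha))
    (inf_le_inf_right _ hMG)
    (Coprime.le_normalizer_inf_of_le (inf_le_left.trans hGM) (inf_le_right.trans le_normalizer))

theorem LocGood.subgroupOf (h : LocGood p R G) {Γ : Subgroup X} (hG : G ≤ Γ) :
    LocGood p (R.subgroupOf Γ) (G.subgroupOf Γ) := by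
  intro a ha ha1
  have e : G.subgroupOf Γ ⊓ centralizer ({a} : Set Γ) =
      (G ⊓ centralizer ({(a : X)} : Set X)).subgroupOf Γ := by
    ext x
    simp only [mem_inf, mem_subgroupOf, mem_centralizer_singleton_iff, Subtype.ext_iff,
      Subgroup.coe_mul]
  rw [e]
  exact (h a ha fun h1 => ha1 (Subtype.ext h1)).subgroupOf (inf_le_left.trans hG)

theorem Good.of_subgroupOf {Γ : Subgroup X} (hR : R ≤ Γ) (hG : G ≤ Γ)
    (h : Good p (R.subgroupOf Γ) (G.subgroupOf Γ)) : Good p R G := by
  have e := Balance.core_map_subtype (p := p) (G.subgroupOf Γ)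
  rw [map_subgroupOf_eq_of_le hG] at e
  intro x hx hxc a ha
  have h1 := h ⟨x, hG hx⟩ hx (mem_centralizer_iff.2 fun t ht => Subtype.ext
    (mem_centralizer_iff.1 hxc t (e.ge (mem_map_of_mem _ ht)))) ⟨a, hR ha⟩ ha
  exact e.ge (mem_map_of_mem Γ.subtype h1)

/-- The reduction modulo a central `p`-core, when it is normal in the ambient group. -/
theorem good_of_central_core (h : Acts R G) [IsMulCommutative R] (hnc : ¬ IsCyclic R)
    (hloc : LocGood p R G) {T : Subgroup X} [T.Normal] (hT : T = Balance.core p G) (hT1 : T ≠ ⊥)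
    (hTc : G ≤ centralizer (T : Set X))
    (IH : ∀ {Y : Type u} [Group Y] [Finite Y] (G' R' : Subgroup Y), Nat.card G' < Nat.card G →
      Acts R' G' → IsMulCommutative R' → ¬ IsCyclic R' →
      LocGood p R' G' → Good p R' G') : Good p R G := by
  have hTp : IsPGroup p T := hT ▸ Balance.isPGroup_core G
  have hTG : T ≤ G := hT ▸ Balance.core_le G
  set f := QuotientGroup.mk' T with hf
  have hmem : ∀ x : X, f x = 1 ↔ x ∈ T := fun x => QuotientGroup.eq_one_iff x
  have hnorm : R.map f ≤ normalizer ((G.map f : Subgroup (X ⧸ T)) : Set (X ⧸ T)) :=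
    (map_mono h.le).trans (le_normalizer_map f)
  have hG' : Acts (R.map f) (G.map f) := ⟨hnorm,
    (h.cop.coprime_dvd_left (card_map_dvd R f)).coprime_dvd_right (card_map_dvd G f),
    Coprime.isSolvable_map f R h.solv⟩
  have hlt : Nat.card (G.map f) < Nat.card G := by
    refine lt_of_le_of_ne (Nat.le_of_dvd Nat.card_pos (card_map_dvd G f)) fun heq => hT1 ?_
    have hbij := (Nat.bijective_iff_surjective_and_card _).2
      ⟨f.subgroupMap_surjective G, heq.symm⟩
    refine (eq_bot_iff_forall _).2 fun t ht => ?_
    exact congrArg Subtype.val (hbij.1 (a₁ := ⟨t, hTG ht⟩) (a₂ := 1) (Subtype.ext (by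
      show f t = f 1
      rw [map_one]
      exact (hmem t).2 ht)))
  have hRinj : Function.Injective (f.subgroupMap R) := fun a b hab => by
    have h1 : f ((a : X)⁻¹ * b) = 1 := by
      rw [map_mul, map_inv, show f a = f b from congrArg Subtype.val hab, inv_mul_cancel]
    have h2 : (a : X)⁻¹ * b ∈ R ⊓ G := ⟨R.mul_mem (R.inv_mem a.2) b.2, hTG ((hmem _).1 h1)⟩
    rw [Coprime.disjoint_of_coprime_card h.cop, mem_bot, inv_mul_eq_one] at h2
    exact Subtype.ext h2
  have hnc' : ¬ IsCyclic (R.map f) := fun hc => hnc
    ((MulEquiv.ofBijective _ ⟨hRinj, f.subgroupMap_surjective R⟩).isCyclic.2 hc)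
  have hcomm : IsMulCommutative (R.map f) := ⟨⟨fun a b => by
    obtain ⟨_, a, ha, rfl⟩ := a
    obtain ⟨_, b, hb, rfl⟩ := b
    refine Subtype.ext ?_
    show f a * f b = f b * f a
    rw [← map_mul, ← map_mul,
      show a * b = b * a from congrArg Subtype.val (mul_comm' (⟨a, ha⟩ : R) ⟨b, hb⟩)]⟩⟩
  have hloc' : LocGood p (R.map f) (G.map f) := by
    rintro _ ⟨a, ha, rfl⟩ ha1
    have ha1' : a ≠ 1 := fun h1 => ha1 (by rw [h1, map_one])
    set Ga := G ⊓ centralizer ({a} : Set X) with hGa
    have hGaR : R ≤ normalizer (Ga : Set X) := Coprime.le_normalizer_inf_centralizer_singleton h.le ha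
    have he : G.map f ⊓ centralizer ({f a} : Set (X ⧸ T)) = Ga.map f := by
      have haR : zpowers a ≤ R := zpowers_le.2 ha
      have h1 := Coprime.map_inf_centralizer f (A := zpowers a) (K := G) (haR.trans h.le)
        (h.cop.coprime_dvd_left (card_dvd_of_le haR)) (.inl (Coprime.isSolvable_of_le haR h.solv))
      rw [MonoidHom.map_zpowers, zpowers_eq_closure, zpowers_eq_closure, centralizer_closure,
        centralizer_closure] at h1
      exact h1.symm
    rw [he]
    have hA : Acts (R.map f) (Ga.map f) :=
      hG'.of_le (map_mono inf_le_left) ((map_mono hGaR).trans (le_normalizer_map f))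
    have hTa : (Balance.core p Ga).map f ≤ Balance.core p (Ga.map f) :=
      Balance.le_core (map_mono (Balance.core_le _))
        ((map_mono (Balance.le_normalizer_core Ga)).trans (le_normalizer_map f))
        ((Balance.isPGroup_core Ga).map f)
    refine good_of_pprime hA ?_
    rintro _ ⟨y₀, hy₀, rfl⟩ hyc hyp _ ⟨b, hb, rfl⟩
    obtain ⟨y₁, y, hye, hy₁, hy, m, hm⟩ := ConjFun.exists_decomp (p := p) y₀
    have hy1 : f y₁ = 1 := by
      obtain ⟨k, hk⟩ := hy₁ ⟨y₁, mem_zpowers y₁⟩
      refine orderOf_eq_one_iff.1 (Nat.eq_one_of_dvd_coprimes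
        (hyp.pow_right k) ?_ (orderOf_dvd_of_pow_eq_one ?_))
      · rw [hm, map_pow]; exact orderOf_pow_dvd m
      · rw [← map_pow, show y₁ ^ p ^ k = 1 from congrArg Subtype.val hk, map_one]
    have hfy : f y₀ = f y := by rw [hye, map_mul, hy1, one_mul]
    have hyGa : y ∈ Ga := by
      rw [show y = y₁⁻¹ * y₀ by rw [hye, inv_mul_cancel_left], hm]
      exact mul_mem (inv_mem (pow_mem hy₀ m)) hy₀
    have hyt : y ∈ centralizer (Balance.core p Ga : Set X) := by
      refine mem_centralizer_iff.2 fun t ht => ?_
      have h1 : f t * f y = f y * f t := by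
        rw [← hfy]; exact mem_centralizer_iff.1 hyc _ (hTa (mem_map_of_mem f ht))
      have hz : y * t * y⁻¹ * t⁻¹ ∈ T := by
        rw [← hmem, map_mul, map_mul, map_mul, map_inv, map_inv, ← h1]
        group
      exact (Balance.commute_of_translate' hTp hz hy (by group)
        (mem_centralizer_iff.1 (hTc hyGa.1) _ hz).symm).eq.symm
    have h2 := hTa (mem_map_of_mem f (hloc a ha ha1' y hyGa hyt b hb))
    rw [hfy]
    simpa using h2
  have hgood := IH (G.map f) (R.map f) hlt hG' hcomm hnc' hloc'
  have hbot : Balance.core p (G.map f) = ⊥ := by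
    set W := G ⊓ (Balance.core p (G.map f)).comap f
    have hW : W ≤ Balance.core p G := by
      refine Balance.le_core inf_le_left (Coprime.le_normalizer_inf_of_le le_normalizer fun x hx => ?_)
        (((Balance.isPGroup_core (G.map f)).comap_of_ker_isPGroup f ?_).to_le inf_le_right)
      · refine mem_normalizer_iff.2 fun z => ?_
        rw [mem_comap, mem_comap, map_mul, map_mul, map_inv]
        exact mem_normalizer_iff.1 (Balance.le_normalizer_core _ (mem_map_of_mem f hx)) _
      · rw [hf, QuotientGroup.ker_mk']; exact hTp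
    refine (eq_bot_iff_forall _).2 fun y hy => ?_
    obtain ⟨x, hx, rfl⟩ := Balance.core_le _ hy
    exact (hmem x).2 (hT ▸ hW ⟨hx, hy⟩)
  intro x hx _ b hb
  have hxc : f x ∈ centralizer (Balance.core p (G.map f) : Set (X ⧸ T)) := by
    rw [hbot]
    refine mem_centralizer_iff.2 fun t ht => ?_
    rw [mem_bot.1 ht, one_mul, mul_one]
  have h1 := hgood _ (mem_map_of_mem f hx) hxc _ (mem_map_of_mem f hb)
  rw [hbot, mem_bot, ← map_inv, ← map_inv, ← map_mul, ← map_mul, ← map_mul, hmem, hT] at h1
  exact h1

/-- The case of trivial `p`-core. -/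
theorem good_of_core_eq_bot (hp : 3 < p) (hG : Acts R G)
    [IsMulCommutative R] (hnc : ¬ IsCyclic R) (hloc : LocGood p R G)
    (hG1 : Balance.core p G = ⊥)
    (IH : ∀ M : Subgroup X, Nat.card M < Nat.card G → Acts R M → LocGood p R M → Good p R M) :
    Good p R G := by
  set P := invCore p R G with hPdef
  set C := G ⊓ centralizer (R : Set X) with hC
  set T : X → Subgroup X := fun a => Balance.core p (G ⊓ centralizer ({a} : Set X)) with hTdef
  have hPp : IsPGroup p P := isPGroup_invCore hG
  have hPG : P ≤ G := invCore_le hG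
  have hPR : R ≤ normalizer (P : Set X) := le_normalizer_invCore
  have hPC : C ≤ normalizer (P : Set X) := centralizer_le_normalizer_invCore
  have hTR : ∀ a ∈ R, R ≤ normalizer (T a : Set X) := fun a ha =>
    le_normalizer_core_of_le (Coprime.le_normalizer_inf_centralizer_singleton hG.le ha)
  have hTC : ∀ a ∈ R, C ≤ normalizer (T a : Set X) := fun a ha =>
    (inf_le_inf_left G (mem_centralizer_singleton_of_centralizer ha)).trans
      (Balance.le_normalizer_core _)
  have hTP : ∀ a ∈ R, T a ≤ P := fun a ha =>
    le_invCore hG ((Balance.core_le _).trans inf_le_left) (Balance.isPGroup_core _) (hTR a ha)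
      (hTC a ha)
  by_cases hP1 : P = ⊥
  · intro x hx _ b hb
    have hS : G ⊓ centralizer (R : Set X) = G :=
      Coprime.eq_of_forall_centralizer_le hnc hG.le hG.cop inf_le_left fun a ha ha1 => by
        have hT1 : T a = ⊥ := le_bot_iff.1 (hP1 ▸ hTP a ha)
        refine le_inf inf_le_left fun y hy => mem_centralizer_iff.2 fun b hb => ?_
        have h1 := hloc a ha ha1 y hy (centralizer_le (show (T a : Set X) ⊆ ({1} : Set X) by
          rw [hT1]; simp) (by simp [mem_centralizer_iff])) b hb
        rw [show Balance.core p (G ⊓ centralizer ({a} : Set X)) = ⊥ from hT1, mem_bot,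
          mul_inv_eq_one, mul_inv_eq_iff_eq_mul] at h1
        exact h1
    rw [hG1, mem_bot, mul_inv_eq_one, mul_inv_eq_iff_eq_mul]
    exact mem_centralizer_iff.1 (hS.ge hx).2 b hb
  exfalso
  set Zs := P ⊓ centralizer (P : Set X) with hZs
  have hZsP : Zs ≤ P := inf_le_left
  have hZs1 : Zs ≠ ⊥ := by
    intro h
    have : Nontrivial P := (nontrivial_iff_ne_bot P).2 hP1
    have := hPp.center_nontrivial
    obtain ⟨z, hz⟩ := exists_ne (1 : Subgroup.center P)
    refine hz (Subtype.ext (Subtype.ext ((eq_bot_iff_forall _).1 h _ ⟨(z : P).2,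
      mem_centralizer_iff.2 fun y hy => congrArg Subtype.val (mem_center_iff.1 z.2 ⟨y, hy⟩)⟩)))
  have hconj : Cfsg.IsConjugacyFunctor p (Cfsg.inducedFunctor (G := X) Cfsg.kInfLower) :=
    ConjFun.isConjugacyFunctor_inducedFunctor KInf.isCharPFunctor_kInfLower
  set Kk := Cfsg.inducedFunctor Cfsg.kInfLower P with hKk
  have hKN : normalizer (P : Set X) ≤ normalizer (Kk : Set X) :=
    ConjFun.normalizer_le_normalizer_functor hconj hPp
  have hKP : Kk ≤ P := ConjFun.inducedFunctor_le _ _
  have hZK : Zs ≤ Kk := ConjFun.center_le_inducedFunctor_kInfLower hPp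
  set Nn := G ⊓ normalizer (Kk : Set X) with hNn
  have hproper : ∀ A : Subgroup X, A ≤ P → Zs ≤ A → ¬ G ≤ normalizer (A : Set X) :=
    fun A hA hZA hle => hZs1 (le_bot_iff.1 (hG1 ▸ hZA.trans
      (Balance.le_core (hA.trans hPG) hle (hPp.to_le hA))))
  have hcard : ∀ A : Subgroup X, A ≤ P → Zs ≤ A →
      Nat.card (G ⊓ normalizer (A : Set X) : Subgroup X) < Nat.card G := by
    intro A hA hZA
    refine lt_of_le_of_ne (card_le_of_le inf_le_left) fun he => hproper A hA hZA ?_
    exact inf_eq_left.1 (eq_of_le_of_card_ge inf_le_left he.ge)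
  have hPNn : P ≤ Nn := le_inf hPG (le_normalizer.trans hKN)
  have hCNn : C ≤ Nn := le_inf inf_le_left (hPC.trans hKN)
  have hNnA : Acts R Nn :=
    hG.of_le inf_le_left (Coprime.le_normalizer_inf_normalizer hG.le (hPR.trans hKN))
  have hNnG : Good p R Nn := IH Nn (hcard Kk hKP hZK) hNnA
    (hloc.of_le inf_le_left fun a ha _ => (hTP a ha).trans hPNn)
  have hNZ : normalizer (P : Set X) ≤ normalizer (Zs : Set X) :=
    le_normalizer_inf_centralizer le_rfl le_rfl
  -- the normaliser of `Z(P)`
  set Nz := G ⊓ normalizer (Zs : Set X) with hNz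
  have hNzA : Acts R Nz :=
    hG.of_le inf_le_left (Coprime.le_normalizer_inf_normalizer hG.le (hPR.trans hNZ))
  have hPNz : P ≤ Nz := le_inf hPG (le_normalizer.trans hNZ)
  have hCNz : C ≤ Nz := le_inf inf_le_left (hPC.trans hNZ)
  have hNzG : Good p R Nz := IH Nz (hcard Zs hZsP le_rfl) hNzA
    (hloc.of_le inf_le_left fun a ha _ => (hTP a ha).trans hPNz)
  have hNzNn : Nz ≤ Nn := le_inf inf_le_left (le_normalizer_kInfLower hp hNzA hNzG
    (le_invCore hG ((Balance.core_le _).trans inf_le_left) (Balance.isPGroup_core _)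
      (le_normalizer_core_of_le hNzA.le) (hCNz.trans (Balance.le_normalizer_core _)))
    hPNz fun S hS hSR => le_syl_of_normalized hNzA hPNz hPp hPR
      ((inf_le_inf_right _ inf_le_left).trans hPC) hS hSR)
  -- normalisers of subgroups of `P` over `Z(P)`
  have hgoodN : ∀ A : Subgroup X, A ≤ P → Zs ≤ A → R ≤ normalizer (A : Set X) →
      Good p R (G ⊓ normalizer (A : Set X)) := by
    intro A hA hZA hAR x hx hxc b hb
    set M := G ⊓ normalizer (A : Set X) with hM
    have hMR : R ≤ normalizer (M : Set X) := Coprime.le_normalizer_inf_normalizer hG.le hAR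
    have hAM : A ≤ Balance.core p M :=
      Balance.le_core (le_inf (hA.trans hPG) le_normalizer) inf_le_right (hPp.to_le hA)
    set C1 := M ⊓ centralizer (Balance.core p M : Set X) with hC1
    set L := Nn ⊓ normalizer (A : Set X) with hL
    have hC1L : C1 ≤ L := le_inf
      ((le_inf (inf_le_left.trans inf_le_left) (inf_le_right.trans
        ((centralizer_le (hZA.trans hAM)).trans (centralizer_le_normalizer _)))).trans hNzNn)
      (inf_le_left.trans inf_le_right)
    have hLM : L ≤ M := inf_le_inf_right _ inf_le_left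
    have hC1R : R ≤ normalizer (C1 : Set X) :=
      le_normalizer_inf_centralizer hMR (le_normalizer_core_of_le hMR)
    have hC1n : M ≤ normalizer (C1 : Set X) :=
      le_normalizer_inf_centralizer le_normalizer (Balance.le_normalizer_core M)
    have hgood : Good p R C1 := (hNnG.inf_normalizer hNnA (hA.trans hPNn) (hPp.to_le hA) hAR).of_normal
      (hG.of_le (inf_le_left.trans inf_le_left) hC1R) hC1L (hLM.trans hC1n)
    have hle : Balance.core p C1 ≤ Balance.core p M := Balance.core_le_core inf_le_left hC1n
    exact hle (hgood x ⟨hx, hxc⟩ (mem_centralizer_core_of_le hle hxc) b hb)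
  -- good subgroups containing `C_G(R)` and `Z(P)` lie in `Nn`
  have hclimb : ∀ (k : ℕ) (H : Subgroup X), Nat.card P - Nat.card (P ⊓ H : Subgroup X) = k →
      Acts R H → H ≤ G → C ≤ H → Good p R H → Zs ≤ H → H ≤ Nn := by
    intro k
    induction k using Nat.strong_induction_on with
    | _ k ih =>
      intro H hk hH hHG hCH hgood hZH
      set P1 := P ⊓ H with hP1def
      have hP1p : IsPGroup p P1 := hPp.to_le inf_le_left
      have hP1R : R ≤ normalizer (P1 : Set X) := Coprime.le_normalizer_inf_of_le hPR hH.le
      have hall : ∀ S, IsSyl p H S → R ≤ normalizer (S : Set X) → P1 ≤ S := fun S hS hSR =>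
        le_syl_of_normalized hH inf_le_right hP1p hP1R
          (Coprime.le_normalizer_inf_of_le ((inf_le_inf_right _ hHG).trans hPC)
            (inf_le_left.trans le_normalizer)) hS hSR
      have hTH : Balance.core p H ≤ P1 := le_inf
        (le_invCore hG ((Balance.core_le _).trans hHG) (Balance.isPGroup_core _)
          (le_normalizer_core_of_le hH.le) (hCH.trans (Balance.le_normalizer_core H)))
        (Balance.core_le H)
      have hHU := le_normalizer_kInfLower hp hH hgood hTH inf_le_right hall
      by_cases hPH : P ≤ H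
      · rw [show P1 = P from inf_eq_left.2 hPH] at hHU
        exact le_inf hHG hHU
      set U := Cfsg.inducedFunctor Cfsg.kInfLower P1 with hU
      have hUP : U ≤ P := (ConjFun.inducedFunctor_le _ _).trans inf_le_left
      have hZU : Zs ≤ U := fun z hz => ConjFun.center_le_inducedFunctor_kInfLower hP1p
        ⟨⟨hz.1, hZH hz⟩, centralizer_le (inf_le_left : P1 ≤ P) hz.2⟩
      have hNU : normalizer (P1 : Set X) ≤ normalizer (U : Set X) :=
        ConjFun.normalizer_le_normalizer_functor hconj hP1p
      set M := G ⊓ normalizer (U : Set X) with hM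
      have hHM : H ≤ M := le_inf hHG hHU
      obtain ⟨y, hyP, hyH, hyN⟩ : ∃ y ∈ P, y ∉ H ∧ y ∈ normalizer (P1 : Set X) := by
        have := hPp.isNilpotent
        have hne : P1.subgroupOf P ≠ ⊤ := fun h =>
          hPH (fun z hz => (subgroupOf_eq_top.1 h hz).2)
        obtain ⟨y, hyN, hy⟩ := SetLike.exists_of_lt
          (Group.normalizerCondition_of_isNilpotent _ (lt_top_iff_ne_top.2 hne))
        refine ⟨y, y.2, fun h => hy ⟨y.2, h⟩, ?_⟩
        have h1 := le_normalizer_map P.subtype (mem_map_of_mem P.subtype hyN)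
        rwa [map_subgroupOf_eq_of_le inf_le_left] at h1
      have hlt : Nat.card P1 < Nat.card (P ⊓ M : Subgroup X) := by
        by_contra hge
        have he := eq_of_le_of_card_ge (inf_le_inf_left P hHM) (not_lt.1 hge)
        exact hyH (he.ge ⟨hyP, hPG hyP, hNU hyN⟩).2
      have hle : Nat.card (P ⊓ M : Subgroup X) ≤ Nat.card P := card_le_of_le inf_le_left
      have hUR : R ≤ normalizer (U : Set X) := hP1R.trans hNU
      exact hHM.trans (ih _ (by omega) M rfl
        (hG.of_le inf_le_left (Coprime.le_normalizer_inf_normalizer hG.le hUR)) inf_le_left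
        (hCH.trans hHM) (hgoodN U hUP hZU hUR) (hZH.trans hHM))
  -- downward induction on sets of operators
  set I : Set X := {a | a ∈ R ∧ a ≠ 1} with hI
  have hsets : ∀ (n : ℕ) (σ : Set X), σ ⊆ I → (I \ σ).ncard = n →
      G ⊓ centralizer ((⨆ c ∈ σ, T c : Subgroup X) : Set X) ≤ Nn := by
    intro n
    induction n using Nat.strong_induction_on with
    | _ n ih =>
      intro σ hσ hn
      set D := ⨆ c ∈ σ, T c with hD
      set K := G ⊓ centralizer (D : Set X) with hK
      have hKR : R ≤ normalizer (K : Set X) := le_normalizer_inf_centralizer hG.le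
        (Coprime.le_normalizer_iSup₂ T fun c hc => hTR c (hσ hc).1)
      have hKA : Acts R K := hG.of_le inf_le_left hKR
      refine inf_eq_left.1 (Coprime.eq_of_forall_centralizer_le hnc hKR hKA.cop inf_le_left
        fun a ha ha1 => le_inf inf_le_left ?_)
      set Ka := K ⊓ centralizer ({a} : Set X) with hKa
      have hKaR : R ≤ normalizer (Ka : Set X) :=
        Coprime.le_normalizer_inf_centralizer_singleton hKR ha
      have hKaG : Ka ≤ G ⊓ centralizer ({a} : Set X) := inf_le_inf_right _ inf_le_left
      by_cases haσ : a ∈ σ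
      · have hcom : ⁅Ka, R⁆ ≤ T a := commutator_le.2 fun k hk b hb => by
          rw [commutatorElement_def, show k * b * k⁻¹ * b⁻¹ = (b * k * b⁻¹ * k⁻¹)⁻¹ by group]
          exact inv_mem (hloc a ha ha1 k (hKaG hk)
            (centralizer_le (le_iSup₂ (f := fun c (_ : c ∈ σ) => T c) a haσ) hk.1.2) b hb)
        intro x hx
        obtain ⟨c, hc, m, hm, rfl⟩ := Coprime.exists_centralizer_mul_commutator hKaR
          (hKA.of_le inf_le_left hKaR).cop (.inl hG.solv) hx
        exact mul_mem (hCNn ⟨(hKaG hc.1).1, hc.2⟩) (hPNn (hTP a ha (hcom hm)))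
      · set σ' := insert a σ with hσ'
        set D' := ⨆ c ∈ σ', T c with hD'
        set K' := G ⊓ centralizer (D' : Set X) with hK'
        have hσ'I : σ' ⊆ I := Set.insert_subset ⟨ha, ha1⟩ hσ
        have hK'Nn : K' ≤ Nn := ih _ (by
          rw [← hn]
          refine Set.ncard_lt_ncard ⟨Set.sdiff_subset_sdiff_right (Set.subset_insert a σ), fun h => ?_⟩
            (Set.toFinite _)
          exact (h (⟨⟨ha, ha1⟩, haσ⟩ : a ∈ I \ σ)).2 (Set.mem_insert a σ)) σ' hσ'I rfl
        have hD'P : D' ≤ P := iSup₂_le fun c hc => hTP c (hσ'I hc).1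
        have hD'R : R ≤ normalizer (D' : Set X) :=
          Coprime.le_normalizer_iSup₂ T fun c hc => hTR c (hσ'I hc).1
        have hD'C : C ≤ normalizer (D' : Set X) :=
          Coprime.le_normalizer_iSup₂ T fun c hc => hTC c (hσ'I hc).1
        have hK'R : R ≤ normalizer (K' : Set X) := le_normalizer_inf_centralizer hG.le hD'R
        have hK'A : Acts R K' := hG.of_le inf_le_left hK'R
        have hK'G : Good p R K' :=
          (hNnG.inf_normalizer hNnA (hD'P.trans hPNn) (hPp.to_le hD'P) hD'R).of_normal hK'A
            (le_inf hK'Nn (inf_le_right.trans (centralizer_le_normalizer _)))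
            (le_normalizer_inf_centralizer (inf_le_left.trans (inf_le_left.trans le_normalizer))
              inf_le_right)
        set O := Balance.core p K' with hO
        have hOR : R ≤ normalizer (O : Set X) := le_normalizer_core_of_le hK'R
        have hOC : C ≤ normalizer (O : Set X) :=
          le_normalizer_core_of_le (le_normalizer_inf_centralizer (inf_le_left.trans le_normalizer) hD'C)
        have hOP : O ≤ P :=
          le_invCore hG ((Balance.core_le _).trans inf_le_left) (Balance.isPGroup_core _) hOR hOC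
        have hZK' : Zs ≤ K' := le_inf (hZsP.trans hPG) (inf_le_right.trans (centralizer_le hD'P))
        have hZO : Zs ≤ O := fun z hz => hK'G.mem_core (K := K' ⊓ centralizer (O : Set X)) hK'A
          inf_le_left (le_normalizer_inf_centralizer le_normalizer (Balance.le_normalizer_core K'))
          (le_normalizer_inf_centralizer hK'R hOR) (fun y hy _ => hy.2)
          ⟨hZK' hz, centralizer_le hOP hz.2⟩
          fun S hS hSR => le_syl_of_normalized hK'A hZK' (hPp.to_le hZsP) (hPR.trans hNZ)
            ((inf_le_inf_right _ inf_le_left).trans (hPC.trans hNZ)) hS hSR hz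
        have hKaO : Ka ≤ normalizer (O : Set X) := by
          refine le_normalizer_core_of_le (le_normalizer_inf_centralizer
            ((inf_le_left.trans inf_le_left).trans le_normalizer)
            (Coprime.le_normalizer_iSup₂ T fun c hc => ?_))
          rcases Set.mem_insert_iff.1 hc with rfl | hc
          · exact hKaG.trans (Balance.le_normalizer_core _)
          · exact inf_le_left.trans (inf_le_right.trans ((centralizer_le
              (le_iSup₂ (f := fun c (_ : c ∈ σ) => T c) c hc)).trans (centralizer_le_normalizer _)))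
        exact (le_inf (inf_le_left.trans inf_le_left) hKaO).trans
          (hclimb _ _ rfl (hG.of_le inf_le_left (Coprime.le_normalizer_inf_normalizer hG.le hOR))
            inf_le_left (le_inf inf_le_left hOC) (hgoodN O hOP hZO hOR)
            (le_inf (hZsP.trans hPG) (hZO.trans le_normalizer)))
  have hfin := hsets _ ∅ (Set.empty_subset _) rfl
  refine hproper Kk hKP hZK (fun x hx => (hfin ⟨hx, ?_⟩).2)
  simp [mem_centralizer_iff]

theorem good_of_locGood_aux (hp : 3 < p) : ∀ (n : ℕ) {X : Type u} [Group X] [Finite X]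
    (G R : Subgroup X), Nat.card G = n → Acts R G → IsMulCommutative R →
    ¬ IsCyclic R → LocGood p R G → Good p R G := by
  intro n
  induction n using Nat.strong_induction_on with
  | _ n ih =>
    intro X _ _ G R hn hG hab hnc hloc
    have IH : ∀ M : Subgroup X, Nat.card M < Nat.card G → Acts R M → LocGood p R M → Good p R M :=
      fun M hM hMA hML => ih _ (hn ▸ hM) M R rfl hMA hab hnc hML
    set T := Balance.core p G with hT
    by_cases hT1 : T = ⊥
    · exact good_of_core_eq_bot hp hG hnc hloc hT1 IH
    set C := G ⊓ centralizer (T : Set X) with hC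
    have hCR : R ≤ normalizer (C : Set X) :=
      le_normalizer_inf_centralizer hG.le (le_normalizer_core_of_le hG.le)
    have hCn : G ≤ normalizer (C : Set X) :=
      le_normalizer_inf_centralizer le_normalizer (Balance.le_normalizer_core G)
    have hCA : Acts R C := hG.of_le inf_le_left hCR
    by_cases hlt : Nat.card C < Nat.card G
    · intro x hx hxc b hb
      have hle : Balance.core p C ≤ T := Balance.core_le_core inf_le_left hCn
      exact hle (IH C hlt hCA (hloc.of_normal hCA inf_le_left hCn) x ⟨hx, hxc⟩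
        (mem_centralizer_core_of_le hle hxc) b hb)
    have hTc : G ≤ centralizer (T : Set X) :=
      inf_eq_left.1 (eq_of_le_of_card_ge inf_le_left (not_lt.1 hlt))
    -- work in `R G` and factor out the core
    set Γ := R ⊔ G with hΓ
    have hTΓ : T ≤ Γ := (Balance.core_le G).trans le_sup_right
    have : (T.subgroupOf Γ).Normal := normal_subgroupOf_of_le_normalizer
      (sup_le (le_normalizer_core_of_le hG.le) (Balance.le_normalizer_core G))
    have : (G.subgroupOf Γ).Normal :=
      normal_subgroupOf_of_le_normalizer (sup_le hG.le le_normalizer)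
    have hA : Acts (R.subgroupOf Γ) (G.subgroupOf Γ) :=
      ⟨le_top.trans (normalizer_eq_top (H := G.subgroupOf Γ)).ge,
        by rw [Coprime.card_subgroupOf le_sup_left, Coprime.card_subgroupOf le_sup_right]; exact hG.cop,
        Coprime.isSolvable_subgroupOf le_sup_left hG.solv⟩
    have e := Balance.core_map_subtype (p := p) (G.subgroupOf Γ)
    rw [map_subgroupOf_eq_of_le (le_sup_right : G ≤ Γ)] at e
    have eT : T.subgroupOf Γ = Balance.core p (G.subgroupOf Γ) := by
      rw [hT, e]
      exact comap_map_eq_self_of_injective Γ.subtype_injective _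
    have habR : IsMulCommutative (R.subgroupOf Γ) := ⟨⟨fun a b => by
      have h1 := congrArg Subtype.val (mul_comm' (⟨_, a.2⟩ : R) ⟨_, b.2⟩)
      exact Subtype.ext (Subtype.ext h1)⟩⟩
    refine Good.of_subgroupOf le_sup_left le_sup_right
      (good_of_central_core hA ?_ (hloc.subgroupOf le_sup_right) eT ?_ ?_ ?_)
    · exact fun hc => hnc ((subgroupOfEquivOfLe le_sup_left).isCyclic.1 hc)
    · exact fun h => hT1 (by rw [← map_subgroupOf_eq_of_le hTΓ, h, Subgroup.map_bot])
    · exact fun x hx => mem_centralizer_iff.2 fun t ht =>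
        Subtype.ext (mem_centralizer_iff.1 (hTc hx) t ht)
    · intro Y _ _ G' R' hlt' hG' hab' hnc' hloc'
      refine ih _ ?_ G' R' rfl hG' hab' hnc' hloc'
      rwa [Coprime.card_subgroupOf le_sup_right, hn] at hlt'

/-- **Local to global.** -/
theorem good_of_locGood (hp : 3 < p) (hG : Acts R G)
    [hab : IsMulCommutative R] (hnc : ¬ IsCyclic R) (hloc : LocGood p R G) : Good p R G :=
  good_of_locGood_aux hp _ G R rfl hG hab hnc hloc

end Cfsg.Agent.FlavellQ
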