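import Cfsg.Agent.Lib.QuadPair.Pair

/-!
# The corner of a pair of square-zero elements, with its complement

`exists_pre_nil` is `exists_pre` of `Lib/QuadPair/Pair` keeping the fact that `a b + b a` is
nilpotent outside the corner; `exists_split` packages what is used.
-/

set_option autoImplicit false
set_option linter.unusedSectionVars false

universe u v

namespace Cfsg.Agent.FlavellQ

open Cfsg Cfsg.Agent.QuadPair Polynomial Matrix
open scoped MatrixGroups

variable {k : Type u} [Field k] {M : Type v} [AddCommGroup M] [Module k M] [FiniteDimensional k M]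
variable {G : Subgroup (LinearMap.GeneralLinearGroup k M)}

set_option maxHeartbeats 1000000 in
/-- Any two square-zero elements with `a b + b a` not nilpotent: `SL(2, R)` acts on the corner, and
the elementary matrices land in the group. -/
theorem exists_pre_nil (hgen : GenProp k) (hk2 : (2 : k) ≠ 0) (hk3 : Nat.card k ≠ 3)
    {a b : Module.End k M} (ha : a * a = 0) (hb : b * b = 0) (haf : Fam G a) (hbf : Fam G b)
    (hz : ¬ IsNilpotent (a * b + b * a)) :
    ∃ (R : Type u) (_ : CommRing R) (_ : Algebra k R) (_ : FiniteDimensional k R) (_ : Nontrivial R)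
      (lam : R) (C : Corner a b R lam),
      IsUnit lam ∧ Algebra.adjoin k ({lam} : Set R) = ⊤ ∧ Function.Injective C.map ∧
      C.idem * C.idem = C.idem ∧ C.idem ≠ 0 ∧ (∃ N, (1 - C.idem) * (a * b + b * a) ^ N = 0) ∧
      ∀ x, C.rep (SL2Gen.eU x) ∈ G ∧ C.rep (SL2Gen.eL x) ∈ G := by
  obtain ⟨R, _, _, _, _, lam, C, N, hu, hadj, hinj, hidem, hN⟩ := exists_corner ha hb hz
  set p := C.idem with hp
  have hpa : p * a = a * p := C.comm_left 1
  have hpb : p * b = b * p := C.comm_right 1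
  -- lifts
  let L : ℕ → Subgroup SL(2, R) := fun n =>
    { carrier := {x | ∃ h ∈ G, InWords a b n h ∧ p * (h : Module.End k M) = C.psi x}
      one_mem' := ⟨1, G.one_mem, InWords.one, by rw [Units.val_one, mul_one, C.psi_one]⟩
      mul_mem' := by
        rintro x y ⟨g, hg, hgw, hgx⟩ ⟨h, hh, hhw, hhy⟩
        refine ⟨g * h, G.mul_mem hg hh, hgw.mul hhw, ?_⟩
        rw [Units.val_mul, ← mul_assoc, hgx, ← C.psi_idem, mul_assoc, ← hp, hhy, C.psi_mul]
      inv_mem' := by
        rintro x ⟨g, hg, hgw, hgx⟩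
        refine ⟨g⁻¹, G.inv_mem hg, hgw.inv, ?_⟩
        have h1 : C.psi x⁻¹ * (p * (g : Module.End k M)) = p := by
          rw [hgx, C.psi_mul, inv_mul_cancel, C.psi_one]
        conv_lhs => rw [← h1, ← mul_assoc, C.psi_idem]
        rw [mul_assoc, ← Units.val_mul, mul_inv_cancel, Units.val_one, mul_one] }
  have hmemL : ∀ n x, x ∈ L n ↔
      ∃ h ∈ G, InWords a b n h ∧ p * (h : Module.End k M) = C.psi x := fun n x => Iff.rfl
  have hmapc : ∀ c : k, C.map (algebraMap k R c) = c • p := fun c => by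
    rw [Algebra.algebraMap_eq_smul_one, map_smul]; rfl
  have hpsiU : ∀ x, C.psi (SL2Gen.eU x) = p + C.map x * a := fun x => by
    have h1 := C.rep_eU x
    rw [C.coe_rep, ← hp, sub_add, sub_eq_add_neg, add_left_cancel_iff, neg_sub,
      sub_eq_iff_eq_add] at h1
    rw [h1, add_comm]
  have hpsiL : ∀ x, C.psi (SL2Gen.eL x) = p + C.map (x * C.li) * b := fun x => by
    have h1 := C.rep_eL x
    rw [C.coe_rep, ← hp, sub_add, sub_eq_add_neg, add_left_cancel_iff, neg_sub,
      sub_eq_iff_eq_add] at h1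
    rw [h1, add_comm]
  have hbase : SL2Gen.gen k lam ≤ L 1 := by
    refine (Subgroup.closure_le _).2 ?_
    rintro _ (⟨c, rfl⟩ | ⟨c, rfl⟩)
    · refine ⟨_, (haf c).onePlus_mem (smul_sq ha c), inWords_left ha c, ?_⟩
      rw [coe_onePlus, mul_add, mul_one, hpsiU, hmapc, mul_smul_comm, smul_mul_assoc]
    · refine ⟨_, (hbf c).onePlus_mem (smul_sq hb c), inWords_right hb c, ?_⟩
      rw [coe_onePlus, mul_add, mul_one, hpsiL, mul_assoc, C.lam_li, mul_one, hmapc,
        mul_smul_comm, smul_mul_assoc]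
  have hU1 : ∀ x, SL2Gen.eU x ∈ L 1 ∧ SL2Gen.eL x ∈ L 1 := fun x =>
    ⟨hbase (hgen R lam hu hadj x).1, hbase (hgen R lam hu hadj x).2⟩
  obtain ⟨t, ht0, ht1⟩ := exists_torus hk2 hk3
  let ti : R := algebraMap k R t⁻¹
  let tt : R := algebraMap k R t
  have htt : tt * ti = 1 := by
    rw [← map_mul, mul_inv_cancel₀ ht0, map_one]
  let nn : R → R → SL(2, R) := fun x y => SL2Gen.eU x * SL2Gen.eL (-y) * SL2Gen.eU x
  set hh := nn tt ti * (nn 1 1)⁻¹ with hhh
  have hhL : hh ∈ L 1 :=
    mul_mem (mul_mem (mul_mem (hU1 _).1 (hU1 _).2) (hU1 _).1)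
      (inv_mem (mul_mem (mul_mem (hU1 _).1 (hU1 _).2) (hU1 _).1))
  have e00 : hh 0 0 = tt ∧ hh 0 1 = 0 ∧ hh 1 0 = 0 ∧ hh 1 1 = ti := by
    simp only [hhh, nn, SL2Gen.mulE, SL2Gen.invE00, SL2Gen.invE01, SL2Gen.invE10, SL2Gen.invE11,
      SL2Gen.eU00, SL2Gen.eU01, SL2Gen.eU10, SL2Gen.eU11, SL2Gen.eL00, SL2Gen.eL01, SL2Gen.eL10,
      SL2Gen.eL11]
    refine ⟨?_, ?_, ?_, ?_⟩
    · linear_combination (-tt) * htt
    · linear_combination htt
    · linear_combination (-1 : R) * htt
    · linear_combination (0 : R) * htt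
  obtain ⟨e00, e01, e10, e11⟩ := e00
  obtain ⟨q, hq⟩ : ∃ q : R, (1 - tt ^ 2) * q = 1 := ⟨algebraMap k R (1 - t ^ 2)⁻¹, by
    rw [← map_pow, ← map_one (algebraMap k R), ← map_sub, ← map_mul, mul_inv_cancel₀
      (sub_ne_zero.2 fun h => ht1 (by rw [← pow_two]; exact h.symm))]⟩
  have hstep : ∀ n, 1 ≤ n → (∀ x, SL2Gen.eU x ∈ L n ∧ SL2Gen.eL x ∈ L n) →
      ∀ x, SL2Gen.eU x ∈ L (n + 1) ∧ SL2Gen.eL x ∈ L (n + 1) := by
    intro n hn hx x
    have comm : ∀ v w, v ∈ L n → w ∈ L 1 → v * w * v⁻¹ * w⁻¹ ∈ L (n + 1) := by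
      intro v w hv hw
      obtain ⟨g, hg, hgw, hgv⟩ := (hmemL _ _).1 hv
      obtain ⟨h, hh', hhw, hhv⟩ := (hmemL _ _).1 hw
      obtain ⟨gi, hgi, hgiw, hgiv⟩ := (hmemL _ _).1 (inv_mem hv)
      refine ⟨g * h * g⁻¹ * h⁻¹, G.mul_mem (G.mul_mem (G.mul_mem hg hh') (G.inv_mem hg))
        (G.inv_mem hh'), hgw.comm hn hhw, ?_⟩
      have key : ∀ {g' : LinearMap.GeneralLinearGroup k M} {v' : SL(2, R)},
          p * (g' : Module.End k M) = C.psi v' →
          p * ((g'⁻¹ : LinearMap.GeneralLinearGroup k M) : Module.End k M) = C.psi v'⁻¹ := by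
        intro g' v' e
        have h1 : C.psi v'⁻¹ * (p * (g' : Module.End k M)) = p := by
          rw [e, C.psi_mul, inv_mul_cancel, C.psi_one]
        conv_lhs => rw [← h1, ← mul_assoc, C.psi_idem]
        rw [mul_assoc, ← Units.val_mul, mul_inv_cancel, Units.val_one, mul_one]
      have m2 : ∀ {g' h'' : LinearMap.GeneralLinearGroup k M} {v' w' : SL(2, R)},
          p * (g' : Module.End k M) = C.psi v' → p * (h'' : Module.End k M) = C.psi w' →
          p * ((g' * h'' : LinearMap.GeneralLinearGroup k M) : Module.End k M) =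
            C.psi (v' * w') := by
        intro g' h'' v' w' e1 e2
        rw [Units.val_mul, ← mul_assoc, e1, ← C.psi_idem, mul_assoc, ← hp, e2, C.psi_mul]
      exact m2 (m2 (m2 hgv hhv) (key hgv)) (key hhv)
    constructor
    · have h1 := comm _ _ (hx (x * q)).1 hhL
      rwa [show SL2Gen.eU (x * q) * hh * (SL2Gen.eU (x * q))⁻¹ * hh⁻¹ = SL2Gen.eU x by
        rw [mul_assoc (SL2Gen.eU (x * q)), SL2Gen.eU_inv, mul_assoc (SL2Gen.eU (x * q)),
          SL2Gen.conj_eU_of_borel hh e10, SL2Gen.eU_mul, e00]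
        congr 1
        linear_combination x * hq] at h1
    · have h1 := comm _ _ (hx (-(tt ^ 2) * x * q)).2 hhL
      rwa [show SL2Gen.eL (-(tt ^ 2) * x * q) * hh * (SL2Gen.eL (-(tt ^ 2) * x * q))⁻¹ * hh⁻¹ =
          SL2Gen.eL x by
        rw [SL2Gen.eL_inv]
        apply SL2Gen.ext22 <;>
          simp only [SL2Gen.mulE, SL2Gen.invE00, SL2Gen.invE01, SL2Gen.invE10, SL2Gen.invE11,
            SL2Gen.eL00, SL2Gen.eL01, SL2Gen.eL10, SL2Gen.eL11, e00, e01, e10, e11]
        · linear_combination htt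
        · ring
        · linear_combination x * hq + (x * q * (tt * ti + 1) - tt ^ 2 * x * q) * htt
        · linear_combination htt] at h1
  have hall : ∀ n, ∀ x, SL2Gen.eU x ∈ L (n + 1) ∧ SL2Gen.eL x ∈ L (n + 1) := by
    intro n
    induction n with
    | zero => exact hU1
    | succ n ih => exact hstep (n + 1) (Nat.le_add_left 1 n) ih
  have hkill : ∀ v ∈ words a b (2 * N + 1), (1 - p) * v = 0 := by
    intro v hv
    have hle : words a b (2 * N + 1) ≤ LinearMap.ker (LinearMap.mulLeft k (1 - p)) := by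
      refine iSup_le fun j => ?_
      have key : ∀ i, N ≤ i → ∀ w : Module.End k M, (1 - p) * ((a * b + b * a) ^ i * w) = 0 := by
        intro i hi w
        obtain ⟨l, rfl⟩ := Nat.exists_eq_add_of_le hi
        rw [pow_add, mul_assoc, ← mul_assoc, hN, zero_mul]
      rcases Nat.even_or_odd' (2 * N + 1 + j) with ⟨i, hi | hi⟩
      · rw [hi, show 2 * i = 2 * (i - 1) + 2 by omega]
        refine (lin_pow_le ha hb (i - 1)).2.trans (Submodule.span_le.2 ?_)
        rintro _ (rfl | rfl) <;> exact key _ (by omega) _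
      · rw [hi]
        refine (lin_pow_le ha hb i).1.trans (Submodule.span_le.2 ?_)
        rintro _ (rfl | rfl) <;> exact key _ (by omega) _
    exact hle hv
  have hrep : ∀ n, 2 * N + 1 ≤ n → ∀ x ∈ L n, C.rep x ∈ G := by
    intro n hn x hx
    obtain ⟨h, hh', hhw, hhx⟩ := (hmemL _ _).1 hx
    have h1 := hkill _ (words_anti hn hhw.1)
    have e : h = C.rep x := Units.ext (by
      rw [C.coe_rep, ← hp, ← hhx]
      rw [mul_sub, mul_one, sub_mul, one_mul, sub_eq_zero] at h1
      rw [← h1, sub_add_cancel])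
    rwa [← e]
  have hrU : ∀ x, C.rep (SL2Gen.eU x) ∈ G ∧ C.rep (SL2Gen.eL x) ∈ G := fun x =>
    ⟨hrep _ (Nat.le_refl _) _ (hall (2 * N) x).1, hrep _ (Nat.le_refl _) _ (hall (2 * N) x).2⟩
  have hp0 : p ≠ 0 := by
    intro h0
    refine hz ⟨N, ?_⟩
    rwa [h0, sub_zero, one_mul] at hN
  exact ⟨R, inferInstance, inferInstance, inferInstance, inferInstance, lam, C, hu, hadj, hinj,
    hidem, hp0, ⟨N, hN⟩, hrU⟩

/-- For square-zero `a`, `b` with `z = a b + b a` not nilpotent: an idempotent `e`, commuting with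
everything commuting with `z`, such that `z` is nilpotent outside `e`, and a partner `b₁` of `e a`
made from `b`. -/
theorem exists_split (hgen : GenProp k) (hk2 : (2 : k) ≠ 0) (hk3 : Nat.card k ≠ 3)
    {a b : Module.End k M} (ha : a * a = 0) (hb : b * b = 0) (haf : Fam G a) (hbf : Fam G b)
    (hz : ¬ IsNilpotent (a * b + b * a)) :
    ∃ e b₁ : Module.End k M, e * e = e ∧ e * a ≠ 0 ∧
      (∀ v, v * (a * b + b * a) = (a * b + b * a) * v → e * v = v * e) ∧
      IsNilpotent ((1 - e) * (a * b + b * a)) ∧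
      Fam G (e * a) ∧ Fam G (e * b) ∧ Fam G (e * (a * b * a)) ∧
      b₁ * b₁ = 0 ∧ Fam G b₁ ∧ b₁ * a * b₁ = b₁ ∧ a * b₁ * a = e * a := by
  obtain ⟨R, _, _, _, _, lam, C, hu, -, hinj, hee, he0, ⟨N, hN⟩, hrep⟩ :=
    exists_pre_nil hgen hk2 hk3 ha hb haf hbf hz
  set z := a * b + b * a with hzdef
  have hli : C.li * lam = 1 := by rw [mul_comm, C.lam_li]
  have hmz : ∀ r, Commute (C.map r) z := fun r =>
    ((show Commute (C.map r) a from C.comm_left r).mul_right (C.comm_right r)).add_right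
      ((show Commute (C.map r) b from C.comm_right r).mul_right (C.comm_left r))
  have hez : Commute C.idem z := hmz 1
  have hpow : ∀ n, C.map (C.li ^ n) * z ^ n = C.idem := by
    intro n
    induction n with
    | zero => simp [Corner.idem]
    | succ n ih =>
      have h1 : C.map (C.li ^ (n + 1)) = C.map C.li * C.map (C.li ^ n) := by
        rw [← C.map_mul, pow_succ']
      rw [h1, pow_succ z, mul_assoc, ← mul_assoc (C.map (C.li ^ n)), ih, ← mul_assoc,
        C.map_mul_idem, C.map_lam, hli]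
      rfl
  have hzN : z ^ N = C.idem * z ^ N := by
    rwa [sub_mul, one_mul, sub_eq_zero] at hN
  have hzN' : z ^ N * (1 - C.idem) = 0 := by
    rw [← ((Commute.one_left z).sub_left hez |>.pow_right N).eq, hN]
  have hcomm : ∀ v, v * z = z * v → C.idem * v = v * C.idem := by
    intro v hv
    have hvN : v * z ^ N = z ^ N * v := (show Commute v z from hv).pow_right N |>.eq
    set m := C.map (C.li ^ N)
    have he1 : C.idem = m * z ^ N := (hpow N).symm
    have he2 : C.idem = z ^ N * m := by rw [← ((hmz _).pow_right N).eq]; exact he1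
    have h1 : C.idem * v * (1 - C.idem) = 0 := by
      have h0 : C.idem * v = m * v * z ^ N := by rw [he1, mul_assoc, ← hvN, mul_assoc]
      rw [h0, mul_assoc, hzN', mul_zero]
    have h2 : (1 - C.idem) * v * C.idem = 0 := by
      have h0 : v * C.idem = z ^ N * (v * m) := by rw [he2, ← mul_assoc, hvN, mul_assoc]
      rw [mul_assoc, h0, ← mul_assoc, hN, zero_mul]
    rw [mul_sub, mul_one, sub_eq_zero] at h1
    rw [sub_mul, sub_mul, one_mul, sub_eq_zero] at h2
    exact h1.trans h2.symm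
  have hca : z * a = a * z := z_comm_left ha
  have hcb : z * b = b * z := z_comm_right hb
  have hU : ∀ r : R, Fam G (C.map r * a) := fun r c => ⟨_, (hrep (c • r)).1, by
    rw [C.rep_eU, map_smul, smul_mul_assoc]⟩
  have hL : ∀ r : R, Fam G (C.map r * b) := fun r c => ⟨_, (hrep (c • (r * lam))).2, by
    rw [C.rep_eL, smul_mul_assoc, mul_assoc, C.lam_li, mul_one, map_smul, smul_mul_assoc]⟩
  have haba : a * b * a = z * a := aba ha
  refine ⟨C.idem, C.map C.li * b, hee, ?_, hcomm, ⟨N + 1, ?_⟩, hU 1, hL 1, ?_, ?_, hL _, ?_, ?_⟩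
  · intro h0
    have h1 : C.idem * z = 0 := by
      rw [hzdef, mul_add, ← mul_assoc, h0, zero_mul, zero_add, ← mul_assoc,
        show C.idem * b = b * C.idem from C.comm_right 1, mul_assoc, h0, mul_zero]
    rw [Corner.idem, C.map_lam, one_mul, ← map_zero C.map] at h1
    exact hu.ne_zero (hinj h1)
  · have hc : Commute (1 - C.idem) z := (Commute.one_left z).sub_left hez
    rw [hc.mul_pow, pow_succ z, ← mul_assoc, pow_succ (1 - C.idem), mul_assoc _ (1 - C.idem), hN,
      mul_zero, zero_mul]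
  · rw [haba, ← mul_assoc, Corner.idem, C.map_lam, one_mul]
    exact hU lam
  · rw [mul_assoc, ← mul_assoc b, ← C.comm_right, mul_assoc (C.map C.li) b b, hb, mul_zero,
      mul_zero]
  · rw [mul_assoc (C.map C.li) b a, C.mul_rl, bab hb, ← mul_assoc, C.map_lam, mul_assoc C.li,
      hli, mul_one]
  · rw [← mul_assoc a, ← C.comm_left, mul_assoc (C.map C.li) a b, mul_assoc, haba, ← mul_assoc,
      C.map_lam, hli]
    rfl

end Cfsg.Agent.FlavellQ
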