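import Cfsg.Agent.Lib.FlavellQ.Unip
import Cfsg.Agent.Lib.FlavellQ.Split

/-!
# Normalised pairs `x y x = x`, `y x y = y` of quadratic elements

* `exists_conj_pair`: two partners of `x` are conjugate by a `p`-element of `Kgrp G x`,
  which centralizes everything commuting with `x` and both partners.
-/

set_option autoImplicit false
set_option linter.unusedSectionVars false

universe u

namespace Cfsg.Agent.FlavellQ

open Cfsg Cfsg.Agent.QuadPair

variable {p : ℕ} [Fact p.Prime] {M : Type u} [AddCommGroup M] [Module (ZMod p) M] [Finite M]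

local notation "GLM" => LinearMap.GeneralLinearGroup (ZMod p) M
local notation "EndM" => Module.End (ZMod p) M

/-- A normalised pair. -/
structure IsPair (x y : EndM) : Prop where
  sqx : x * x = 0
  sqy : y * y = 0
  xyx : x * y * x = x
  yxy : y * x * y = y

/-- `x y + y x`. -/
def pi2 (x y : EndM) : EndM := x * y + y * x

/-- The dimension of the range. -/
noncomputable def rk (x : EndM) : ℕ := Module.finrank (ZMod p) (LinearMap.range x)

theorem rk_pos {x : EndM} (h : x ≠ 0) : 0 < rk x :=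
  Nat.pos_of_ne_zero fun h0 => h (LinearMap.range_eq_bot.1 (Submodule.finrank_eq_zero.1 h0))

theorem rk_zero : rk (0 : EndM) = 0 := by
  rw [rk, LinearMap.range_zero, finrank_bot]

/-- Ranks add over a commuting idempotent. -/
theorem rk_add {q a b : EndM} (ha : q * a = a) (ha' : a * q = a) (hb : q * b = 0)
    (hb' : b * q = 0) : rk (a + b) = rk a + rk b := by
  have hinf : LinearMap.range a ⊓ LinearMap.range b = ⊥ := by
    refine (Submodule.eq_bot_iff _).2 fun v hv => ?_
    obtain ⟨⟨i, hi⟩, j, hj⟩ := hv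
    calc v = a i := hi.symm
      _ = q (a i) := (DFunLike.congr_fun ha i).symm
      _ = q (b j) := by rw [hi, hj]
      _ = 0 := DFunLike.congr_fun hb j
  have hsup : LinearMap.range (a + b) = LinearMap.range a ⊔ LinearMap.range b := by
    refine le_antisymm ?_ (sup_le ?_ ?_)
    · rintro _ ⟨m, rfl⟩
      exact add_mem (Submodule.mem_sup_left ⟨m, rfl⟩) (Submodule.mem_sup_right ⟨m, rfl⟩)
    · rintro _ ⟨m, rfl⟩
      exact ⟨q m, by rw [LinearMap.add_apply, ← Module.End.mul_apply, ← Module.End.mul_apply,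
        ha', hb', LinearMap.zero_apply, add_zero]⟩
    · rintro _ ⟨m, rfl⟩
      exact ⟨m - q m, by
        rw [LinearMap.add_apply, map_sub, map_sub, ← Module.End.mul_apply, ← Module.End.mul_apply,
          ha', hb', LinearMap.zero_apply, sub_self, zero_add, sub_zero]⟩
  have h := Submodule.finrank_sup_add_finrank_inf_eq (LinearMap.range a) (LinearMap.range b)
  rw [hinf, finrank_bot, add_zero, ← hsup] at h
  exact h

namespace IsPair

variable {x y : Module.End (ZMod p) M} (h : IsPair x y)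
include h

theorem pi_x : pi2 x y * x = x := by
  rw [pi2, add_mul, h.xyx, mul_assoc, h.sqx, mul_zero, add_zero]

theorem x_pi : x * pi2 x y = x := by
  rw [pi2, mul_add, ← mul_assoc, ← mul_assoc, h.sqx, zero_mul, zero_add, h.xyx]

theorem pi_y : pi2 x y * y = y := by
  rw [pi2, add_mul, h.yxy, mul_assoc, h.sqy, mul_zero, zero_add]

theorem y_pi : y * pi2 x y = y := by
  rw [pi2, mul_add, ← mul_assoc, ← mul_assoc, h.sqy, zero_mul, add_zero, h.yxy]

theorem pi_pi : pi2 x y * pi2 x y = pi2 x y := by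
  conv_lhs => arg 2; rw [pi2]
  rw [mul_add, ← mul_assoc, ← mul_assoc, h.pi_x, h.pi_y]
  rfl

/-- The involution of the pair. -/
theorem exists_w {H : Subgroup GLM} (hx : Fam H x) (hy : Fam H y) :
    ∃ w ∈ H, (w : EndM) = 1 - pi2 x y + (x - y) ∧
      ((w⁻¹ : GLM) : EndM) = 1 - pi2 x y - (x - y) := by
  refine ⟨onePlus x h.sqx * (onePlus y h.sqy)⁻¹ * onePlus x h.sqx,
    H.mul_mem (H.mul_mem (hx.mem.onePlus_mem _) (H.inv_mem (hy.mem.onePlus_mem _)))
      (hx.mem.onePlus_mem _), ?_, ?_⟩
  · rw [Units.val_mul, Units.val_mul, coe_onePlus, coe_onePlus_inv, pi2]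
    simp only [mul_add, add_mul, mul_sub, sub_mul, mul_one, one_mul, h.xyx, h.sqx]
    abel
  · rw [_root_.mul_inv_rev, _root_.mul_inv_rev, inv_inv, Units.val_mul, Units.val_mul, coe_onePlus,
      coe_onePlus_inv, pi2]
    simp only [← mul_assoc, mul_add, add_mul, mul_sub, sub_mul, mul_one, one_mul, h.xyx, h.sqx]
    abel

theorem sq_sub : (x - y) * (x - y) = -pi2 x y := by
  rw [pi2]
  simp only [mul_sub, sub_mul, h.sqx, h.sqy]
  abel

theorem exists_invol {H : Subgroup GLM} (hx : Fam H x) (hy : Fam H y) :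
    ∃ t ∈ H, (t : EndM) = 1 - (2 : ZMod p) • pi2 x y ∧ t * t = 1 := by
  obtain ⟨w, hw, hwe, -⟩ := h.exists_w hx hy
  have e : ((w * w : GLM) : EndM) = 1 - (2 : ZMod p) • pi2 x y := by
    rw [Units.val_mul, hwe, add_mul, mul_add, mul_add, h.sq_sub]
    simp only [mul_sub, sub_mul, mul_one, one_mul, h.pi_x, h.pi_y, h.x_pi, h.y_pi, h.pi_pi,
      two_smul]
    abel
  refine ⟨w * w, H.mul_mem hw hw, e, Units.ext ?_⟩
  rw [Units.val_mul, e, Units.val_one, two_smul]
  simp only [mul_sub, sub_mul, mul_add, add_mul, mul_one, one_mul, h.pi_pi]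
  abel

theorem cj (g : GLM) : IsPair (QuadPair.cj g x) (QuadPair.cj g y) :=
  ⟨by rw [← cj_mul, h.sqx, cj_zero], by rw [← cj_mul, h.sqy, cj_zero],
    by rw [← cj_mul, ← cj_mul, h.xyx], by rw [← cj_mul, ← cj_mul, h.yxy]⟩

end IsPair

/-- `u` has the shape of `x r` inside the pair. -/
structure IsU (x y u : EndM) : Prop where
  xu : x * u = 0
  ux : u * x = 0
  uu : u * u = 0
  xyu : x * y * u = u
  uyx : u * y * x = u

theorem isU_of_pairs {x y y' : EndM} (h : IsPair x y) (h' : IsPair x y')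
    (hpi : pi2 x y' = pi2 x y) :
    IsU x y (x * y * y' * x) ∧
      ∃ hu : (x * y * y' * x) * (x * y * y' * x) = 0, cj (onePlus _ hu) y = y' := by
  have hu : IsU x y (x * y * y' * x) :=
    ⟨by simp only [← mul_assoc, h.sqx, zero_mul], by rw [mul_assoc, h.sqx, mul_zero],
      by rw [mul_assoc (x * y * y'), ← mul_assoc x (x * y * y'), ← mul_assoc x (x * y),
        ← mul_assoc x x, h.sqx, zero_mul, zero_mul, zero_mul, mul_zero],
      by simp only [← mul_assoc]; rw [h.xyx],
      by rw [mul_assoc (x * y * y'), mul_assoc (x * y * y'), h.xyx]⟩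
  refine ⟨hu, hu.uu, ?_⟩
  set u := x * y * y' * x with hudef
  have e : pi2 x y' = x * y + y * x := hpi
  have hneg : x * y' * y * x = -u := by
    have h1 : x * y * y' * x + x * y' * y * x = 0 := by
      have h2 : x * y * (y' * x) = x * y * pi2 x y - x * y * (x * y') := by
        rw [← mul_sub, ← hpi, pi2, add_sub_cancel_left]
      have h3 : x * y' * (y * x) = pi2 x y * (y * x) - y' * x * (y * x) := by
        rw [← sub_mul, ← hpi, pi2, add_sub_cancel_right]
      rw [mul_assoc (x * y), h2, mul_assoc (x * y'), h3, mul_assoc x y (pi2 x y), h.y_pi,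
        ← mul_assoc (x * y) x, h.xyx, ← mul_assoc (pi2 x y), h.pi_y, ← mul_assoc (y' * x) y,
        mul_assoc y' x y, mul_assoc y' (x * y) x, h.xyx]
      have h4 : x * y + y * x - (x * y' + y' * x) = 0 := by rw [← e, pi2, sub_self]
      rw [← h4]
      abel
    rw [eq_neg_iff_add_eq_zero, add_comm]
    exact h1
  have hx' : ∀ r, x * (y * (x * r)) = x * r := fun r => by
    simp only [← mul_assoc, h.xyx]
  have hx'' : x * (y' * x) = x := by rw [← mul_assoc, h'.xyx]
  have hπy : pi2 x y * y' = y' := by rw [← hpi, h'.pi_y]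
  have hyπ : y' * pi2 x y = y' := by rw [← hpi, h'.y_pi]
  have t1 : y * x * y' * x * y = y := by
    rw [mul_assoc y x y', mul_assoc y (x * y') x, h'.xyx, h.yxy]
  have t2 : x * y * y' * x * y = u * y := rfl
  have t3 : y * x * y' * y * x = -(y * u) := by
    rw [← mul_neg, ← hneg]
    simp only [mul_assoc]
  have t4 : x * y * y' * y * x = -(u * y * u) := by
    have h1 : u * y * u = x * y * y' * (pi2 x y' - y * x) * (y' * x) := by
      rw [hudef, e, add_sub_cancel_right]
      simp only [mul_assoc, hx']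
    rw [h1, mul_sub, sub_mul, mul_assoc (x * y * y') (pi2 x y'), ← mul_assoc (pi2 x y'),
      h'.pi_y, ← mul_assoc (x * y * y') y' x, mul_assoc (x * y) y' y', h'.sqy, mul_zero,
      zero_mul, zero_sub, neg_neg]
    simp only [mul_assoc, hx'']
  rw [cj, coe_onePlus, coe_onePlus_inv]
  conv_rhs =>
    rw [← hπy, ← hyπ, pi2]
    simp only [mul_add, add_mul, ← mul_assoc]
    rw [t1, t2, t3, t4]
  noncomm_ring
  simp only [hudef, mul_assoc, hx']
  abel

namespace IsU

variable {x y u : Module.End (ZMod p) M} (h : IsPair x y) (hu : IsU x y u)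
include h hu

theorem pi_u : pi2 x y * u = u := by
  rw [pi2, add_mul, hu.xyu, mul_assoc y x u, hu.xu, mul_zero, add_zero]

theorem u_pi : u * pi2 x y = u := by
  rw [pi2, mul_add, ← mul_assoc, ← mul_assoc, hu.ux, zero_mul, zero_add, hu.uyx]

theorem shift (c : ZMod p) : IsU x y (u + c • x) where
  xu := by rw [mul_add, mul_smul_comm, hu.xu, h.sqx, smul_zero, add_zero]
  ux := by rw [add_mul, smul_mul_assoc, hu.ux, h.sqx, smul_zero, add_zero]
  uu := by
    simp only [mul_add, add_mul, smul_mul_assoc, mul_smul_comm, hu.uu, hu.xu, hu.ux, h.sqx,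
      smul_zero, add_zero]
  xyu := by rw [mul_add, mul_smul_comm, hu.xyu, h.xyx]
  uyx := by simp only [add_mul, smul_mul_assoc, hu.uyx, h.xyx]

theorem restrict {f : EndM} (hf : f * f = f) (fx : f * x = x * f) (fy : f * y = y * f)
    (fu : f * u = u * f) : IsPair (f * x) (f * y) ∧ IsU (f * x) (f * y) (f * u) := by
  have key : ∀ {a : EndM} (b : EndM), f * a = a * f → f * a * (f * b) = f * (a * b) := fun b ha => by
    rw [mul_assoc, ← mul_assoc _ f, ← ha, mul_assoc f, ← mul_assoc, hf]
  have fxy : f * (x * y) = (x * y) * f := by rw [← mul_assoc, fx, mul_assoc, fy, mul_assoc]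
  have fyx : f * (y * x) = (y * x) * f := by rw [← mul_assoc, fy, mul_assoc, fx, mul_assoc]
  have fuy : f * (u * y) = (u * y) * f := by rw [← mul_assoc, fu, mul_assoc, fy, mul_assoc]
  exact ⟨⟨by rw [key _ fx, h.sqx, mul_zero], by rw [key _ fy, h.sqy, mul_zero],
      by rw [key _ fx, key _ fxy, h.xyx], by rw [key _ fy, key _ fyx, h.yxy]⟩,
    ⟨by rw [key _ fx, hu.xu, mul_zero], by rw [key _ fu, hu.ux, mul_zero],
      by rw [key _ fu, hu.uu, mul_zero], by rw [key _ fx, key _ fxy, hu.xyu],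
      by rw [key _ fu, key _ fuy, hu.uyx]⟩⟩

theorem cj_restrict {f : EndM} (hf : f * f = f) (fy : f * y = y * f) (fu : f * u = u * f)
    (h1 : (f * u) * (f * u) = 0) :
    QuadPair.cj (onePlus (f * u) h1) (f * y) = f * QuadPair.cj (onePlus u hu.uu) y := by
  have key : ∀ {a : EndM} (b : EndM), f * a = a * f → f * a * (f * b) = f * (a * b) := fun b ha => by
    rw [mul_assoc, ← mul_assoc _ f, ← ha, mul_assoc f, ← mul_assoc, hf]
  have fuy : f * (u * y) = (u * y) * f := by rw [← mul_assoc, fu, mul_assoc, fy, mul_assoc]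
  simp only [QuadPair.cj, coe_onePlus, coe_onePlus_inv, mul_add, add_mul, mul_sub, mul_one, one_mul]
  rw [key _ fy, key _ fu, key _ fuy]

/-- The swap of the pair applied to the `u`-conjugate of `y`. -/
theorem cj_swap {w : GLM} (hw : (w : EndM) = 1 - pi2 x y + (x - y))
    (hwi : ((w⁻¹ : GLM) : EndM) = 1 - pi2 x y - (x - y)) :
    QuadPair.cj w x = -y ∧ QuadPair.cj w (QuadPair.cj (onePlus u hu.uu) y) =
      -x + y * u - u * y + y * u * y * u * y := by
  have c1 : QuadPair.cj w x = -y := by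
    have e1 : (w : EndM) * x = -(y * x) := by
      rw [hw, add_mul, sub_mul, sub_mul, one_mul, h.pi_x, h.sqx]
      abel
    rw [QuadPair.cj, e1, hwi, neg_mul, mul_sub, mul_sub, mul_sub, mul_one, mul_assoc y x,
      h.x_pi, mul_assoc y x x, h.sqx, mul_zero, h.yxy]
    abel
  have c2 : QuadPair.cj w y = -x := by
    have e1 : (w : EndM) * y = x * y := by
      rw [hw, add_mul, sub_mul, sub_mul, one_mul, h.pi_y, h.sqy]
      abel
    rw [QuadPair.cj, e1, hwi, mul_sub, mul_sub, mul_sub, mul_one, mul_assoc x y (pi2 x y), h.y_pi,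
      h.xyx, mul_assoc x y y, h.sqy, mul_zero]
    abel
  have c3 : QuadPair.cj w u = -(y * u * y) := by
    have e1 : (w : EndM) * u = -(y * u) := by
      rw [hw, add_mul, sub_mul, sub_mul, one_mul, hu.pi_u h, hu.xu]
      abel
    rw [QuadPair.cj, e1, hwi, neg_mul, mul_sub, mul_sub, mul_sub, mul_one, mul_assoc y u,
      hu.u_pi h, mul_assoc y u x, hu.ux, mul_zero]
    abel
  refine ⟨c1, ?_⟩
  have c0 : QuadPair.cj w 1 = 1 := by rw [QuadPair.cj, mul_one, Units.mul_inv]
  have c4 : QuadPair.cj w (1 - u) = 1 - QuadPair.cj w u := by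
    rw [← sub_eq_zero, show (1 : EndM) - u = 1 + (-1 : ZMod p) • u by simp [sub_eq_add_neg],
      cj_add, cj_smul, c0]
    simp [sub_eq_add_neg]
  rw [show QuadPair.cj (onePlus u hu.uu) y = (1 + u) * y * (1 - u) by rfl, cj_mul, cj_mul,
    cj_add, c0, c4, c2, c3]
  simp only [mul_add, add_mul, mul_sub, sub_mul, mul_one, one_mul, neg_mul, mul_neg, sub_neg_eq_add,
    ← mul_assoc]
  rw [show y * u * y * x = y * u by rw [mul_assoc (y * u), mul_assoc y, ← mul_assoc u, hu.uyx],
    show x * y * u * y = u * y by rw [hu.xyu]]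
  abel

end IsU

end Cfsg.Agent.FlavellQ
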