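import Cfsg.Agent.Lib.FlavellQ.Fix
import Cfsg.Agent.Lib.QuadPair.Bracket

/-!
# Minimal quadratic elements in a group with trivial `p`-core, without irreducibility

* `Same G a b`: generated by non-commutation between minimal elements;
* `exists_move`: elements of one class have conjugate root spaces, by an element fixing the other
  classes pointwise;
* `same_cj_of_quadratic`: quadratic elements fix each class.
-/

set_option autoImplicit false
set_option linter.unusedSectionVars false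

universe u

namespace Cfsg.Agent.FlavellQ

open Cfsg Cfsg.Agent.QuadPair

variable {p : ℕ} [Fact p.Prime] {M : Type u} [AddCommGroup M] [Module (ZMod p) M] [Finite M]

local notation "GLM" => LinearMap.GeneralLinearGroup (ZMod p) M
local notation "EndM" => Module.End (ZMod p) M

/-- Non-commuting minimal elements. -/
def Adj (G : Subgroup GLM) (a b : EndM) : Prop := IsMin G a ∧ IsMin G b ∧ a * b ≠ b * a

/-- The classes generated by non-commutation. -/
def Same (G : Subgroup GLM) (a b : EndM) : Prop := Relation.ReflTransGen (Adj G) a b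

variable {G : Subgroup (LinearMap.GeneralLinearGroup (ZMod p) M)}

theorem Adj.symm {a b : EndM} (h : Adj G a b) : Adj G b a := ⟨h.2.1, h.1, h.2.2.symm⟩

theorem Same.symm {a b : EndM} (h : Same G a b) : Same G b a := by
  induction h with
  | refl => exact .refl
  | tail _ h2 ih => exact Relation.ReflTransGen.head h2.symm ih

theorem Same.trans {a b c : EndM} (h : Same G a b) (h' : Same G b c) : Same G a c :=
  Relation.ReflTransGen.trans h h'

theorem Same.isMin {a b : EndM} (h : Same G a b) (ha : IsMin G a) : IsMin G b := by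
  rcases Relation.ReflTransGen.cases_tail h with rfl | ⟨c, -, hc⟩
  · exact ha
  · exact hc.2.1

theorem commute_of_not_same {a b v : EndM} (hb : IsMin G b) (hv : IsMin G v) (hab : Same G a b)
    (h : ¬ Same G a v) : b * v = v * b := by
  by_contra hne
  exact h (hab.trans (.single ⟨hb, hv, hne⟩))

theorem rk_mul_mul_le (x a y : EndM) : rk (x * a * y) ≤ rk a := by
  rw [mul_assoc]
  refine le_trans ?_ (Submodule.finrank_mono (show LinearMap.range (a * y) ≤ LinearMap.range a by
    rintro _ ⟨m, rfl⟩; exact ⟨y m, rfl⟩))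
  show Module.finrank _ _ ≤ _
  rw [Module.End.mul_eq_comp x, LinearMap.range_comp]
  exact Submodule.finrank_map_le _ _

theorem isMin_cj_normalizer {a : EndM} (ha : IsMin G a) {g : GLM}
    (hg : g ∈ Subgroup.normalizer (G : Set GLM)) : IsMin G (cj g a) := by
  have hq := (show Qd G a from ⟨ha.sq, ha.fam⟩).cj_normalizer hg
  exact ha.of_rank_le hq.1 (fun h => ha.ne (cj_injective g (h.trans (cj_zero g).symm))) hq.2
    (finrank_range_cj g a).le

theorem adj_cj {a b : EndM} (h : Adj G a b) {g : GLM}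
    (hg : g ∈ Subgroup.normalizer (G : Set GLM)) : Adj G (cj g a) (cj g b) :=
  ⟨isMin_cj_normalizer h.1 hg, isMin_cj_normalizer h.2.1 hg, fun e =>
    h.2.2 (cj_injective g (by rw [cj_mul, cj_mul, e]))⟩

theorem same_cj {a b : EndM} (h : Same G a b) {g : GLM}
    (hg : g ∈ Subgroup.normalizer (G : Set GLM)) : Same G (cj g a) (cj g b) := by
  induction h with
  | refl => exact .refl
  | tail _ h2 ih => exact ih.tail (adj_cj h2 hg)

theorem cj_fix_iff_inv {g : GLM} {v : EndM} (h : cj g v = v) : cj g⁻¹ v = v := by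
  conv_lhs => rw [← h]
  rw [cj_inv_cj]

/-- The group generated by the elements of one class. -/
def clsGrp (G : Subgroup GLM) (a : EndM) : Subgroup GLM :=
  Subgroup.closure {g | ∃ (d : EndM) (hd : IsMin G d), Same G a d ∧ g = onePlus d hd.sq}

theorem onePlus_mem_clsGrp {a d : EndM} (hd : IsMin G d) (h : Same G a d) :
    onePlus d hd.sq ∈ clsGrp G a := Subgroup.subset_closure ⟨d, hd, h, rfl⟩

theorem clsGrp_le (a : EndM) : clsGrp G a ≤ G := by
  refine (Subgroup.closure_le _).2 ?_
  rintro _ ⟨d, hd, -, rfl⟩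
  exact hd.fam.mem.onePlus_mem _

theorem clsGrp_congr {a b : EndM} (h : Same G a b) : clsGrp G a = clsGrp G b := by
  unfold clsGrp
  congr 1
  ext g
  exact ⟨fun ⟨d, hd, h', e⟩ => ⟨d, hd, h.symm.trans h', e⟩,
    fun ⟨d, hd, h', e⟩ => ⟨d, hd, h.trans h', e⟩⟩

/-- The elements fixing the endomorphism `v`. -/
def fixEnd (v : EndM) : Subgroup GLM where
  carrier := {g | cj g v = v}
  one_mem' := cj_one v
  mul_mem' := fun {g h} hg hh => by
    show cj (g * h) v = v
    rw [← cj_cj, hh, hg]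
  inv_mem' := fun {g} hg => cj_fix_iff_inv hg

theorem cj_onePlus_eq {d v : EndM} (hd : d * d = 0) (h : d * v = v * d) :
    cj (onePlus d hd) v = v :=
  cj_eq_self_iff.2 (by rw [coe_onePlus, add_mul, mul_add, one_mul, mul_one, h])

theorem cj_eq_of_mem_clsGrp {a v : EndM} (hv : IsMin G v) (h : ¬ Same G a v) {g : GLM}
    (hg : g ∈ clsGrp G a) : cj g v = v := by
  refine (Subgroup.closure_le (fixEnd v)).2 ?_ hg
  rintro _ ⟨d, hd, had, rfl⟩
  exact cj_onePlus_eq hd.sq (commute_of_not_same hd hv had h)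

/-- Equality of root spaces is preserved by conjugation. -/
theorem vsp_cj_congr {a b : EndM} (ha : IsMin G a) (hb : IsMin G b) (h : vsp G a = vsp G b)
    {g : GLM} (hg : g ∈ G) : vsp G (cj g a) = vsp G (cj g b) :=
  ((ha.cj hg).vsp_eq (cj_mem_vsp hg ha.sq (by rw [h]; exact hb.self_mem_vsp))
    (hb.cj hg).ne).symm

section
variable (hp : 3 < p) (hG : pCore p G = ⊥)
include hp hG

theorem exists_opposite {a : EndM} (ha : IsMin G a) :
    ∃ y, IsMin G y ∧ IsPair a y ∧ Adj G a y := by
  obtain ⟨y, hy, hyay, -, hne⟩ := exists_partner hp (x := a) ⟨ha.sq, ha.fam⟩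
    (notMem_pCore_of_eq_bot hG ⟨ha.sq, ha.fam⟩ ha.ne)
  have hy0 : y ≠ 0 := fun h => hne (by rw [h, mul_zero, zero_mul])
  have hym : IsMin G y := ha.of_rank_le hy.1 hy0 hy.2 (by
    conv_lhs => rw [← hyay]
    exact rk_mul_mul_le y a y)
  have hk3 : Nat.card (ZMod p) ≠ 3 := by rw [Nat.card_zmod]; omega
  have hrc : ringChar (ZMod p) ≠ 2 := by rw [ZMod.ringChar_zmod_n]; omega
  obtain ⟨y', hy', hy'0, e1, e2⟩ := exists_inv (genP hp) hrc hk3 ha hym hne
  have hy'm := (hym.of_mem_vsp hy' hy'0).1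
  refine ⟨y', hy'm, ⟨ha.sq, hy'm.sq, e1, e2⟩, ha, hy'm, fun hc => ha.ne ?_⟩
  rw [← e1, hc, mul_assoc, ha.sq, mul_zero]

theorem same_of_mem_vsp {a x : EndM} (ha : IsMin G a) (hx : x ∈ vsp G a) (hx0 : x ≠ 0) :
    Same G a x := by
  obtain ⟨y, hym, -, hadj⟩ := exists_opposite hp hG ha
  refine (Relation.ReflTransGen.single hadj).trans (.single ⟨hym, (ha.of_mem_vsp hx hx0).1, ?_⟩)
  exact fun hc => hadj.2.2 (commute_all (two_ne hp) ha hym hx hx0 hym.self_mem_vsp hym.ne hc.symm
    ha.self_mem_vsp hym.self_mem_vsp)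

theorem same_of_mem_span {a v : EndM} (ha : IsMin G a) (hv : IsMin G v)
    (h : v ∈ Submodule.span (ZMod p) {d : EndM | Same G a d}) : Same G a v := by
  obtain ⟨y, hym, -, hadj⟩ := exists_opposite hp hG hv
  by_cases hay : Same G a y
  · exact hay.trans (.single hadj.symm)
  refine absurd ?_ hadj.2.2
  refine Submodule.span_induction ?_ ?_ ?_ ?_ h
  · exact fun d hd => commute_of_not_same (Same.isMin hd ha) hym hd hay
  · rw [zero_mul, mul_zero]
  · intro x z _ _ hx hz
    rw [add_mul, mul_add, hx, hz]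
  · intro c x _ hx
    rw [smul_mul_assoc, mul_smul_comm, hx]

omit hG in
theorem exists_move_opp {a b : EndM} (ha : IsMin G a) (hb : IsMin G b) (h : a * b * a ≠ 0)
    (hab : Same G a b) (hsame : ∀ y ∈ vsp G b, y ≠ 0 → Same G b y) :
    ∃ g ∈ clsGrp G a, vsp G (cj g a) = vsp G b := by
  have hk3 : Nat.card (ZMod p) ≠ 3 := by rw [Nat.card_zmod]; omega
  have hrc : ringChar (ZMod p) ≠ 2 := by rw [ZMod.ringChar_zmod_n]; omega
  obtain ⟨y, hy, hy0, e1, e2⟩ := exists_inv (genP hp) hrc hk3 ha hb h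
  obtain ⟨hym, -, -⟩ := hb.of_mem_vsp hy hy0
  refine ⟨onePlus a ha.sq * (onePlus y hym.sq)⁻¹, (clsGrp G a).mul_mem
    (onePlus_mem_clsGrp ha .refl)
    ((clsGrp G a).inv_mem (onePlus_mem_clsGrp hym (hab.trans (hsame y hy hy0)))), ?_⟩
  rw [(cj_inv_identity ha.sq hym.sq e1 e2).2, vsp_neg]
  exact hb.vsp_eq hy hy0

theorem adj_move {a b : EndM} (hab : Adj G a b) :
    ∃ g ∈ clsGrp G a, vsp G (cj g a) = vsp G b := by
  obtain ⟨ha, hb, hne⟩ := id hab
  have h2 := two_ne hp
  have hsame : ∀ {b : EndM}, IsMin G b → ∀ y ∈ vsp G b, y ≠ 0 → Same G b y :=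
    fun hb y hy hy0 => same_of_mem_vsp hp hG hb hy hy0
  by_cases h : a * b * a = 0
  swap
  · exact exists_move_opp hp ha hb h (.single hab) (hsame hb)
  obtain ⟨hw, -, -⟩ := bracket_min h2 ha hb h hne
  have hbab := bab_of_aba h2 ha hb h
  obtain ⟨-, -, e1, e2, e3, e4⟩ := bracket_facts ha.sq hb.sq ha.fam hb.fam h hbab
  set w := a * b - b * a with hwdef
  obtain ⟨y, hym, hyp, hwy⟩ := exists_opposite hp hG hw
  -- moving one of the two to `w`
  have toW : ∀ {a b : EndM}, Adj G a b → ∀ s : ZMod p, s ≠ 0 → a * b - b * a = s • w → b * a * b = 0 →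
      b * w = 0 → w * b = 0 → ∃ g ∈ clsGrp G a, vsp G (cj g a) = vsp G w ∧ Same G a w := by
    intro a b hab s hs hbr hbab hbw hwb
    obtain ⟨ha, hb, hne⟩ := id hab
    have hd : ∀ c : ZMod p, cj (onePlus (c • b) (smul_sq hb.sq c)) a = a - (c * s) • w := fun c => by
      rw [mul_smul, ← hbr, cj, coe_onePlus, coe_onePlus_inv]
      simp only [mul_sub, add_mul, mul_one, one_mul, smul_mul_assoc, mul_smul_comm, hbab, smul_zero,
        add_zero, smul_sub]
      abel
    obtain ⟨c, hc⟩ : ∃ c : ZMod p, (a - (c * s) • w) * y * (a - (c * s) • w) ≠ 0 := by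
      by_contra hall
      push Not at hall
      have h0 := hall 0
      have h1 := hall s⁻¹
      have h3 := hall (-s⁻¹)
      rw [inv_mul_cancel₀ hs] at h1
      rw [neg_mul, inv_mul_cancel₀ hs] at h3
      rw [zero_mul, zero_smul, sub_zero] at h0
      simp only [sub_mul, mul_sub, smul_mul_assoc, mul_smul_comm, hyp.xyx, smul_smul, h0] at h1 h3
      refine hw.ne (smul_right_injective EndM h2 (?_ : (2 : ZMod p) • w = (2 : ZMod p) • (0 : EndM)))
      calc (2 : ZMod p) • w = (0 : EndM) + 0 := by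
            conv_rhs => arg 1; rw [← h1]
            conv_rhs => arg 2; rw [← h3]
            module
        _ = _ := by rw [add_zero, smul_zero]
    have hcm := ((hb.fam c).onePlus_mem (smul_sq hb.sq c))
    have ham : IsMin G (a - (c * s) • w) := hd c ▸ ha.cj hcm
    have hgb : onePlus (c • b) (smul_sq hb.sq c) ∈ clsGrp G a := by
      rcases eq_or_ne c 0 with rfl | hc0
      · rw [show onePlus ((0 : ZMod p) • b) (smul_sq hb.sq 0) = 1 from Units.ext (by simp [coe_onePlus])]
        exact one_mem _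
      · exact onePlus_mem_clsGrp
          (hb.of_mem_vsp ((vsp G b).smul_mem c hb.self_mem_vsp) (smul_ne_zero hc0 hb.ne)).1
          ((Relation.ReflTransGen.single hab).trans
            (hsame hb _ ((vsp G b).smul_mem c hb.self_mem_vsp) (smul_ne_zero hc0 hb.ne)))
    have hbc : Same G a (a - (c * s) • w) := (Relation.ReflTransGen.single hab).trans
      (.single ⟨hb, ham, fun e => hne (by
        simpa [mul_sub, sub_mul, hbw, hwb] using e.symm)⟩)
    have hy' : Same G (a - (c * s) • w) y := .single ⟨ham, hym, fun e => hc (by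
      rw [e, mul_assoc, ham.sq, mul_zero])⟩
    obtain ⟨g1, hg1, hv1⟩ := exists_move_opp hp ham hym hc hy' (hsame hym)
    have hwy' : y * w * y ≠ 0 := by rw [hyp.yxy]; exact hym.ne
    obtain ⟨g2, hg2, hv2⟩ := exists_move_opp hp hym hw hwy' (.single hwy.symm) (hsame hw)
    rw [← clsGrp_congr hbc] at hg1
    rw [← clsGrp_congr (hbc.trans hy')] at hg2
    refine ⟨g2 * (g1 * onePlus (c • b) (smul_sq hb.sq c)),
      mul_mem hg2 (mul_mem hg1 hgb), ?_, hbc.trans (hy'.trans (.single hwy.symm))⟩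
    rw [← cj_cj, ← cj_cj, hd]
    exact (vsp_cj_congr (ham.cj (clsGrp_le _ hg1)) hym hv1 (clsGrp_le _ hg2)).trans hv2
  obtain ⟨g, hg, hgw, hs1⟩ := toW hab 1 one_ne_zero (by rw [one_smul]) hbab e3 e4
  obtain ⟨g', hg', hgw', hs2⟩ := toW hab.symm (-1) (neg_ne_zero.2 one_ne_zero)
    (by rw [neg_one_smul, hwdef, neg_sub]) h e1 e2
  rw [← clsGrp_congr (Relation.ReflTransGen.single hab)] at hg'
  refine ⟨g'⁻¹ * g, mul_mem (inv_mem hg') hg, ?_⟩
  rw [← cj_cj]
  have h1 := vsp_cj_congr (ha.cj (clsGrp_le _ hg)) (hb.cj (clsGrp_le _ hg')) (hgw.trans hgw'.symm)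
    (G.inv_mem (clsGrp_le _ hg'))
  rwa [cj_inv_cj] at h1

theorem exists_move {a b : EndM} (ha : IsMin G a) (h : Same G a b) :
    ∃ g ∈ clsGrp G a, vsp G (cj g a) = vsp G b := by
  induction h with
  | refl => exact ⟨1, one_mem _, by rw [cj_one]⟩
  | @tail c d hac hcd ih =>
    obtain ⟨g, hg, hgc⟩ := ih
    obtain ⟨g', hg', hgd⟩ := adj_move hp hG hcd
    rw [← clsGrp_congr hac] at hg'
    refine ⟨g' * g, mul_mem hg' hg, ?_⟩
    rw [← cj_cj, vsp_cj_congr (ha.cj (clsGrp_le _ hg)) hcd.1 hgc (clsGrp_le _ hg'), hgd]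

omit hp hG in
/-- The stabilizer of a class. -/
def clsStab (G : Subgroup GLM) (a : EndM) : Subgroup GLM where
  carrier := {g | g ∈ G ∧ Same G a (cj g a)}
  one_mem' := ⟨G.one_mem, by rw [cj_one]; exact .refl⟩
  mul_mem' := by
    rintro g h ⟨hg, hga⟩ ⟨hh, hha⟩
    refine ⟨G.mul_mem hg hh, hga.trans ?_⟩
    rw [← cj_cj]
    exact same_cj hha (Subgroup.le_normalizer hg)
  inv_mem' := by
    rintro g ⟨hg, hga⟩
    refine ⟨G.inv_mem hg, ?_⟩
    have := same_cj hga (Subgroup.le_normalizer (G.inv_mem hg))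
    rw [cj_inv_cj] at this
    exact this.symm

/-- A quadratic element fixes every class. -/
theorem same_cj_of_quadratic {a : EndM} (ha : IsMin G a) {g : GLM} (hg : g ∈ G)
    (hq : ((g : EndM) - 1) * ((g : EndM) - 1) = 0) : Same G a (cj g a) := by
  set x := (g : EndM) - 1 with hxdef
  have hge : g = onePlus x hq := eq_onePlus hq (add_sub_cancel _ _).symm
  have hpow : ∀ j : ℕ, g ^ j = onePlus ((j : ZMod p) • x) (smul_sq hq _) := by
    intro j
    induction j with
    | zero => exact Units.ext (by simp [coe_onePlus])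
    | succ j ih =>
      rw [pow_succ, ih, hge]
      refine Units.ext ?_
      rw [Units.val_mul, coe_onePlus, coe_onePlus, coe_onePlus, mul_add, mul_one, add_mul, one_mul,
        smul_mul_assoc, hq, smul_zero, add_zero, Nat.cast_succ, add_smul, one_smul, add_assoc]
  have hgp : g ^ p = 1 := by
    rw [hpow]
    exact Units.ext (by simp [coe_onePlus])
  by_contra hno
  obtain ⟨y, hym, -, hadj⟩ := exists_opposite hp hG ha
  have hst : ∀ j : ℕ, 0 < j → j < p → ¬ Same G a (cj (g ^ j) a) := by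
    intro j hj0 hjp hs
    have hmem : g ^ j ∈ clsStab G a := ⟨G.pow_mem hg j, hs⟩
    have hc : Nat.Coprime j p := ((Fact.out : p.Prime).coprime_iff_not_dvd.2
      (fun h => absurd (Nat.le_of_dvd hj0 h) (by omega))).symm
    obtain ⟨m, hm⟩ := exists_pow_eq_self_of_coprime (hc.coprime_dvd_right (orderOf_dvd_of_pow_eq_one hgp))
    have := (clsStab G a).pow_mem hmem m
    rw [hm] at this
    exact hno this.2
  have hcom : ∀ j : ℕ, 0 < j → j < p → cj (g ^ j) a * y = y * cj (g ^ j) a := fun j h0 h1 =>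
    commute_of_not_same (ha.cj (G.pow_mem hg j)) hym .refl
      (fun h => hst j h0 h1 ((Relation.ReflTransGen.single hadj).trans h.symm))
  refine hadj.2.2 ?_
  have e : a = cj (g ^ 3) a - (3 : ZMod p) • cj (g ^ 2) a + (3 : ZMod p) • cj (g ^ 1) a := by
    simp only [hpow, cj, coe_onePlus, coe_onePlus_inv, mul_sub, add_mul, mul_one, one_mul,
      smul_mul_assoc, mul_smul_comm, smul_sub, smul_add, smul_smul, Nat.cast_ofNat, Nat.cast_one]
    module
  rw [e]
  simp only [add_mul, sub_mul, mul_add, mul_sub, smul_mul_assoc, mul_smul_comm,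
    hcom 1 one_pos (by omega), hcom 2 two_pos (by omega), hcom 3 three_pos (by omega)]

end

end Cfsg.Agent.FlavellQ
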