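import Cfsg.Agent.Lib.FlavellQ.Root

/-!
# Tuples: one root space in every class

* `IsTuple`: the nonzero elements of one root space from every class;
* `IsTuple.exists_smul_eq`: `G` is transitive on tuples;
* `exists_stab_smul_eq`: the stabilizer of a tuple is transitive on the opposite tuples.
-/

set_option autoImplicit false
set_option linter.unusedSectionVars false

universe u

namespace Cfsg.Agent.FlavellQ

open Cfsg Cfsg.Agent.QuadPair

variable {p : ℕ} [Fact p.Prime] {M : Type u} [AddCommGroup M] [Module (ZMod p) M] [Finite M]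

local notation "GLM" => LinearMap.GeneralLinearGroup (ZMod p) M
local notation "EndM" => Module.End (ZMod p) M

variable {G : Subgroup (LinearMap.GeneralLinearGroup (ZMod p) M)}

/-- Conjugation on sets of endomorphisms. -/
@[instance_reducible] def setAct : MulAction GLM (Set EndM) where
  smul g F := QuadPair.cj g '' F
  one_smul F := by
    show QuadPair.cj (1 : GLM) '' F = F
    rw [Set.image_congr (fun x _ => cj_one x), Set.image_id']
  mul_smul g h F := by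
    show QuadPair.cj (g * h) '' F = QuadPair.cj g '' (QuadPair.cj h '' F)
    rw [Set.image_image, Set.image_congr (fun x _ => cj_cj g h x)]

theorem mem_vsp_cj {v w : EndM} {g : GLM} (hg : g ∈ Subgroup.normalizer (G : Set GLM))
    (hv : v * v = 0) (hw : w ∈ vsp G v) : cj g w ∈ vsp G (cj g v) := by
  obtain ⟨hf, hr, hk⟩ := (mem_vsp_iff hv).1 hw
  exact (mem_vsp_iff (by rw [← cj_mul, hv, cj_zero])).2
    ⟨((show Qd G w from ⟨mul_eq_zero_of_mem_vsp hw hw, hf⟩).cj_normalizer hg).2, range_cj_le hr,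
      fun m hm => mem_ker_cj.2 (hk (mem_ker_cj.1 hm))⟩

/-- The nonzero elements of one root space from every class. -/
structure IsTuple (G : Subgroup GLM) (F : Set EndM) : Prop where
  min : ∀ v ∈ F, IsMin G v
  eq : ∀ v ∈ F, ∀ w ∈ F, Same G v w → w ∈ vsp G v
  vsp_mem : ∀ v ∈ F, ∀ w ∈ vsp G v, w ≠ 0 → w ∈ F
  ex : ∀ a, IsMin G a → ∃ v ∈ F, Same G a v

theorem IsTuple.cj {F : Set EndM} (hF : IsTuple G F) {g : GLM}
    (hg : g ∈ Subgroup.normalizer (G : Set GLM)) : IsTuple G (QuadPair.cj g '' F) := by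
  have hgi := (Subgroup.normalizer (G : Set GLM)).inv_mem hg
  refine ⟨?_, ?_, ?_, fun a ha => ?_⟩
  · rintro _ ⟨v, hv, rfl⟩
    exact isMin_cj_normalizer (hF.min v hv) hg
  · rintro _ ⟨v, hv, rfl⟩ _ ⟨w, hw, rfl⟩ h
    have h1 := same_cj h hgi
    rw [cj_inv_cj, cj_inv_cj] at h1
    exact mem_vsp_cj hg (hF.min v hv).sq (hF.eq v hv w hw h1)
  · rintro _ ⟨v, hv, rfl⟩ w hw hw0
    refine ⟨QuadPair.cj g⁻¹ w, hF.vsp_mem v hv _ ?_ (fun h => hw0 ?_), cj_cj_inv g w⟩
    · have h1 := mem_vsp_cj hgi (by rw [← cj_mul, (hF.min v hv).sq, cj_zero]) hw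
      rwa [cj_inv_cj] at h1
    · rw [← cj_cj_inv g w, h, cj_zero]
  · obtain ⟨v, hv, h⟩ := hF.ex _ (isMin_cj_normalizer ha hgi)
    have h1 := same_cj h hg
    rw [cj_cj_inv] at h1
    exact ⟨_, ⟨v, hv, rfl⟩, h1⟩

theorem IsTuple.eq_of_subset {F F' : Set EndM} (hF : IsTuple G F) (hF' : IsTuple G F')
    (h : F ⊆ F') : F = F' := by
  refine h.antisymm fun w hw => ?_
  obtain ⟨v, hv, hwv⟩ := hF.ex w (hF'.min w hw)
  exact hF.vsp_mem v hv w (hF'.eq v (h hv) w hw hwv.symm) (hF'.min w hw).ne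

theorem diff_lt {F F' : Set EndM} (hF : IsTuple G F) (hF' : IsTuple G F') {g : GLM} (hg : g ∈ G)
    {v v' : EndM} (hv : v ∈ F) (hvn : v ∉ F') (hv' : v' ∈ F') (hvv : Same G v v')
    (hto : vsp G (cj g v) = vsp G v') (hfix : ∀ u ∈ F, ¬ Same G v u → cj g u = u) :
    ((cj g '' F) \ F').ncard < (F \ F').ncard := by
  have hcv := (hF.min v hv).cj hg
  have key : ∀ u ∈ F, cj g u ∉ F' → cj g u = u := by
    intro u hu hun
    refine hfix u hu fun hs => hun ?_
    have h1 := cj_mem_vsp hg (hF.min v hv).sq (hF.eq v hv u hu hs)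
    rw [hto] at h1
    exact hF'.vsp_mem v' hv' _ h1 ((hF.min u hu).cj hg).ne
  refine Set.ncard_lt_ncard ⟨?_, ?_⟩ (Set.toFinite _)
  · rintro _ ⟨⟨u, hu, rfl⟩, hn⟩
    have h1 := key u hu hn
    rw [h1] at hn ⊢
    exact ⟨hu, hn⟩
  · intro hsub
    obtain ⟨⟨u, hu, hue⟩, -⟩ := hsub ⟨hv, hvn⟩
    have hun : cj g u ∉ F' := by rwa [hue]
    have h1 := key u hu hun
    rw [hue] at h1
    subst h1
    refine hvn (hF'.vsp_mem v' hv' v ?_ (hF.min v hv).ne)
    rw [← hto, hue]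
    exact (hF.min v hv).self_mem_vsp

theorem IsTuple.exists_smul_eq (hp : 3 < p) (hG : pCore p G = ⊥) {F F' : Set EndM}
    (hF : IsTuple G F) (hF' : IsTuple G F') : ∃ g ∈ G, QuadPair.cj g '' F = F' := by
  induction hn : (F \ F').ncard using Nat.strong_induction_on generalizing F with
  | _ n ih =>
  by_cases hsub : F ⊆ F'
  · exact ⟨1, G.one_mem, by rw [Set.image_congr (fun x _ => cj_one x), Set.image_id',
      hF.eq_of_subset hF' hsub]⟩
  obtain ⟨v, hv, hvn⟩ := Set.not_subset.1 hsub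
  obtain ⟨v', hv', hs⟩ := hF'.ex v (hF.min v hv)
  obtain ⟨g, hg, hto⟩ := exists_move hp hG (hF.min v hv) hs
  have hlt := diff_lt hF hF' (clsGrp_le _ hg) hv hvn hv' hs hto fun u hu h =>
    cj_eq_of_mem_clsGrp (hF.min u hu) h hg
  obtain ⟨g', hg', e⟩ := ih _ (hn ▸ hlt) (hF.cj (Subgroup.le_normalizer (clsGrp_le _ hg))) rfl
  refine ⟨g' * g, G.mul_mem hg' (clsGrp_le _ hg), ?_⟩
  rw [← e, Set.image_image]
  exact Set.image_congr fun x _ => (cj_cj g' g x).symm

/-- `B` contains a partner of each element of `F`. -/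
def IsOpp (G : Subgroup GLM) (F B : Set EndM) : Prop :=
  IsTuple G B ∧ ∀ a ∈ F, ∃ b ∈ B, IsPair a b

theorem adj_of_isPair {a b : EndM} (ha : IsMin G a) (hb : IsMin G b) (h : IsPair a b) :
    Adj G a b :=
  ⟨ha, hb, fun e => ha.ne (by rw [← h.xyx, e, mul_assoc, ha.sq, mul_zero])⟩

theorem mul_eq_of_mem_Kgrp {a u : EndM} (ha : a * a = 0) (hu : u ∈ vsp G a) {k : GLM}
    (hk : k ∈ Kgrp G a) : cj k u = u := by
  obtain ⟨-, h1, h2, -⟩ := hk
  obtain ⟨-, hr, hker⟩ := (mem_vsp_iff ha).1 hu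
  have e1 : (k : EndM) * u = u := LinearMap.ext fun m => by
    obtain ⟨n, hn⟩ := hr (LinearMap.mem_range_self u m)
    rw [Module.End.mul_apply, ← hn, ← Module.End.mul_apply, h1]
  have e2 : u * (k : EndM) = u := LinearMap.ext fun m => by
    have h3 : a ((k : EndM) m - m) = 0 := by
      rw [map_sub, ← Module.End.mul_apply, h2, sub_self]
    have h4 : u ((k : EndM) m - m) = 0 := LinearMap.mem_ker.1 (hker h3)
    rwa [map_sub, sub_eq_zero] at h4
  exact cj_eq_self_iff.2 (e1.trans e2.symm)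

theorem exists_stab_smul_eq (hp : 3 < p) {F B B' : Set EndM} (hF : IsTuple G F)
    (hB : IsOpp G F B) (hB' : IsOpp G F B') :
    ∃ g ∈ G, QuadPair.cj g '' F = F ∧ QuadPair.cj g '' B = B' := by
  induction hn : (B \ B').ncard using Nat.strong_induction_on generalizing B with
  | _ n ih =>
  by_cases hsub : B ⊆ B'
  · exact ⟨1, G.one_mem, by rw [Set.image_congr (fun x _ => cj_one x), Set.image_id'],
      by rw [Set.image_congr (fun x _ => cj_one x), Set.image_id', hB.1.eq_of_subset hB'.1 hsub]⟩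
  obtain ⟨w, hw, hwn⟩ := Set.not_subset.1 hsub
  obtain ⟨a, ha, hwa⟩ := hF.ex w (hB.1.min w hw)
  have ham := hF.min a ha
  obtain ⟨b, hb, hab⟩ := hB.2 a ha
  have hbm := hB.1.min b hb
  have hbw := hB.1.eq b hb w hw ((show Same G a b from .single (adj_of_isPair ham hbm hab)).symm.trans hwa.symm)
  have hbn : b ∉ B' := fun h => hwn (hB'.1.vsp_mem b h w hbw (hB.1.min w hw).ne)
  obtain ⟨b', hb', hab'⟩ := hB'.2 a ha
  obtain ⟨k, hk, hkb, hcom⟩ := exists_conj_pair hp hab hab' ham.fam hbm.fam (hB'.1.min b' hb').fam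
  have hkG : k ∈ G := hk.1
  have hsb : Same G a b := .single (adj_of_isPair ham hbm hab)
  have hsb' : Same G a b' := .single (adj_of_isPair ham (hB'.1.min b' hb') hab')
  have hfix : ∀ u, IsMin G u → ¬ Same G a u → cj k u = u := fun u hu hns =>
    cj_eq_self_iff.2 (hcom u (commute_of_not_same ham hu .refl hns).symm
      (commute_of_not_same hbm hu hsb hns).symm
      (commute_of_not_same (hB'.1.min b' hb') hu hsb' hns).symm).symm.eq
  have hkF : ∀ u ∈ F, cj k u = u := fun u hu => by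
    by_cases hns : Same G a u
    · exact mul_eq_of_mem_Kgrp ham.sq (hF.eq a ha u hu hns) hk
    · exact hfix u (hF.min u hu) hns
  have hlt := diff_lt hB.1 hB'.1 hkG hb hbn hb' (hsb.symm.trans hsb') (by rw [hkb])
    fun u hu h => hfix u (hB.1.min u hu) fun h' => h (hsb.symm.trans h')
  have hB2 : IsOpp G F (QuadPair.cj k '' B) := by
    refine ⟨hB.1.cj (Subgroup.le_normalizer hkG), fun u hu => ?_⟩
    obtain ⟨c, hc, hcp⟩ := hB.2 u hu
    have h1 := hcp.cj k
    rw [hkF u hu] at h1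
    exact ⟨_, ⟨c, hc, rfl⟩, h1⟩
  obtain ⟨g, hg, e1, e2⟩ := ih _ (hn ▸ hlt) hB2 rfl
  have e3 : QuadPair.cj k '' F = F := (Set.image_congr hkF).trans (Set.image_id' F)
  refine ⟨g * k, G.mul_mem hg hkG, ?_, ?_⟩
  · rw [Set.image_congr (fun x _ => (cj_cj g k x).symm), ← Set.image_image, e3, e1]
  · rw [Set.image_congr (fun x _ => (cj_cj g k x).symm), ← Set.image_image, e2]

/-- A tuple from a witness in each class. -/
theorem exists_tuple (hp : 3 < p) (hG : pCore p G = ⊥) {P : EndM → Prop}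
    (h : ∀ a, IsMin G a → ∃ b, Same G a b ∧ P b) :
    ∃ F, IsTuple G F ∧ ∀ v ∈ F, ∃ b ∈ F, v ∈ vsp G b ∧ P b := by
  classical
  set pick : Set EndM → EndM := fun C => if h : ∃ b ∈ C, P b then h.choose else 0
  set rep : EndM → EndM := fun a => pick {d | Same G a d}
  have hrep : ∀ a, IsMin G a → Same G a (rep a) ∧ P (rep a) := by
    intro a ha
    have hex : ∃ b ∈ ({d | Same G a d} : Set EndM), P b := let ⟨b, h1, h2⟩ := h a ha; ⟨b, h1, h2⟩
    show Same G a (pick _) ∧ P (pick _)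
    simp only [pick, dif_pos hex]
    exact hex.choose_spec
  have hcongr : ∀ a b, Same G a b → rep a = rep b := fun a b hab => by
    show pick _ = pick _
    congr 1
    ext d
    exact ⟨hab.symm.trans, hab.trans⟩
  set F : Set EndM := {v | ∃ a, IsMin G a ∧ v ∈ vsp G (rep a) ∧ v ≠ 0}
  have hsame : ∀ {a v : EndM}, IsMin G a → v ∈ vsp G (rep a) → v ≠ 0 → Same G a v :=
    fun ha hv hv0 => (hrep _ ha).1.trans
      (same_of_mem_vsp hp hG ((hrep _ ha).1.isMin ha) hv hv0)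
  refine ⟨F, ⟨?_, ?_, ?_, fun a ha => ?_⟩, ?_⟩
  · rintro v ⟨a, ha, hv, hv0⟩
    exact (hsame ha hv hv0).isMin ha
  · rintro v ⟨a, ha, hv, hv0⟩ w ⟨b, hb, hw, hw0⟩ hvw
    have e := hcongr a b ((hsame ha hv hv0).trans (hvw.trans (hsame hb hw hw0).symm))
    rw [((hrep a ha).1.isMin ha).vsp_eq hv hv0, e]
    exact hw
  · rintro v ⟨a, ha, hv, hv0⟩ w hw hw0
    rw [((hrep a ha).1.isMin ha).vsp_eq hv hv0] at hw
    exact ⟨a, ha, hw, hw0⟩
  · exact ⟨rep a, ⟨a, ha, ((hrep a ha).1.isMin ha).self_mem_vsp, ((hrep a ha).1.isMin ha).ne⟩,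
      (hrep a ha).1⟩
  · rintro v ⟨a, ha, hv, hv0⟩
    exact ⟨rep a, ⟨a, ha, ((hrep a ha).1.isMin ha).self_mem_vsp, ((hrep a ha).1.isMin ha).ne⟩, hv,
      (hrep a ha).2⟩

theorem exists_isOpp (hp : 3 < p) (hG : pCore p G = ⊥) {F : Set EndM} (hF : IsTuple G F) :
    ∃ B, IsOpp G F B := by
  obtain ⟨B, hB, hBP⟩ := exists_tuple hp hG
    (P := fun b => IsMin G b ∧ ∀ a ∈ F, Same G a b → a * b * a ≠ 0) fun c hc => by
    obtain ⟨a, ha, hca⟩ := hF.ex c hc
    obtain ⟨y, hy, hay, hadj⟩ := exists_opposite hp hG (hF.min a ha)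
    refine ⟨y, hca.trans (.single hadj), hy, fun a' ha' h => ?_⟩
    exact aba_ne_zero_of_vsp (two_ne hp) (hF.min a ha) hy (by rw [hay.xyx]; exact (hF.min a ha).ne)
      (hF.eq a ha a' ha' ((Relation.ReflTransGen.single hadj).trans h.symm)) (hF.min a' ha').ne
      hy.self_mem_vsp hy.ne
  refine ⟨B, hB, fun a ha => ?_⟩
  obtain ⟨v, hv, hav⟩ := hB.ex a (hF.min a ha)
  obtain ⟨b, hb, hvb, hbm, hbP⟩ := hBP v hv
  have hab : Same G a b := hav.trans (same_of_mem_vsp hp hG hbm hvb (hB.min v hv).ne).symm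
  obtain ⟨y, hy, hy0, e1, e2⟩ := exists_inv (genP hp) (by rw [ZMod.ringChar_zmod_n]; omega)
    (by rw [Nat.card_zmod]; omega) (hF.min a ha) hbm (hbP a ha hab)
  exact ⟨y, hB.vsp_mem b hb y hy hy0,
    ⟨(hF.min a ha).sq, mul_eq_zero_of_mem_vsp hy hy, e1, e2⟩⟩

end Cfsg.Agent.FlavellQ
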