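import Cfsg.Agent.Lib.QuadPair.SL2Finite
import Cfsg.Agent.Lib.QuadPair.Opposite
import Cfsg.Agent.Lib.Involution.BaerSuzuki
import Cfsg.Agent.Lib.PCore.Basic
import Cfsg.Agent.Lib.RootSubgroups.UnipotentJoin
import Mathlib.Algebra.CharP.Lemmas

/-!
# Quadratic elements over the prime field: `p`-groups and nilpotency

* `exists_disp_pow_eq_bot`: a `p`-group of linear maps in characteristic `p` acts unipotently;
* `isPGroup_pair_of_isNilpotent`: `x y + y x` nilpotent makes `⟨1 + x, 1 + y⟩` a `p`-group;
* `exists_conj_not_isNilpotent`: Baer-Suzuki for a quadratic element outside `O_p(G)`.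
-/

set_option autoImplicit false
set_option linter.style.haveILetI false
set_option linter.unusedSectionVars false

universe u

namespace Cfsg.Agent.FlavellQ

open Cfsg Cfsg.Agent.QuadPair
open RootSubgroups.UnipotentJoin (disp mem_disp)

variable {p : ℕ} [Fact p.Prime] {M : Type u} [AddCommGroup M] [Module (ZMod p) M] [Finite M]

local notation "GLM" => LinearMap.GeneralLinearGroup (ZMod p) M
local notation "EndM" => Module.End (ZMod p) M

instance finite_end : Finite EndM := Finite.of_injective _ DFunLike.coe_injective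

/-- `x² = 0` and `1 + x ∈ G`. -/
def Qd (G : Subgroup GLM) (x : EndM) : Prop := x * x = 0 ∧ Fam G x

theorem fam_of_mem {G : Subgroup GLM} {x : EndM} (hx : x * x = 0) (h : Mem G x) : Fam G x := by
  intro c
  obtain ⟨g, hg, e⟩ := h
  refine ⟨g ^ c.val, G.pow_mem hg _, ?_⟩
  have key : ∀ n : ℕ, ((g ^ n : GLM) : EndM) = 1 + (n : ZMod p) • x := by
    intro n
    induction n with
    | zero => simp
    | succ n ih =>
      rw [pow_succ, Units.val_mul, ih, e, mul_add, mul_one, add_mul, one_mul, smul_mul_assoc, hx,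
        smul_zero, add_zero, Nat.cast_succ, add_smul, one_smul, add_assoc]
  rw [key, ZMod.natCast_val, ZMod.cast_id]

theorem qd_of_mem {G : Subgroup GLM} {g : GLM} (hg : g ∈ G)
    (h : ((g : EndM) - 1) * ((g : EndM) - 1) = 0) : Qd G ((g : EndM) - 1) :=
  ⟨h, fam_of_mem h ⟨g, hg, (add_sub_cancel _ _).symm⟩⟩

theorem Qd.mem {G : Subgroup GLM} {x : EndM} (h : Qd G x) : onePlus x h.1 ∈ G :=
  h.2.mem.onePlus_mem h.1

theorem Qd.mono {G H : Subgroup GLM} (hle : G ≤ H) {x : EndM} (h : Qd G x) : Qd H x :=
  ⟨h.1, fun c => let ⟨g, hg, e⟩ := h.2 c; ⟨g, hle hg, e⟩⟩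

theorem Qd.cj {G : Subgroup GLM} {x : EndM} (h : Qd G x) {g : GLM} (hg : g ∈ G) :
    Qd G (QuadPair.cj g x) :=
  ⟨by rw [← cj_mul, h.1, cj_zero], h.2.cj hg⟩

variable (hp : 3 < p)
include hp

theorem two_ne : (2 : ZMod p) ≠ 0 := by
  intro h
  have h1 : ((2 : ℕ) : ZMod p) = 0 := by exact_mod_cast h
  rw [ZMod.natCast_eq_zero_iff] at h1
  exact absurd (Nat.le_of_dvd two_pos h1) (by omega)

theorem genP : GenProp (ZMod p) :=
  genProp (two_ne hp) (by rw [Nat.card_zmod]; omega)

omit hp

/-! ### `p`-groups act unipotently -/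

theorem exists_disp_pow_eq_bot {U : Subgroup GLM} (hU : IsPGroup p U) : ∃ n, disp U ^ n = ⊥ := by
  classical
  have hinv : ∀ n, ∀ x ∈ disp U ^ n, ∀ g ∈ U, x * (g : EndM) ∈ disp U ^ n ⊔ disp U ^ (n + 1) := by
    intro n x hx g hg
    rw [show x * (g : EndM) = x + x * ((g : EndM) - 1) by noncomm_ring]
    refine add_mem (Submodule.mem_sup_left hx) (Submodule.mem_sup_right ?_)
    rw [pow_succ]
    exact Submodule.mul_mem_mul hx (mem_disp hg)
  -- the vectors killed by a power of `disp U`
  let W : Submodule (ZMod p) M :=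
    { carrier := {m | ∃ n, ∀ x ∈ disp U ^ n, x m = 0}
      add_mem' := by
        rintro a b ⟨i, hi⟩ ⟨j, hj⟩
        refine ⟨i + j, fun x hx => ?_⟩
        have ha : x a = 0 := by
          rw [add_comm, pow_add] at hx
          refine Submodule.mul_induction_on hx (fun y hy z hz => ?_) (fun y z hy hz => ?_)
          · rw [Module.End.mul_apply, hi z hz, map_zero]
          · rw [LinearMap.add_apply, hy, hz, add_zero]
        have hb : x b = 0 := by
          rw [pow_add] at hx
          refine Submodule.mul_induction_on hx (fun y hy z hz => ?_) (fun y z hy hz => ?_)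
          · rw [Module.End.mul_apply, hj z hz, map_zero]
          · rw [LinearMap.add_apply, hy, hz, add_zero]
        rw [map_add, ha, hb, add_zero]
      zero_mem' := ⟨0, fun x _ => map_zero x⟩
      smul_mem' := by
        rintro c a ⟨i, hi⟩
        exact ⟨i, fun x hx => by rw [map_smul, hi x hx, smul_zero]⟩ }
  have hWinv : ∀ g ∈ U, W ≤ W.comap (g : EndM) := by
    rintro g hg m ⟨n, hn⟩
    refine ⟨n + 1, fun x hx => ?_⟩
    have e : (g : EndM) m = m + ((g : EndM) - 1) m := by simp
    have h1 : x m = 0 := by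
      rw [pow_succ'] at hx
      refine Submodule.mul_induction_on hx (fun y hy z hz => ?_) (fun y z hy hz => ?_)
      · rw [Module.End.mul_apply, hn z hz, map_zero]
      · rw [LinearMap.add_apply, hy, hz, add_zero]
    have h2 : x (((g : EndM) - 1) m) = 0 := by
      rw [← Module.End.mul_apply]
      have h3 : x * ((g : EndM) - 1) ∈ disp U ^ (n + 1 + 1) := by
        rw [pow_succ]
        exact Submodule.mul_mem_mul hx (mem_disp hg)
      rw [show n + 1 + 1 = 2 + n by omega, pow_add] at h3
      refine Submodule.mul_induction_on h3 (fun y hy z hz => ?_) (fun y z hy hz => ?_)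
      · rw [Module.End.mul_apply, hn z hz, map_zero]
      · rw [LinearMap.add_apply, hy, hz, add_zero]
    rw [e, map_add, h1, h2, add_zero]
  have htop : W = ⊤ := by
    by_contra hne
    letI : MulAction U (M ⧸ W) :=
      { smul := fun g q => W.mapQ W ((g : GLM) : EndM) (hWinv g g.2) q
        one_smul := fun q => by
          induction q using Submodule.Quotient.induction_on with
          | _ m => rfl
        mul_smul := fun g h q => by
          induction q using Submodule.Quotient.induction_on with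
          | _ m => rfl }
    have : Finite (M ⧸ W) := Finite.of_surjective _ (Submodule.Quotient.mk_surjective W)
    haveI : Nontrivial (M ⧸ W) := Submodule.Quotient.nontrivial_iff.2 hne
    have hdvd : p ∣ Nat.card (M ⧸ W) := by
      obtain ⟨q, hq⟩ := exists_ne (0 : M ⧸ W)
      have h1 : addOrderOf q = p := addOrderOf_eq_prime (by
        induction q using Submodule.Quotient.induction_on with
        | _ m =>
          rw [← Submodule.Quotient.mk_smul, ← Nat.cast_smul_eq_nsmul (ZMod p), ZMod.natCast_self,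
            zero_smul, Submodule.Quotient.mk_zero]) hq
      have h2 := addOrderOf_dvd_natCard q
      rwa [h1] at h2
    have h0 : (0 : M ⧸ W) ∈ MulAction.fixedPoints U (M ⧸ W) := fun g => map_zero (W.mapQ W _ _)
    obtain ⟨q, hq, hne0⟩ := hU.exists_fixed_point_of_prime_dvd_card_of_fixed_point _ hdvd h0
    obtain ⟨v, rfl⟩ := Submodule.Quotient.mk_surjective W q
    refine hne0 ((Submodule.Quotient.mk_eq_zero W).2 ?_).symm
    have hv : ∀ g ∈ U, ((g : EndM) - 1) v ∈ W := fun g hg => by
      have h1 : Submodule.Quotient.mk ((g : EndM) v) = (Submodule.Quotient.mk v : M ⧸ W) := hq ⟨g, hg⟩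
      rw [Submodule.Quotient.eq] at h1
      simpa using h1
    have hxv : ∀ x ∈ disp U, x v ∈ W := by
      intro x hx
      refine Submodule.span_induction ?_ ?_ ?_ ?_ hx
      · rintro _ ⟨g, hg, rfl⟩
        exact hv g hg
      · rw [LinearMap.zero_apply]; exact zero_mem W
      · intro y z _ _ hy hz
        rw [LinearMap.add_apply]; exact add_mem hy hz
      · intro c y _ hy
        rw [LinearMap.smul_apply]; exact W.smul_mem c hy
    choose n hn using fun x : disp U => hxv x.1 x.2
    have := Fintype.ofFinite (disp U)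
    refine ⟨Finset.univ.sup n + 1, fun x hx => ?_⟩
    rw [pow_succ] at hx
    refine Submodule.mul_induction_on hx (fun y hy z hz => ?_) (fun y z hy hz => ?_)
    · rw [Module.End.mul_apply]
      obtain ⟨j, hj⟩ := Nat.exists_eq_add_of_le (Finset.le_sup (f := n) (Finset.mem_univ ⟨z, hz⟩))
      rw [hj, add_comm, pow_add] at hy
      refine Submodule.mul_induction_on hy (fun a ha b hb => ?_) (fun a b ha hb => ?_)
      · rw [Module.End.mul_apply, hn _ b hb, map_zero]
      · rw [LinearMap.add_apply, ha, hb, add_zero]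
    · rw [LinearMap.add_apply, hy, hz, add_zero]
  choose n hn using fun m : M => (htop ▸ Submodule.mem_top : m ∈ W)
  have := Fintype.ofFinite M
  refine ⟨Finset.univ.sup n, eq_bot_iff.2 fun x hx => (Submodule.mem_bot _).2 (LinearMap.ext fun m => ?_)⟩
  obtain ⟨j, hj⟩ := Nat.exists_eq_add_of_le (Finset.le_sup (f := n) (Finset.mem_univ m))
  rw [hj, add_comm, pow_add] at hx
  refine Submodule.mul_induction_on hx (fun a ha b hb => ?_) (fun a b ha hb => ?_)
  · rw [Module.End.mul_apply, hn _ b hb, map_zero]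
    rfl
  · rw [LinearMap.add_apply, ha, hb, LinearMap.zero_apply, add_zero]

/-- Quadratic elements of a `p`-group have nilpotent `x y + y x`. -/
theorem isNilpotent_of_mem_pGroup {U : Subgroup GLM} (hU : IsPGroup p U) {g h : GLM} (hg : g ∈ U)
    (hh : h ∈ U) : IsNilpotent (((g : EndM) - 1) * ((h : EndM) - 1) +
      ((h : EndM) - 1) * ((g : EndM) - 1)) := by
  obtain ⟨n, hn⟩ := exists_disp_pow_eq_bot hU
  refine ⟨n, (Submodule.mem_bot (ZMod p)).1 (hn ▸ ?_)⟩
  refine Submodule.pow_mem_pow _ ?_ n
  exact add_mem (RootSubgroups.UnipotentJoin.disp_mul_le U (Submodule.mul_mem_mul (mem_disp hg) (mem_disp hh)))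
    (RootSubgroups.UnipotentJoin.disp_mul_le U (Submodule.mul_mem_mul (mem_disp hh) (mem_disp hg)))

/-- `g - 1` nilpotent makes `g` a `p`-element. -/
theorem exists_pow_eq_one {g : GLM} {n : ℕ} (h : ((g : EndM) - 1) ^ n = 0) :
    ∃ j : ℕ, g ^ p ^ j = 1 := by
  rcases subsingleton_or_nontrivial EndM with hs | hn
  · exact ⟨0, Units.ext (Subsingleton.elim _ _)⟩
  haveI : CharP EndM p := charP_of_injective_algebraMap (algebraMap (ZMod p) EndM).injective p
  refine ⟨n, Units.ext ?_⟩
  have hle : n ≤ p ^ n := (Nat.lt_pow_self (Fact.out : p.Prime).one_lt).le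
  have h1 : ((g : EndM) - 1) ^ p ^ n = 0 := pow_eq_zero_of_le hle h
  rw [sub_pow_char_pow_of_commute _ _ (Commute.one_right _), one_pow, sub_eq_zero] at h1
  rw [Units.val_pow_eq_pow_val, h1, Units.val_one]

theorem isPGroup_pair_of_isNilpotent {x y : EndM} (hx : x * x = 0) (hy : y * y = 0)
    (hz : IsNilpotent (x * y + y * x)) :
    IsPGroup p (Subgroup.closure ({onePlus x hx, onePlus y hy} : Set GLM)) := by
  obtain ⟨N, hN⟩ := hz
  let E : Subgroup GLM :=
    { carrier := {g | InWords x y 1 g}
      one_mem' := InWords.one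
      mul_mem' := fun hg hh => hg.mul hh
      inv_mem' := fun hg => hg.inv }
  have hle : Subgroup.closure ({onePlus x hx, onePlus y hy} : Set GLM) ≤ E := by
    rw [Subgroup.closure_le]
    rintro g (rfl | rfl)
    · show InWords x y 1 _
      simpa using inWords_left (a := x) (b := y) hx (1 : ZMod p)
    · show InWords x y 1 _
      simpa using inWords_right (a := x) (b := y) hy (1 : ZMod p)
  have hbot : ∀ j, 2 * N + 1 ≤ j → lin x y ^ j = ⊥ := by
    intro j hj
    obtain ⟨i, rfl⟩ := Nat.exists_eq_add_of_le hj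
    have h1 : lin x y ^ (2 * N + 1) = ⊥ := eq_bot_iff.2 ((lin_pow_le hx hy N).1.trans (by
      rw [hN, zero_mul, zero_mul]; simp))
    rw [pow_add, h1, Submodule.bot_mul]
  intro g
  have hw : ∀ m : ℕ, (((g : GLM) : EndM) - 1) ^ (m + 1) ∈ words x y (m + 1) := by
    intro m
    induction m with
    | zero => rw [pow_one]; exact (hle g.2).1
    | succ m ih =>
      rw [pow_succ]
      exact mul_mem_words ih (hle g.2).1
  have h0 : (((g : GLM) : EndM) - 1) ^ (2 * N + 1) = 0 := by
    have h1 : words x y (2 * N + 1) ≤ ⊥ := iSup_le fun j => (hbot _ (by omega)).le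
    exact (Submodule.mem_bot _).1 (h1 (hw (2 * N)))
  obtain ⟨j, hj⟩ := exists_pow_eq_one h0
  exact ⟨j, Subtype.ext hj⟩

/-- A quadratic element outside `O_p(G)` forms a non-nilpotent pair with a conjugate. -/
theorem exists_conj_not_isNilpotent {G : Subgroup GLM} {x : EndM} (hx : Qd G x)
    (hG : (⟨onePlus x hx.1, hx.mem⟩ : G) ∉ pCore p G) :
    ∃ g ∈ G, ¬ IsNilpotent (x * cj g x + cj g x * x) := by
  by_contra hall
  push Not at hall
  have hB := Involution.baer_suzuki (p := p) (⟨onePlus x hx.1, hx.mem⟩ : G) fun g => by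
    have h1 : Qd G (cj (g : GLM) x) := hx.cj g.2
    have h2 := isPGroup_pair_of_isNilpotent hx.1 h1.1 (hall g g.2)
    have e : (g : GLM) * onePlus x hx.1 * (g : GLM)⁻¹ = onePlus (cj (g : GLM) x) h1.1 := by
      refine Units.ext ?_
      rw [coe_onePlus, ← sub_eq_iff_eq_add', ← cj_sub_one, coe_onePlus, add_sub_cancel_left]
    refine IsPGroup.of_equiv ?_ (Subgroup.equivMapOfInjective _ _ G.subtype_injective).symm
    rw [MonoidHom.map_closure, Set.image_pair]
    show IsPGroup p (Subgroup.closure ({onePlus x hx.1,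
      (g : GLM) * onePlus x hx.1 * (g : GLM)⁻¹} : Set GLM))
    rw [e]
    exact h2
  exact hG (PCore.le_pCore (N := Subgroup.normalClosure _) hB
    (Subgroup.subset_normalClosure (Set.mem_singleton _)))

theorem notMem_pCore_of_eq_bot {G : Subgroup GLM} (hG : pCore p G = ⊥) {x : EndM} (hx : Qd G x)
    (hx0 : x ≠ 0) : (⟨onePlus x hx.1, hx.mem⟩ : G) ∉ pCore p G := by
  rw [hG, Subgroup.mem_bot]
  intro h
  have h2 := congrArg (fun g : G => ((g : GLM) : EndM)) h
  simp only [coe_onePlus, OneMemClass.coe_one, Units.val_one, add_eq_left] at h2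
  exact hx0 h2

end Cfsg.Agent.FlavellQ
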